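/-
Elementary facts about the group `S₃ × S₆`: 2-subgroups, signs, involutions.
-/
import Mathlib

set_option autoImplicit false

namespace CfsgSTS

open Equiv

/-- The group `S₃ × S₆`. -/
abbrev W : Type := Equiv.Perm (Fin 3) × Equiv.Perm (Fin 6)

/-- The two signs. -/
def psi : W →* ℤˣ × ℤˣ := MonoidHom.prodMap Equiv.Perm.sign Equiv.Perm.sign

theorem psi_eq_one {w : W} : psi w = 1 ↔ Perm.sign w.1 = 1 ∧ Perm.sign w.2 = 1 := by
  simp [psi, Prod.ext_iff]

theorem psi_sq (w : W) : psi w * psi w = 1 := by
  ext <;> simp [psi]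

theorem three_sq : ∀ p : Perm (Fin 3), p * p * (p * p) = 1 → p * p = 1 := by decide

theorem three_even : ∀ p : Perm (Fin 3), Perm.sign p = 1 → p * p * (p * p) = 1 → p = 1 := by decide

theorem fst_of_sq {w : W} (hw : w * w = 1) (hs : Perm.sign w.1 = 1) : w.1 = 1 := by
  refine three_even _ hs ?_
  have : w.1 * w.1 = 1 := congrArg Prod.fst hw
  rw [this, one_mul]

/-- A group acting on at most seven points has no quaternion subgroup of order eight. -/
theorem no_quat_six {a b : Perm (Fin 6)} (hab : a * a = b * b) (hba : b * a = a⁻¹ * b) : a * a = 1 := by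
  by_contra hne
  obtain ⟨i, hi⟩ : ∃ i, a (a i) ≠ i := by
    by_contra hh
    push Not at hh
    exact hne (Equiv.ext fun i => by simpa using hh i)
  have h4 : ∀ j, a (a (a (a j))) = j := by
    have hb2 : b * (a * a) = (a * a) * b := by rw [hab]; group
    have hb2' : b * (a * a) = (a⁻¹ * a⁻¹) * b := by
      rw [← mul_assoc, hba, mul_assoc, hba, ← mul_assoc]
    have : a * a = a⁻¹ * a⁻¹ := mul_right_cancel (hb2.symm.trans hb2')
    have h1 : a * a * (a * a) = 1 := by
      nth_rewrite 2 [this]
      group
    intro j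
    simpa using Equiv.congr_fun h1 j
  have hbb : ∀ j, b (b j) = a (a j) := fun j => by simpa using (Equiv.congr_fun hab j).symm
  have hba' : ∀ j, a (b (a j)) = b j := fun j => by
    have : a * (b * a) = b := by rw [hba]; group
    simpa using Equiv.congr_fun this j
  -- the orbit of `i` has four points and so does its image under `b`
  have hba2 : ∀ j, b (a j) = a (a (a (b j))) := fun j => by
    conv_rhs => rw [← hba' j]
    rw [h4]
  set o : Finset (Fin 6) := {i, a i, a (a i), a (a (a i))} with ho
  have hcard : o.card = 4 := by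
    have e1 : a i ≠ i := fun e => hi (by rw [e, e])
    have e2 : a (a (a i)) ≠ i := fun e => e1 (by have := congrArg a e; rw [h4] at this; exact this.symm)
    have e3 : a (a i) ≠ a i := fun e => e1 (a.injective e)
    have e4 : a (a (a i)) ≠ a i := fun e => hi (a.injective e)
    have e5 : a (a (a i)) ≠ a (a i) := fun e => e3 (a.injective e)
    rw [ho]
    simp [Finset.card_insert_of_notMem, e1.symm, hi, Ne.symm hi, e2, e2.symm, e3, e3.symm, e4, e4.symm, e5, e5.symm]
  by_cases hbo : b i ∈ o
  · simp only [ho, Finset.mem_insert, Finset.mem_singleton] at hbo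
    have := hbb i
    rcases hbo with e | e | e | e
    · rw [e, e] at this; exact hi this.symm
    · rw [e, hba2, e, h4] at this; exact hi this.symm
    · rw [e, hba2, hba2, e, h4, h4] at this; exact hi this.symm
    · rw [e, hba2, hba2, hba2, e, h4, h4, h4] at this; exact hi this.symm
  · have hdis : Disjoint o (o.image b) := by
      rw [Finset.disjoint_left]
      intro j hj hj'
      simp only [ho, Finset.mem_insert, Finset.mem_singleton, Finset.mem_image, exists_eq_or_imp, exists_eq_left] at hj hj'
      apply hbo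
      simp only [ho, Finset.mem_insert, Finset.mem_singleton]
      rcases hj with rfl | rfl | rfl | rfl <;> rcases hj' with e | e | e | e <;>
        (try simp only [hba2, h4] at e) <;>
        first
        | exact Or.inl e
        | exact Or.inr (Or.inl e)
        | exact Or.inr (Or.inr (Or.inl e))
        | exact Or.inr (Or.inr (Or.inr e))
        | (have e' := congrArg a e; simp only [h4] at e';
           first
           | exact Or.inl e'
           | exact Or.inr (Or.inl e')
           | exact Or.inr (Or.inr (Or.inl e'))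
           | exact Or.inr (Or.inr (Or.inr e')))
        | (have e' := congrArg a (congrArg a e); simp only [h4] at e';
           first
           | exact Or.inl e'
           | exact Or.inr (Or.inl e')
           | exact Or.inr (Or.inr (Or.inl e'))
           | exact Or.inr (Or.inr (Or.inr e')))
        | (have e' := congrArg a (congrArg a (congrArg a e)); simp only [h4] at e';
           first
           | exact Or.inl e'
           | exact Or.inr (Or.inl e')
           | exact Or.inr (Or.inr (Or.inl e'))
           | exact Or.inr (Or.inr (Or.inr e')))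
    have h8 := Finset.card_union_of_disjoint hdis
    rw [Finset.card_image_of_injective _ b.injective, hcard] at h8
    have := Finset.card_le_univ (o ∪ o.image b)
    rw [h8, Fintype.card_fin] at this
    omega

/-- `S₃ × S₆` has no quaternion subgroup of order eight. -/
theorem no_quat {a b : W} (hab : a * a = b * b) (hba : b * a = a⁻¹ * b) : a * a = 1 := by
  refine Prod.ext ?_ (no_quat_six (congrArg Prod.snd hab) (congrArg Prod.snd hba))
  have hb2 : b * (a * a) = (a * a) * b := by rw [hab]; group
  have hb2' : b * (a * a) = (a⁻¹ * a⁻¹) * b := by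
    rw [← mul_assoc, hba, mul_assoc, hba, ← mul_assoc]
  have : a * a = a⁻¹ * a⁻¹ := mul_right_cancel (hb2.symm.trans hb2')
  have h1 : a * a * (a * a) = 1 := by
    nth_rewrite 2 [this]
    group
  exact three_sq _ (congrArg Prod.fst h1)

/-- An elementary abelian group of even permutations of six points has order less than eight. -/
theorem even_elementary_lt {E : Subgroup (Perm (Fin 6))} (hs : ∀ e ∈ E, e * e = 1)
    (heven : ∀ e ∈ E, Perm.sign e = 1) : Nat.card E < 8 := by
  classical
  have := Fact.mk Nat.prime_two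
  by_contra h8
  push Not at h8
  have hE : IsPGroup 2 E := fun e => ⟨1, Subtype.ext (by simpa [pow_two] using hs e e.2)⟩
  set A := alternatingGroup (Fin 6)
  have hEA : E ≤ A := fun e he => Equiv.Perm.mem_alternatingGroup.mpr (heven e he)
  have hA : Nat.card A = 360 := by
    rw [nat_card_alternatingGroup, Nat.card_eq_fintype_card, Fintype.card_fin]; decide
  obtain ⟨n, hn⟩ := hE.exists_card_eq
  have hdvd : Nat.card E ∣ 360 := hA ▸ Subgroup.card_dvd_of_le hEA
  rw [hn] at h8 hdvd
  have hn3 : n = 3 := by
    have : n ≤ 3 := by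
      by_contra hh
      have h16 : 2 ^ 4 ∣ 2 ^ n := pow_dvd_pow 2 (by omega)
      exact absurd (h16.trans hdvd) (by norm_num)
    have : 3 ≤ n := by
      by_contra hh
      have : 2 ^ n ≤ 2 ^ 2 := Nat.pow_le_pow_right (by norm_num) (by omega)
      omega
    omega
  subst hn3
  set E' := E.subgroupOf A
  have hE' : Nat.card E' = 8 := by
    rw [Nat.card_congr (Subgroup.subgroupOfEquivOfLe hEA).toEquiv, hn]; norm_num
  let u : Perm (Fin 6) := swap 0 1 * swap 1 2 * swap 2 3 * swap 4 5
  have huA : u ∈ A := by rw [Equiv.Perm.mem_alternatingGroup]; decide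
  have hu : IsPGroup 2 (Subgroup.zpowers (⟨u, huA⟩ : A)) := by
    have h4 : (⟨u, huA⟩ : A) ^ 4 = 1 := Subtype.ext (by
      show u ^ 4 = 1
      decide)
    intro x
    obtain ⟨k, hk⟩ := Subgroup.mem_zpowers_iff.mp x.2
    refine ⟨2, Subtype.ext ?_⟩
    show (x : A) ^ (2 ^ 2) = 1
    rw [← hk, ← zpow_natCast, ← zpow_mul, mul_comm, zpow_mul, zpow_natCast,
      show (2 ^ 2 : ℕ) = 4 from rfl, h4, one_zpow]
  obtain ⟨P, hP⟩ := hu.exists_le_sylow
  obtain ⟨S, hS⟩ : ∃ S : Sylow 2 A, (S : Subgroup A) = E' := by
    have hcard : Nat.card E' = 2 ^ (Nat.card A).factorization 2 := by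
      rw [hE', hA]
      have h : (360 : ℕ).factorization 2 = 3 := by
        rw [show (360 : ℕ) = 2 ^ 3 * 45 from rfl, Nat.factorization_mul (by norm_num) (by norm_num),
          Finsupp.add_apply, Nat.factorization_eq_zero_of_not_dvd (by norm_num : ¬ 2 ∣ 45),
          Nat.Prime.factorization_pow Nat.prime_two, Finsupp.single_eq_same]
      rw [h]; norm_num
    exact ⟨Sylow.ofCard E' hcard, rfl⟩
  obtain ⟨g, hg⟩ := MulAction.exists_smul_eq A P S
  have hmem : MulAut.conj g (⟨u, huA⟩ : A) ∈ E' := by
    rw [← hS, ← hg]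
    exact ⟨_, hP (Subgroup.mem_zpowers _), rfl⟩
  have h1 := hs _ (Subgroup.mem_subgroupOf.mp hmem)
  have h2 : ((MulAut.conj g ((⟨u, huA⟩ : A) * ⟨u, huA⟩) : A) : Perm (Fin 6)) = 1 := by
    rw [map_mul]; exact h1
  have h3 : (⟨u, huA⟩ : A) * ⟨u, huA⟩ = 1 :=
    (MulAut.conj g).injective (by rw [map_one]; exact Subtype.ext h2)
  have : u * u = 1 := congrArg Subtype.val h3
  exact absurd this (by decide)

/-- An elementary abelian subgroup of `S₆` has order at most eight. -/
theorem elementary_le_eight {E : Subgroup (Perm (Fin 6))} (hs : ∀ e ∈ E, e * e = 1) : Nat.card E ≤ 8 := by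
  classical
  let f : E →* ℤˣ := Perm.sign.comp E.subtype
  have h1 : Nat.card E = Nat.card f.ker * Nat.card f.range := by
    rw [← Subgroup.index_ker f, Subgroup.card_mul_index]
  have h2 : Nat.card f.range ≤ 2 := by
    refine (Nat.card_le_card_of_injective Subtype.val Subtype.val_injective).trans ?_
    simp
  have h3 : Nat.card f.ker < 8 := by
    have : Nat.card f.ker = Nat.card (f.ker.map E.subtype) :=
      Nat.card_congr (Subgroup.equivMapOfInjective _ _ Subtype.val_injective).toEquiv
    rw [this]
    refine even_elementary_lt (fun e he => ?_) (fun e he => ?_)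
    · obtain ⟨e, -, rfl⟩ := he; exact hs _ e.2
    · obtain ⟨e, he, rfl⟩ := he; exact he
  obtain ⟨n, hn⟩ : ∃ n, Nat.card E = 2 ^ n := by
    have := Fact.mk Nat.prime_two
    have hE : IsPGroup 2 E := fun e => ⟨1, Subtype.ext (by simpa [pow_two] using hs e e.2)⟩
    exact hE.exists_card_eq
  rw [hn]
  have : 2 ^ n < 2 ^ 4 := by
    rw [← hn, h1]
    calc Nat.card f.ker * Nat.card f.range ≤ Nat.card f.ker * 2 := Nat.mul_le_mul_left _ h2
      _ < _ := by omega
  calc 2 ^ n ≤ 2 ^ 3 := Nat.pow_le_pow_right (by norm_num) (by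
        have := (Nat.pow_lt_pow_iff_right (by norm_num : 1 < 2)).mp this; omega)
    _ = 8 := by norm_num

/-- Two commuting elements of order three generating a Sylow subgroup of `A₆`, and `u₀` of order four normalising it. -/
def pa : Perm (Fin 6) := swap 0 1 * swap 1 2
def pb : Perm (Fin 6) := swap 3 4 * swap 4 5
def pu : Perm (Fin 6) := swap 0 3 * (swap 1 4 * swap 4 2 * swap 2 5)

theorem pa_sign : Perm.sign pa = 1 := by decide
theorem pb_sign : Perm.sign pb = 1 := by decide
theorem pu_sign : Perm.sign pu = 1 := by decide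
theorem pa_ne : pa ≠ 1 := by decide
theorem pu_a : pu * pa * pu⁻¹ = pb := by decide
theorem pu_b : pu * pb * pu⁻¹ = pa⁻¹ := by decide
theorem pu_sq : pu * pu = swap 1 2 * swap 4 5 := by decide
theorem pa_cube : pa * pa * pa = 1 := by decide
theorem pb_cube : pb * pb * pb = 1 := by decide
theorem pa_pb : pa * pb = pb * pa := by decide

/-- Even involutions of six points are conjugate under the alternating group. -/
theorem conj_sigma {s : Perm (Fin 6)} (hs : s * s = 1) (hne : s ≠ 1) (hev : Perm.sign s = 1) :
    ∃ g : Perm (Fin 6), Perm.sign g = 1 ∧ g * (pu * pu) * g⁻¹ = s := by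
  have h2 : orderOf s = 2 := orderOf_eq_prime (by rw [pow_two, hs]) hne
  obtain ⟨n, hn⟩ := Equiv.Perm.cycleType_prime_order (σ := s) (by rw [h2]; exact Nat.prime_two)
  rw [h2] at hn
  have hsum : (2 * (n + 1)) ≤ 6 := by
    have := Equiv.Perm.sum_cycleType s ▸ Finset.card_le_univ s.support
    rw [hn, Multiset.sum_replicate, Fintype.card_fin] at this
    simp at this
    omega
  have hsg := Equiv.Perm.sign_of_cycleType s
  rw [hn, hev, Multiset.sum_replicate, Multiset.card_replicate] at hsg
  have hn1 : n = 1 := by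
    rcases (show n = 0 ∨ n = 1 ∨ n = 2 by omega) with rfl | rfl | rfl <;> first | rfl | (norm_num at hsg) | exact absurd hsg (by decide)
  subst hn1
  have hct : (pu * pu).cycleType = s.cycleType := by
    rw [hn, pu_sq, Equiv.Perm.Disjoint.cycleType_mul, (Equiv.Perm.IsSwap.isCycle ⟨1, 2, by decide, rfl⟩).cycleType,
      (Equiv.Perm.IsSwap.isCycle ⟨4, 5, by decide, rfl⟩).cycleType, Equiv.Perm.support_swap (by decide),
      Equiv.Perm.support_swap (by decide)]
    · rfl
    · intro x; revert x; decide
  obtain ⟨g, hg⟩ := isConj_iff.mp (Equiv.Perm.isConj_iff_cycleType_eq.mpr hct)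
  rcases Int.units_eq_one_or (Perm.sign g) with e | e
  · exact ⟨g, e, hg⟩
  · refine ⟨g * swap 0 3, ?_, ?_⟩
    · rw [map_mul, e, Equiv.Perm.sign_swap (by decide)]; rfl
    · have hc : swap (0 : Fin 6) 3 * (pu * pu) * (swap (0 : Fin 6) 3)⁻¹ = pu * pu := by decide
      rw [mul_inv_rev]
      conv_rhs => rw [← hg, ← hc]
      group

end CfsgSTS
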