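/-
The exceptional automorphism of `S₆`, from its action on the six totals.
-/
import Cfsg.Agent.Lib.SymThreeAltSix.Perm

set_option autoImplicit false

namespace CfsgSTS

open Equiv

/-- The five synthemes of the base total. -/
def baseTotal : Finset (Perm (Fin 6)) :=
  {swap 5 0 * swap 1 4 * swap 2 3, swap 5 1 * swap 2 0 * swap 3 4, swap 5 2 * swap 3 1 * swap 4 0,
    swap 5 3 * swap 4 2 * swap 0 1, swap 5 4 * swap 0 3 * swap 1 2}

/-- The six totals. -/
def total (i : Fin 6) : Finset (Perm (Fin 6)) :=
  if i = 0 then baseTotal else baseTotal.image fun s => swap 0 i * s * swap 0 i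

theorem total_swap : ∀ a b : Fin 6, ∀ i : Fin 6, ∃ j : Fin 6,
    (total i).image (fun s => swap a b * s * swap a b) = total j := by
  decide +kernel

theorem total_inj : ∀ i j : Fin 6, total i = total j → i = j := by decide +kernel

theorem total_move (p : Perm (Fin 6)) : ∀ i, ∃ j, (total i).image (fun s => p * s * p⁻¹) = total j := by
  induction p using Equiv.Perm.swap_induction_on with
  | one => exact fun i => ⟨i, by simp⟩
  | swap_mul p a b _ ih =>
    intro i
    obtain ⟨j, hj⟩ := ih i
    obtain ⟨k, hk⟩ := total_swap a b j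
    refine ⟨k, ?_⟩
    rw [← hk, ← hj, Finset.image_image]
    refine Finset.image_congr fun s _ => ?_
    simp [mul_assoc]

/-- The index of the image of a total. -/
noncomputable def thetaFun (p : Perm (Fin 6)) (i : Fin 6) : Fin 6 := (total_move p i).choose

theorem thetaFun_eq {p : Perm (Fin 6)} {i j : Fin 6} (h : (total i).image (fun s => p * s * p⁻¹) = total j) :
    thetaFun p i = j :=
  total_inj _ _ ((total_move p i).choose_spec.symm.trans h)

theorem thetaFun_spec (p : Perm (Fin 6)) (i : Fin 6) :
    (total i).image (fun s => p * s * p⁻¹) = total (thetaFun p i) := (total_move p i).choose_spec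

theorem thetaFun_one (i : Fin 6) : thetaFun 1 i = i := thetaFun_eq (by simp)

theorem thetaFun_mul (p q : Perm (Fin 6)) (i : Fin 6) : thetaFun (p * q) i = thetaFun p (thetaFun q i) := by
  refine thetaFun_eq ?_
  rw [← thetaFun_spec p, ← thetaFun_spec q, Finset.image_image]
  refine Finset.image_congr fun s _ => ?_
  simp [mul_assoc]

/-- The exceptional automorphism. -/
noncomputable def theta : Perm (Fin 6) →* Perm (Fin 6) where
  toFun p :=
    { toFun := thetaFun p
      invFun := thetaFun p⁻¹
      left_inv := fun i => by rw [← thetaFun_mul, inv_mul_cancel, thetaFun_one]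
      right_inv := fun i => by rw [← thetaFun_mul, mul_inv_cancel, thetaFun_one] }
  map_one' := Equiv.ext thetaFun_one
  map_mul' p q := Equiv.ext (thetaFun_mul p q)

theorem theta_apply (p : Perm (Fin 6)) (i : Fin 6) : theta p i = thetaFun p i := rfl

/-- A table of values of `theta` on transpositions. -/
theorem theta_swap_sign : ∀ a b : Fin 6, a ≠ b → ∃ f : Fin 6 → Fin 6,
    (∀ i, (total i).image (fun s => swap a b * s * (swap a b)⁻¹) = total (f i)) ∧
      (∀ i, f i ≠ i ∧ f (f i) = i) := by
  intro a b hab
  have h : ∀ a b : Fin 6, a ≠ b → ∀ i : Fin 6,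
      (total i).image (fun s => swap a b * s * swap a b) ≠ total i := by decide +kernel
  refine ⟨thetaFun (swap a b), thetaFun_spec _, fun i => ⟨fun e => h a b hab i ?_, ?_⟩⟩
  · have := thetaFun_spec (swap a b) i
    rw [e, Equiv.swap_inv] at this
    exact this
  · rw [← thetaFun_mul, Equiv.swap_mul_self, thetaFun_one]

theorem theta_sign (p : Perm (Fin 6)) : Perm.sign (theta p) = Perm.sign p := by
  induction p using Equiv.Perm.swap_induction_on with
  | one => simp
  | swap_mul p a b hab ih =>
    rw [map_mul, map_mul, map_mul, ih]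
    congr 1
    rw [Equiv.Perm.sign_swap hab]
    obtain ⟨f, hf, hfi⟩ := theta_swap_sign a b hab
    set e := theta (swap a b)
    have he : ∀ i, e i = f i := fun i => thetaFun_eq (hf i)
    have hfp : e.support = Finset.univ := Finset.eq_univ_of_forall fun i =>
      Equiv.Perm.mem_support.mpr (he i ▸ (hfi i).1)
    have he2 : e * e = 1 := Equiv.ext fun i => by simp [he, (hfi i).2]
    have h2 : orderOf e = 2 := orderOf_eq_prime (by rw [pow_two, he2]) fun e1 => by
      rw [e1, Equiv.Perm.support_one] at hfp; exact absurd hfp (by decide)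
    obtain ⟨n, hn⟩ := Equiv.Perm.cycleType_prime_order (σ := e) (by rw [h2]; exact Nat.prime_two)
    rw [h2] at hn
    have hsum := Equiv.Perm.sum_cycleType e
    rw [hn, hfp, Multiset.sum_replicate, Finset.card_univ, Fintype.card_fin, smul_eq_mul] at hsum
    rw [Equiv.Perm.sign_of_cycleType, hn, Multiset.sum_replicate, Multiset.card_replicate, smul_eq_mul,
      show n + 1 = 3 by omega]
    rfl

theorem theta_inj : Function.Injective theta := by
  rw [injective_iff_map_eq_one]
  intro p hp
  by_contra hne
  have hall : ∀ i, (total i).image (fun s => p * s * p⁻¹) = total i := fun i => by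
    have := thetaFun_spec p i
    rwa [← theta_apply, hp] at this
  have key : ∀ p : Perm (Fin 6), p ≠ 1 → ∃ i : Fin 6, (total i).image (fun s => p * s * p⁻¹) ≠ total i := by
    decide +kernel
  obtain ⟨i, hi⟩ := key p hne
  exact hi (hall i)

/-- A fixed even involution. -/
def sA : Perm (Fin 6) := swap 0 1 * swap 2 3
/-- Its partner in the four-group fixing two points. -/
def sP : Perm (Fin 6) := swap 0 2 * swap 1 3
/-- Its partner in the four-group fixing a partition. -/
def sL : Perm (Fin 6) := swap 0 1 * swap 4 5

/-- The image of the two kinds of four-groups. -/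
theorem theta_four : ∃ g : Perm (Fin 6), Perm.sign g = 1 ∧
    g * theta sA * g⁻¹ = sA ∧
    g * theta sL * g⁻¹ = sP := by
  have key : ∃ g : Perm (Fin 6), Perm.sign g = 1 ∧
      (∀ i, (total (g⁻¹ i)).image (fun s => sA * s * sA⁻¹)
        = total (g⁻¹ (sA i))) ∧
      (∀ i, (total (g⁻¹ i)).image (fun s => sL * s * sL⁻¹)
        = total (g⁻¹ (sP i))) := by
    decide +kernel
  obtain ⟨g, hg, ha, hb⟩ := key
  refine ⟨g, hg, Equiv.ext fun i => ?_, Equiv.ext fun i => ?_⟩
  · simp only [Equiv.Perm.mul_apply]
    rw [show theta sA (g⁻¹ i) = g⁻¹ (sA i) from thetaFun_eq (ha i)]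
    simp
  · simp only [Equiv.Perm.mul_apply]
    rw [show theta sL (g⁻¹ i) = g⁻¹ (sP i) from thetaFun_eq (hb i)]
    simp

end CfsgSTS
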