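/-
The setting: an involution `z` whose centralizer has an extraspecial normal 2-subgroup of order `2⁹`
with quotient between `3 × A₆` and `S₃ × S₆`.
-/
import Cfsg.Agent.Lib.SymThreeAltSix.Perm
import Cfsg.Agent.Lib.LargeExtra.XR

set_option autoImplicit false

namespace CfsgSTS

open CfsgLargeExtra
open scoped commutatorElement

variable {G : Type*} [Group G] {Q : Subgroup G} {z : G}

/-- The hypotheses on the centralizer of `z`, with a chosen map to `S₃ × S₆`. -/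
structure Cfg (Q : Subgroup G) (z : G) where
  es : ES Q z
  card : Nat.card Q = 512
  π : G → W
  map_mul : ∀ a b, a * z = z * a → b * z = z * b → π (a * b) = π a * π b
  ker : ∀ a, a * z = z * a → (π a = 1 ↔ a ∈ Q)
  big : ∀ w, psi w = 1 → ∃ a, a * z = z * a ∧ π a = w

theorem cz_mul {a b : G} (ha : a * z = z * a) (hb : b * z = z * b) : a * b * z = z * (a * b) :=
  (Commute.mul_left (show Commute a z from ha) hb)

theorem cz_inv {a : G} (ha : a * z = z * a) : a⁻¹ * z = z * a⁻¹ :=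
  (Commute.inv_left (show Commute a z from ha))

theorem cz_conj {a b : G} (ha : a * z = z * a) (hb : b * z = z * b) : a * b * a⁻¹ * z = z * (a * b * a⁻¹) :=
  cz_mul (cz_mul ha hb) (cz_inv ha)

theorem cz_pow {a : G} (ha : a * z = z * a) (n : ℕ) : a ^ n * z = z * a ^ n :=
  (Commute.pow_left (show Commute a z from ha) n)

namespace Cfg

variable (C : Cfg Q z)
include C

theorem zz : z * z = 1 := C.es.zz

theorem z_inv : z⁻¹ = z := inv_eq_of_mul_eq_one_right C.zz

theorem cz {q : G} (hq : q ∈ Q) : q * z = z * q := C.es.comm q hq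

theorem map_one : C.π 1 = 1 := (C.ker 1 (by simp)).mpr (one_mem _)

theorem map_inv {a : G} (ha : a * z = z * a) : C.π a⁻¹ = (C.π a)⁻¹ := by
  refine eq_inv_of_mul_eq_one_left ?_
  rw [← C.map_mul _ _ (cz_inv ha) ha, inv_mul_cancel, C.map_one]

theorem map_q {q : G} (hq : q ∈ Q) : C.π q = 1 := (C.ker q (C.cz hq)).mpr hq

theorem map_conj {a b : G} (ha : a * z = z * a) (hb : b * z = z * b) :
    C.π (a * b * a⁻¹) = C.π a * C.π b * (C.π a)⁻¹ := by
  rw [C.map_mul _ _ (cz_mul ha hb) (cz_inv ha), C.map_mul _ _ ha hb, C.map_inv ha]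

theorem map_pow {a : G} (ha : a * z = z * a) (n : ℕ) : C.π (a ^ n) = C.π a ^ n := by
  induction n with
  | zero => rw [pow_zero, pow_zero, C.map_one]
  | succ n ih => rw [pow_succ, pow_succ, C.map_mul _ _ (cz_pow ha n) ha, ih]

theorem map_mul_q {a q : G} (ha : a * z = z * a) (hq : q ∈ Q) : C.π (a * q) = C.π a := by
  rw [C.map_mul _ _ ha (C.cz hq), C.map_q hq, mul_one]

theorem map_q_mul {a q : G} (ha : a * z = z * a) (hq : q ∈ Q) : C.π (q * a) = C.π a := by
  rw [C.map_mul _ _ (C.cz hq) ha, C.map_q hq, one_mul]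

theorem conj_q {a q : G} (ha : a * z = z * a) (hq : q ∈ Q) : a * q * a⁻¹ ∈ Q := C.es.nor a ha q hq

theorem conj_q' {a q : G} (ha : a * z = z * a) (hq : q ∈ Q) : a⁻¹ * q * a ∈ Q := by
  simpa using C.conj_q (cz_inv ha) hq

theorem sq_mem {a : G} (ha : a * z = z * a) (h : C.π a * C.π a = 1) : a * a ∈ Q :=
  (C.ker _ (cz_mul ha ha)).mp (by rw [C.map_mul _ _ ha ha, h])

/-- Transport by conjugation. -/
def conj (g : G) : Cfg (CfsgLargeExtra.cj g Q) (g * z * g⁻¹) where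
  es := C.es.cj g
  card := by
    rw [CfsgLargeExtra.cj, Subgroup.card_map_of_injective (MulEquiv.injective _), C.card]
  π a := C.π (g⁻¹ * a * g)
  map_mul a b ha hb := by
    have ha' : g⁻¹ * a * g * z = z * (g⁻¹ * a * g) := by
      have := congrArg (fun y => g⁻¹ * y * g) ha
      simpa [mul_assoc] using this
    have hb' : g⁻¹ * b * g * z = z * (g⁻¹ * b * g) := by
      have := congrArg (fun y => g⁻¹ * y * g) hb
      simpa [mul_assoc] using this
    rw [← C.map_mul _ _ ha' hb']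
    group
  ker a ha := by
    have ha' : g⁻¹ * a * g * z = z * (g⁻¹ * a * g) := by
      have := congrArg (fun y => g⁻¹ * y * g) ha
      simpa [mul_assoc] using this
    rw [C.ker _ ha', mem_cj]
  big w hw := by
    obtain ⟨a, ha, rfl⟩ := C.big w hw
    refine ⟨g * a * g⁻¹, ?_, by group⟩
    calc g * a * g⁻¹ * (g * z * g⁻¹) = g * (a * z) * g⁻¹ := by group
      _ = g * (z * a) * g⁻¹ := by rw [ha]
      _ = _ := by group

theorem conj_π (g a : G) : (C.conj g).π a = C.π (g⁻¹ * a * g) := rfl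

/-! ### Congruence modulo `z` -/

theorem mul_z_mem {q : G} (hq : q ∈ Q) : q * z ∈ Q := mul_mem hq C.es.mem

theorem conj_cases {a b : G} (ha : a ∈ Q) (hb : b ∈ Q) : a * b * a⁻¹ = b ∨ a * b * a⁻¹ = b * z :=
  C.es.conj_cases ha hb

theorem comm_cases' {a b : G} (ha : a ∈ Q) (hb : b ∈ Q) : a * b = b * a ∨ a * b = b * a * z := by
  rcases C.conj_cases ha hb with e | e
  · exact Or.inl (mul_inv_eq_iff_eq_mul.mp e)
  · right
    rw [mul_inv_eq_iff_eq_mul] at e
    rw [e, mul_assoc, ← C.cz ha, ← mul_assoc]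

/-- The class of an element of `Q` in `Q/⟨z⟩`. -/
noncomputable def cl (_C : Cfg Q z) (a : G) : ↥Q ⧸ Subgroup.center ↥Q :=
  open scoped Classical in if h : a ∈ Q then QuotientGroup.mk (⟨a, h⟩ : ↥Q) else 1

omit C in
theorem cl_def (C : Cfg Q z) {a : G} (ha : a ∈ Q) : C.cl a = QuotientGroup.mk (⟨a, ha⟩ : ↥Q) := dif_pos ha

theorem cl_eq_iff {a b : G} (ha : a ∈ Q) (hb : b ∈ Q) : C.cl a = C.cl b ↔ b = a ∨ b = a * z := by
  rw [C.cl_def ha, C.cl_def hb, QuotientGroup.eq, C.es.toExt.center_iff]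
  simp only [Subtype.ext_iff, Subgroup.coe_mul, InvMemClass.coe_inv, OneMemClass.coe_one, inv_mul_eq_iff_eq_mul,
    mul_one]

theorem cl_mul {a b : G} (ha : a ∈ Q) (hb : b ∈ Q) : C.cl (a * b) = C.cl a * C.cl b := by
  rw [C.cl_def ha, C.cl_def hb, C.cl_def (mul_mem ha hb)]; rfl

theorem cl_one : C.cl 1 = 1 := by rw [C.cl_def (one_mem _)]; rfl

theorem cl_z : C.cl z = 1 := by
  rw [← C.cl_one, eq_comm, C.cl_eq_iff (one_mem _) C.es.mem]
  exact Or.inr (one_mul z).symm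

theorem cl_eq_one {a : G} (ha : a ∈ Q) : C.cl a = 1 ↔ a = 1 ∨ a = z := by
  rw [← C.cl_one, eq_comm, C.cl_eq_iff (one_mem _) ha, one_mul]

theorem cl_mul_z {a : G} (ha : a ∈ Q) : C.cl (a * z) = C.cl a := by
  rw [C.cl_mul ha C.es.mem, C.cl_z, mul_one]

theorem cl_comm {a b : G} (ha : a ∈ Q) (hb : b ∈ Q) : C.cl a * C.cl b = C.cl b * C.cl a := by
  rw [← C.cl_mul ha hb, ← C.cl_mul hb ha]
  rcases C.comm_cases' ha hb with e | e
  · rw [e]
  · rw [e, C.cl_mul_z (mul_mem hb ha)]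

theorem cl_self {a : G} (ha : a ∈ Q) : C.cl a * C.cl a = 1 := by
  rw [← C.cl_mul ha ha, C.cl_eq_one (mul_mem ha ha)]
  exact C.es.sq a ha

theorem cl_inv {a : G} (ha : a ∈ Q) : C.cl a⁻¹ = C.cl a := by
  rw [← mul_left_inj (C.cl a), ← C.cl_mul (inv_mem ha) ha, inv_mul_cancel, C.cl_one, C.cl_self ha]

theorem cl_q_conj {a b : G} (ha : a ∈ Q) (hb : b ∈ Q) : C.cl (a * b * a⁻¹) = C.cl b := by
  rw [eq_comm, C.cl_eq_iff hb (mul_mem (mul_mem ha hb) (inv_mem ha))]
  exact C.conj_cases ha hb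

theorem cl_conj_congr {m a b : G} (hm : m * z = z * m) (ha : a ∈ Q) (hb : b ∈ Q) (h : C.cl a = C.cl b) :
    C.cl (m * a * m⁻¹) = C.cl (m * b * m⁻¹) := by
  rw [C.cl_eq_iff ha hb] at h
  rw [C.cl_eq_iff (C.conj_q hm ha) (C.conj_q hm hb)]
  rcases h with rfl | rfl
  · exact Or.inl rfl
  · right
    simp only [mul_assoc]
    rw [← cz_inv hm]

/-- The conjugation modulo `z` depends only on the image in `S₃ × S₆`. -/
theorem cl_conj_eq {m n a : G} (hm : m * z = z * m) (hn : n * z = z * n) (h : C.π m = C.π n) (ha : a ∈ Q) :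
    C.cl (m * a * m⁻¹) = C.cl (n * a * n⁻¹) := by
  have hk : n⁻¹ * m ∈ Q :=
    (C.ker _ (cz_mul (cz_inv hn) hm)).mp (by rw [C.map_mul _ _ (cz_inv hn) hm, C.map_inv hn, h, inv_mul_cancel])
  have h1 : m * a * m⁻¹ = n * ((n⁻¹ * m) * a * (n⁻¹ * m)⁻¹) * n⁻¹ := by group
  rw [h1]
  exact C.cl_conj_congr hn (mul_mem (mul_mem hk ha) (inv_mem hk)) ha (C.cl_q_conj hk ha)

theorem cl_conj_self {m a : G} (hm : m * z = z * m) (h : C.π m = 1) (ha : a ∈ Q) : C.cl (m * a * m⁻¹) = C.cl a := by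
  rw [C.cl_conj_eq hm (n := 1) (by simp) (by rw [h, C.map_one]) ha]
  simp

/-! ### The element `d` -/

theorem exists_d : ∃ d : G, d * z = z * d ∧ C.π d = (finRotate 3, 1) ∧ d * d * d = 1 := by
  obtain ⟨m, hm, hπ⟩ := C.big (finRotate 3, 1) (by decide)
  refine ⟨m ^ 4, cz_pow hm 4, ?_, ?_⟩
  · rw [C.map_pow hm, hπ]; decide
  · have h3 : m ^ 3 ∈ Q := (C.ker _ (cz_pow hm 3)).mp (by rw [C.map_pow hm, hπ]; decide)
    have h4 : (m ^ 3) ^ 4 = 1 := by
      rcases C.es.sq _ h3 with e | e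
      · calc (m ^ 3) ^ 4 = (m ^ 3 * m ^ 3) * (m ^ 3 * m ^ 3) := by group
          _ = 1 := by rw [e, one_mul]
      · calc (m ^ 3) ^ 4 = (m ^ 3 * m ^ 3) * (m ^ 3 * m ^ 3) := by group
          _ = 1 := by rw [e, C.zz]
    calc m ^ 4 * m ^ 4 * m ^ 4 = (m ^ 3) ^ 4 := by group
      _ = 1 := h4

/-- An element of odd order fixing a coset of `z` fixes its elements. -/
theorem fix_of_cl {d a : G} (hd : d * z = z * d) (hd3 : d * d * d = 1) (ha : a ∈ Q)
    (h : C.cl (d * a * d⁻¹) = C.cl a) : d * a * d⁻¹ = a := by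
  rw [eq_comm, C.cl_eq_iff ha (C.conj_q hd ha)] at h
  rcases h with e | e
  · exact e
  · exfalso
    have hz1 : d * z * d⁻¹ = z := by rw [hd, mul_inv_cancel_right]
    have h2 : d * d * a * (d * d)⁻¹ = a := by
      calc d * d * a * (d * d)⁻¹ = d * (d * a * d⁻¹) * d⁻¹ := by group
        _ = d * (a * z) * d⁻¹ := by rw [e]
        _ = d * a * d⁻¹ * (d * z * d⁻¹) := by group
        _ = a := by rw [e, hz1, mul_assoc, C.zz, mul_one]
    have h3 : d * d * d * a * (d * d * d)⁻¹ = a * z := by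
      calc d * d * d * a * (d * d * d)⁻¹ = d * (d * d * a * (d * d)⁻¹) * d⁻¹ := by group
        _ = a * z := by rw [h2, e]
    rw [hd3, one_mul, inv_one, mul_one] at h3
    exact C.es.ne (mul_eq_left.mp h3.symm)

/-! ### Counting -/

variable [Finite G]

theorem card_cent {A : Subgroup G} (hA : A ≤ Q) (hz : z ∈ A) :
    Nat.card A * Nat.card ↥(Q ⊓ Subgroup.centralizer (A : Set G)) = 1024 := by
  have h := C.es.toExt.card_mul_card_centralizer (A := A.subgroupOf Q) hz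
  rw [C.card, Nat.card_congr (Subgroup.subgroupOfEquivOfLe hA).toEquiv] at h
  have hcen : (Q ⊓ Subgroup.centralizer (A : Set G)).subgroupOf Q = Subgroup.centralizer (A.subgroupOf Q : Set ↥Q) := by
    ext x
    simp only [Subgroup.mem_subgroupOf, Subgroup.mem_inf, SetLike.coe_mem, true_and,
      Subgroup.mem_centralizer_iff, SetLike.mem_coe]
    exact ⟨fun hx a ha => Subtype.ext (hx a ha), fun hx a ha => congrArg Subtype.val (hx ⟨a, hA ha⟩ ha)⟩
  rwa [← hcen, Nat.card_congr (Subgroup.subgroupOfEquivOfLe inf_le_left).toEquiv] at h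

theorem elem_le {A : Subgroup G} (hA : A ≤ Q) (hs : ∀ a ∈ A, a * a = 1) : Nat.card A ≤ 32 := by
  have hcomm : IsMulCommutative ↥(A.subgroupOf Q) := by
    refine ⟨⟨fun x y => Subtype.ext (Subtype.ext ?_)⟩⟩
    have hx : ∀ w : ↥(A.subgroupOf Q), ((w : ↥Q) : G)⁻¹ = ((w : ↥Q) : G) := fun w =>
      inv_eq_of_mul_eq_one_right (hs _ (Subgroup.mem_subgroupOf.mp w.2))
    have hxy := hx (x * y)
    simp only [Subgroup.coe_mul, mul_inv_rev, hx] at hxy
    simpa using hxy.symm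
  have h := (CfsgLib.ExtraTwo.card_elementary_le C.es.toExt (n := 4) (by rw [C.card]; norm_num) hcomm
    (fun a ha => Subtype.ext (by simpa [pow_two] using hs _ (Subgroup.mem_subgroupOf.mp ha)))).1
  rwa [Nat.card_congr (Subgroup.subgroupOfEquivOfLe hA).toEquiv] at h

theorem card_Vq : Nat.card (↥Q ⧸ Subgroup.center ↥Q) = 256 := by
  have h := Subgroup.card_eq_card_quotient_mul_card_subgroup (Subgroup.center ↥Q)
  rw [C.card, C.es.toExt.card_center] at h
  omega

end Cfg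

/-! ### The two subgroups attached to an element of the centralizer -/

variable (C : Cfg Q z)

/-- The commutator of `m` with `q`. -/
def com (m q : G) : G := m⁻¹ * q⁻¹ * m * q

namespace Cfg

variable {m : G} (hm : m * z = z * m)
include C hm

theorem com_mem {q : G} (hq : q ∈ Q) : com m q ∈ Q := mul_mem (C.conj_q' hm (inv_mem hq)) hq

theorem cl_com {q : G} (hq : q ∈ Q) : C.cl (com m q) = C.cl (m⁻¹ * q * m) * C.cl q := by
  rw [com, C.cl_mul (C.conj_q' hm (inv_mem hq)) hq]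
  congr 1
  rw [← C.cl_inv (C.conj_q' hm hq)]
  congr 1
  group

/-- The commutator map to `Q/⟨z⟩`. -/
noncomputable def comHom : ↥Q →* ↥Q ⧸ Subgroup.center ↥Q where
  toFun q := C.cl (com m q)
  map_one' := by simp [com, C.cl_one]
  map_mul' a b := by
    have h1 : com m ((a * b : ↥Q) : G) = com m b * ((b : G)⁻¹ * com m a * b) := by
      simp only [com, Subgroup.coe_mul]; group
    have ha := C.com_mem hm a.2
    rw [h1, C.cl_mul (C.com_mem hm b.2) (mul_mem (mul_mem (inv_mem b.2) ha) b.2), C.cl_comm (C.com_mem hm b.2)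
      (mul_mem (mul_mem (inv_mem b.2) ha) b.2)]
    congr 1
    simpa using C.cl_q_conj (inv_mem b.2) ha

/-- Elements of `Q` commuting with `m` modulo `z`. -/
noncomputable def Wm : Subgroup G := (C.comHom hm).ker.map Q.subtype

/-- Commutators with `m` modulo `z`. -/
noncomputable def Pm : Subgroup G :=
  ((C.comHom hm).range.comap (QuotientGroup.mk' (Subgroup.center ↥Q))).map Q.subtype

theorem Wm_le : C.Wm hm ≤ Q := Subgroup.map_subtype_le _

theorem Pm_le : C.Pm hm ≤ Q := Subgroup.map_subtype_le _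

theorem mem_Wm {q : G} : q ∈ C.Wm hm ↔ q ∈ Q ∧ (com m q = 1 ∨ com m q = z) := by
  constructor
  · rintro ⟨q, hq, rfl⟩
    exact ⟨q.2, (C.cl_eq_one (C.com_mem hm q.2)).mp hq⟩
  · rintro ⟨hq, h⟩
    exact ⟨⟨q, hq⟩, (C.cl_eq_one (C.com_mem hm hq)).mpr h, rfl⟩

theorem mem_Pm {s : G} : s ∈ C.Pm hm ↔ ∃ q ∈ Q, s = com m q ∨ s = com m q * z := by
  constructor
  · rintro ⟨s, hs, rfl⟩
    obtain ⟨q, hq⟩ := hs
    refine ⟨q, q.2, ?_⟩
    have : C.cl (com m q) = C.cl s := by rw [C.cl_def s.2]; exact hq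
    exact (C.cl_eq_iff (C.com_mem hm q.2) s.2).mp this
  · rintro ⟨q, hq, h⟩
    have hsQ : s ∈ Q := by rcases h with rfl | rfl <;> [exact C.com_mem hm hq; exact C.mul_z_mem (C.com_mem hm hq)]
    refine ⟨⟨s, hsQ⟩, ⟨⟨q, hq⟩, ?_⟩, rfl⟩
    show C.cl (com m q) = QuotientGroup.mk ⟨s, hsQ⟩
    rw [← C.cl_def hsQ]
    exact (C.cl_eq_iff (C.com_mem hm hq) hsQ).mpr h

theorem com_Pm {q : G} (hq : q ∈ Q) : com m q ∈ C.Pm hm := (C.mem_Pm hm).mpr ⟨q, hq, Or.inl rfl⟩

theorem z_Pm : z ∈ C.Pm hm := (C.mem_Pm hm).mpr ⟨1, one_mem _, Or.inr (by simp [com])⟩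

theorem z_Wm : z ∈ C.Wm hm := (C.mem_Wm hm).mpr ⟨C.es.mem, Or.inl (by
  rw [com, C.z_inv, mul_assoc m⁻¹ z m, ← hm, inv_mul_cancel_left, C.zz])⟩

variable [Finite G]

theorem card_WP : Nat.card (C.Wm hm) * Nat.card (C.Pm hm) = 1024 := by
  have h1 := Subgroup.card_mul_index (C.comHom hm).ker
  rw [C.card, Subgroup.index_ker] at h1
  have hW : Nat.card (C.Wm hm) = Nat.card (C.comHom hm).ker :=
    (Nat.card_congr (Subgroup.equivMapOfInjective _ _ Q.subtype_injective).toEquiv).symm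
  have h2 := Subgroup.card_mul_index ((C.comHom hm).range.comap (QuotientGroup.mk' (Subgroup.center ↥Q)))
  rw [Subgroup.index_comap_of_surjective _ (QuotientGroup.mk'_surjective _), C.card] at h2
  have hP : Nat.card (C.Pm hm) =
      Nat.card ((C.comHom hm).range.comap (QuotientGroup.mk' (Subgroup.center ↥Q))) :=
    (Nat.card_congr (Subgroup.equivMapOfInjective _ _ Q.subtype_injective).toEquiv).symm
  have h3 := Subgroup.card_mul_index (C.comHom hm).range
  rw [C.card_Vq] at h3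
  rw [hW, hP]
  set A := Nat.card (C.comHom hm).ker
  set R := Nat.card (C.comHom hm).range
  set P := Nat.card ((C.comHom hm).range.comap (QuotientGroup.mk' (Subgroup.center ↥Q)))
  set i := (C.comHom hm).range.index
  have hi : 0 < i := Nat.pos_of_ne_zero (by rintro e; rw [e, mul_zero] at h3; omega)
  apply Nat.eq_of_mul_eq_mul_right hi
  calc A * P * i = A * (P * i) := by ring
    _ = A * 512 := by rw [h2]
    _ = A * (R * i) * 2 := by rw [h3]; ring
    _ = A * R * i * 2 := by ring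
    _ = 512 * i * 2 := by rw [h1]
    _ = 1024 * i := by ring

/-- The commutators centralise the kernel. -/
theorem comm_WP {w s : G} (hw : w ∈ C.Wm hm) (hs : s ∈ C.Pm hm) : w * s = s * w := by
  obtain ⟨hwQ, hwc⟩ := (C.mem_Wm hm).mp hw
  obtain ⟨q, hq, hs⟩ := (C.mem_Pm hm).mp hs
  suffices h : w * com m q = com m q * w by
    rcases hs with rfl | rfl
    · exact h
    · rw [← mul_assoc, h, mul_assoc, C.cz hwQ, ← mul_assoc]
  have hw' : m⁻¹ * w * m = w ∨ m⁻¹ * w * m = w * z := by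
    have h := C.mem_Wm hm |>.mp hw
    rcases hwc with e | e
    · left
      have := congrArg (fun y => w * y⁻¹) e
      simpa [com, mul_assoc] using this
    · right
      have := congrArg (fun y => (y * w⁻¹)⁻¹) e
      simp only [com, mul_inv_cancel_right, mul_inv_rev, inv_inv, C.z_inv] at this
      simpa [mul_assoc] using this
  -- conjugation by `m` fixes `w` modulo `z`, so it preserves the commutator with `q`
  have hc1 : q * w * q⁻¹ * w⁻¹ = (m⁻¹ * q * m) * w * (m⁻¹ * q * m)⁻¹ * w⁻¹ := by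
    have hk : q * w * q⁻¹ * w⁻¹ = 1 ∨ q * w * q⁻¹ * w⁻¹ = z := by
      rcases C.conj_cases hq hwQ with e | e <;> rw [e]
      · left; group
      · right; rw [C.cz hwQ, mul_inv_cancel_right]
    have hfix : m⁻¹ * (q * w * q⁻¹ * w⁻¹) * m = q * w * q⁻¹ * w⁻¹ := by
      rcases hk with e | e <;> rw [e]
      · simp
      · rw [mul_assoc, ← hm, inv_mul_cancel_left]
    have hexp : m⁻¹ * (q * w * q⁻¹ * w⁻¹) * m
        = (m⁻¹ * q * m) * (m⁻¹ * w * m) * (m⁻¹ * q * m)⁻¹ * (m⁻¹ * w * m)⁻¹ := by group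
    rw [← hfix, hexp]
    rcases hw' with e | e <;> rw [e]
    have hq' : (m⁻¹ * q * m)⁻¹ * z = z * (m⁻¹ * q * m)⁻¹ := C.cz (inv_mem (C.conj_q' hm hq))
    calc (m⁻¹ * q * m) * (w * z) * (m⁻¹ * q * m)⁻¹ * (w * z)⁻¹
        = (m⁻¹ * q * m) * w * ((m⁻¹ * q * m)⁻¹ * z) * (z⁻¹ * w⁻¹) := by rw [hq']; group
      _ = _ := by group
  have hc2 : (m⁻¹ * q * m) * w * (m⁻¹ * q * m)⁻¹ = q * w * q⁻¹ := mul_right_cancel hc1.symm
  have hcomm : com m q = (m⁻¹ * q * m)⁻¹ * q := by simp [com]; group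
  rw [hcomm]
  generalize m⁻¹ * q * m = y at hc2
  have := congrArg (fun t => y⁻¹ * t * q) hc2
  simp only [mul_assoc, inv_mul_cancel_left, inv_mul_cancel, mul_one] at this ⊢
  exact this

theorem Pm_eq_cent : C.Pm hm = Q ⊓ Subgroup.centralizer (C.Wm hm : Set G) := by
  refine Subgroup.eq_of_le_of_card_ge
    (le_inf (C.Pm_le hm) fun s hs => Subgroup.mem_centralizer_iff.mpr fun w hw => C.comm_WP hm hw hs) (le_of_eq ?_)
  have h := C.card_cent (C.Wm_le hm) (C.z_Wm hm)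
  have h' := C.card_WP hm
  exact Nat.eq_of_mul_eq_mul_left Nat.card_pos (h.trans h'.symm)

/-- For an element with square in `Q` the commutators lie in the kernel. -/
theorem Pm_le_Wm (h2 : m * m ∈ Q) : C.Pm hm ≤ C.Wm hm := by
  intro s hs
  obtain ⟨q, hq, hs⟩ := (C.mem_Pm hm).mp hs
  have hc : com m q ∈ C.Wm hm := by
    refine (C.mem_Wm hm).mpr ⟨C.com_mem hm hq, (C.cl_eq_one (C.com_mem hm (C.com_mem hm hq))).mp ?_⟩
    have hq1 := C.conj_q' hm hq
    rw [C.cl_com hm (C.com_mem hm hq)]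
    have e1 : C.cl (m⁻¹ * com m q * m) = C.cl (m⁻¹ * (m⁻¹ * q * m) * m) * C.cl (m⁻¹ * q * m) := by
      have h : m⁻¹ * com m q * m = (m⁻¹ * (m⁻¹ * q⁻¹ * m) * m) * (m⁻¹ * q * m) := by simp [com]; group
      rw [h, C.cl_mul (C.conj_q' hm (C.conj_q' hm (inv_mem hq))) hq1]
      congr 1
      rw [show m⁻¹ * (m⁻¹ * q⁻¹ * m) * m = (m⁻¹ * (m⁻¹ * q * m) * m)⁻¹ by
        simp only [mul_inv_rev, inv_inv, mul_assoc], C.cl_inv (C.conj_q' hm hq1)]
    have e2 : C.cl (m⁻¹ * (m⁻¹ * q * m) * m) = C.cl q := by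
      rw [show m⁻¹ * (m⁻¹ * q * m) * m = (m * m)⁻¹ * q * (m * m) by group]
      simpa using C.cl_q_conj (inv_mem h2) hq
    rw [e1, e2, C.cl_com hm hq, mul_assoc, ← mul_assoc (C.cl (m⁻¹ * q * m)), C.cl_self hq1, one_mul, C.cl_self hq]
  rcases hs with rfl | rfl
  · exact hc
  · exact mul_mem hc (C.z_Wm hm)

end Cfg

end CfsgSTS
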