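/-
The quotient `Q/⟨z⟩` as an abelian group with its forms and the action of the centralizer.
-/
import Cfsg.Agent.Lib.SymThreeAltSix.Basic

set_option autoImplicit false

namespace CfsgSTS

open CfsgLargeExtra

variable {G : Type*} [Group G] {Q : Subgroup G} {z : G}

/-- `Q/⟨z⟩`, written additively. -/
def Cfg.V (_C : Cfg Q z) : Type _ := Additive (↥Q ⧸ Subgroup.center ↥Q)

/-- The bilinear form on two elements. -/
noncomputable def bet (a b : G) : ZMod 2 := open scoped Classical in if a * b = b * a then 0 else 1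

/-- The quadratic form on an element. -/
noncomputable def sqf (a : G) : ZMod 2 := open scoped Classical in if a * a = 1 then 0 else 1

theorem bet_eq_zero {a b : G} : bet a b = 0 ↔ a * b = b * a := by
  unfold bet; split_ifs with h <;> simp [h]

theorem bet_eq_one {a b : G} : bet a b = 1 ↔ a * b ≠ b * a := by
  unfold bet; split_ifs with h <;> simp [h]

theorem sqf_eq_zero {a : G} : sqf a = 0 ↔ a * a = 1 := by
  unfold sqf; split_ifs with h <;> simp [h]

theorem sqf_eq_one {a : G} : sqf a = 1 ↔ a * a ≠ 1 := by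
  unfold sqf; split_ifs with h <;> simp [h]

theorem zmod_two_cases : ∀ x : ZMod 2, x = 0 ∨ x = 1 := by decide
theorem zmod_two_self : ∀ x : ZMod 2, x + x = 0 := by decide
theorem zmod_two_ne : ∀ {x : ZMod 2}, x ≠ 0 → x = 1 := by decide

namespace Cfg

variable (C : Cfg Q z)

noncomputable instance : AddCommGroup C.V :=
  { (inferInstance : AddGroup (Additive (↥Q ⧸ Subgroup.center ↥Q))) with
    add_comm := fun x y => by
      obtain ⟨⟨a, ha⟩, rfl⟩ := QuotientGroup.mk_surjective (Additive.toMul x)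
      obtain ⟨⟨b, hb⟩, rfl⟩ := QuotientGroup.mk_surjective (Additive.toMul y)
      show (QuotientGroup.mk (⟨a, ha⟩ : ↥Q) : ↥Q ⧸ Subgroup.center ↥Q) * QuotientGroup.mk ⟨b, hb⟩ = _
      rw [← C.cl_def ha, ← C.cl_def hb]
      exact C.cl_comm ha hb }

include C

/-- The image of an element of `Q`. -/
noncomputable def v (a : G) : C.V := Additive.ofMul (C.cl a)

theorem v_mul {a b : G} (ha : a ∈ Q) (hb : b ∈ Q) : C.v (a * b) = C.v a + C.v b :=
  congrArg Additive.ofMul (C.cl_mul ha hb)

theorem v_one : C.v 1 = 0 := congrArg Additive.ofMul C.cl_one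

theorem v_z : C.v z = 0 := congrArg Additive.ofMul C.cl_z

theorem v_mul_z {a : G} (ha : a ∈ Q) : C.v (a * z) = C.v a := congrArg Additive.ofMul (C.cl_mul_z ha)

theorem v_inv {a : G} (ha : a ∈ Q) : C.v a⁻¹ = C.v a := congrArg Additive.ofMul (C.cl_inv ha)

theorem v_eq_iff {a b : G} (ha : a ∈ Q) (hb : b ∈ Q) : C.v a = C.v b ↔ b = a ∨ b = a * z :=
  Iff.trans ⟨fun h => Additive.ofMul.injective h, fun h => congrArg Additive.ofMul h⟩ (C.cl_eq_iff ha hb)

theorem v_eq_zero {a : G} (ha : a ∈ Q) : C.v a = 0 ↔ a = 1 ∨ a = z :=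
  Iff.trans ⟨fun h => Additive.ofMul.injective h, fun h => congrArg Additive.ofMul h⟩ (C.cl_eq_one ha)

theorem v_surj (x : C.V) : ∃ a ∈ Q, C.v a = x := by
  obtain ⟨⟨a, ha⟩, h⟩ := QuotientGroup.mk_surjective (Additive.toMul x)
  exact ⟨a, ha, (congrArg Additive.ofMul (C.cl_def ha)).trans (congrArg Additive.ofMul h)⟩

theorem v_two (x : C.V) : x + x = 0 := by
  obtain ⟨a, ha, rfl⟩ := C.v_surj x
  exact congrArg Additive.ofMul (C.cl_self ha)

theorem v_com {m q : G} (hm : m * z = z * m) (hq : q ∈ Q) : C.v (com m q) = C.v (m⁻¹ * q * m) + C.v q :=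
  congrArg Additive.ofMul (C.cl_com hm hq)

/-- A representative. -/
noncomputable def rep (x : C.V) : G := (C.v_surj x).choose

theorem rep_mem (x : C.V) : C.rep x ∈ Q := (C.v_surj x).choose_spec.1

theorem v_rep (x : C.V) : C.v (C.rep x) = x := (C.v_surj x).choose_spec.2

theorem rep_cases {a : G} (ha : a ∈ Q) : C.rep (C.v a) = a ∨ C.rep (C.v a) = a * z :=
  (C.v_eq_iff ha (C.rep_mem _)).mp (C.v_rep _).symm

theorem bet_add_left {a b c : G} (ha : a ∈ Q) (hb : b ∈ Q) (hc : c ∈ Q) : bet (a * b) c = bet a c + bet b c := by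
  rcases C.comm_cases' ha hc with e | e <;> rcases C.comm_cases' hb hc with e' | e'
  · rw [bet_eq_zero.mpr e, bet_eq_zero.mpr e', add_zero, bet_eq_zero, mul_assoc, e', ← mul_assoc, e, mul_assoc]
  · rw [bet_eq_zero.mpr e, bet_eq_one.mpr (fun h => C.es.ne (mul_eq_left.mp (h.symm.trans e').symm)), zero_add, bet_eq_one]
    intro h
    rw [mul_assoc, e', ← mul_assoc a, ← mul_assoc, e, mul_assoc c] at h
    exact C.es.ne (mul_eq_left.mp h)
  · rw [bet_eq_zero.mpr e', bet_eq_one.mpr (fun h => C.es.ne (mul_eq_left.mp (h.symm.trans e).symm)), add_zero, bet_eq_one]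
    intro h
    rw [mul_assoc, e', ← mul_assoc, e, mul_assoc (c * a) z b, ← C.cz hb, ← mul_assoc, mul_assoc c] at h
    exact C.es.ne (mul_eq_left.mp h)
  · rw [bet_eq_one.mpr (fun h => C.es.ne (mul_eq_left.mp (h.symm.trans e).symm)),
      bet_eq_one.mpr (fun h => C.es.ne (mul_eq_left.mp (h.symm.trans e').symm)),
      show (1 : ZMod 2) + 1 = 0 from rfl, bet_eq_zero]
    calc a * b * c = a * (c * b * z) := by rw [mul_assoc, e']
      _ = a * c * (b * z) := by simp only [mul_assoc]
      _ = c * a * z * (b * z) := by rw [e]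
      _ = c * a * (z * b * z) := by simp only [mul_assoc]
      _ = c * (a * b) := by rw [← C.cz hb, mul_assoc b z z, C.zz, mul_one, mul_assoc]

omit C in
theorem bet_symm (a b : G) : bet a b = bet b a := by
  rcases zmod_two_cases (bet b a) with e | e <;> rw [e]
  · rw [bet_eq_zero] at e ⊢; exact e.symm
  · rw [bet_eq_one] at e ⊢; exact fun h => e h.symm

theorem bet_z {a : G} (ha : a ∈ Q) : bet a z = 0 := bet_eq_zero.mpr (C.cz ha)

theorem bet_mul_z {a c : G} (ha : a ∈ Q) (hc : c ∈ Q) : bet (a * z) c = bet a c := by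
  rw [C.bet_add_left ha C.es.mem hc, bet_symm z c, C.bet_z hc, add_zero]

/-- The bilinear form. -/
noncomputable def β (x y : C.V) : ZMod 2 := bet (C.rep x) (C.rep y)

theorem β_v {a b : G} (ha : a ∈ Q) (hb : b ∈ Q) : C.β (C.v a) (C.v b) = bet a b := by
  unfold β
  rcases C.rep_cases ha with e | e <;> rcases C.rep_cases hb with e' | e' <;> rw [e, e']
  · rw [bet_symm, C.bet_mul_z hb ha, bet_symm]
  · rw [C.bet_mul_z ha hb]
  · rw [C.bet_mul_z ha (C.mul_z_mem hb), bet_symm, C.bet_mul_z hb ha, bet_symm]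

theorem β_symm (x y : C.V) : C.β x y = C.β y x := bet_symm _ _

theorem β_add_left (x y w : C.V) : C.β (x + y) w = C.β x w + C.β y w := by
  obtain ⟨a, ha, rfl⟩ := C.v_surj x; obtain ⟨b, hb, rfl⟩ := C.v_surj y; obtain ⟨c, hc, rfl⟩ := C.v_surj w
  rw [← C.v_mul ha hb, C.β_v (mul_mem ha hb) hc, C.β_v ha hc, C.β_v hb hc, C.bet_add_left ha hb hc]

theorem β_add_right (x y w : C.V) : C.β x (y + w) = C.β x y + C.β x w := by
  rw [C.β_symm, C.β_add_left, C.β_symm y, C.β_symm w]

theorem β_self (x : C.V) : C.β x x = 0 := bet_eq_zero.mpr rfl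

theorem β_zero_left (x : C.V) : C.β 0 x = 0 := by
  have := C.β_add_left 0 0 x
  rwa [add_zero, left_eq_add] at this

theorem β_zero_right (x : C.V) : C.β x 0 = 0 := by rw [C.β_symm, C.β_zero_left]

theorem β_nondeg {x : C.V} (h : ∀ y, C.β x y = 0) : x = 0 := by
  obtain ⟨a, ha, rfl⟩ := C.v_surj x
  refine (C.v_eq_zero ha).mpr (C.es.cen a fun q hq => bet_eq_zero.mp ?_)
  rw [← C.β_v ha hq]; exact h _

/-- The quadratic form. -/
noncomputable def qf (x : C.V) : ZMod 2 := sqf (C.rep x)

theorem qf_v {a : G} (ha : a ∈ Q) : C.qf (C.v a) = sqf a := by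
  unfold qf
  rcases C.rep_cases ha with e | e <;> rw [e]
  have : a * z * (a * z) = a * a := by
    rw [mul_assoc a z, ← mul_assoc z a z, ← C.cz ha, mul_assoc a z z, C.zz, mul_one]
  unfold sqf; rw [this]

theorem qf_zero : C.qf 0 = 0 := by rw [← C.v_one, C.qf_v (one_mem _), sqf_eq_zero, one_mul]

theorem qf_add (x y : C.V) : C.qf (x + y) = C.qf x + C.qf y + C.β x y := by
  obtain ⟨a, ha, rfl⟩ := C.v_surj x; obtain ⟨b, hb, rfl⟩ := C.v_surj y
  rw [← C.v_mul ha hb, C.qf_v (mul_mem ha hb), C.qf_v ha, C.qf_v hb, C.β_v ha hb]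
  have key : a * b * (a * b) = a * a * (b * b) ∧ bet a b = 0 ∨ a * b * (a * b) = a * a * (b * b) * z ∧ bet a b = 1 := by
    rcases C.comm_cases' hb ha with e | e
    · left
      refine ⟨?_, bet_eq_zero.mpr e.symm⟩
      rw [mul_assoc a b, ← mul_assoc b a b, e]; simp only [mul_assoc]
    · right
      refine ⟨?_, bet_eq_one.mpr fun h => C.es.ne (mul_eq_left.mp (h.trans e).symm)⟩
      rw [mul_assoc a b, ← mul_assoc b a b, e, mul_assoc (a * b) z b, ← C.cz hb]
      simp only [mul_assoc]
  have hz := C.zz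
  have h0 : ∀ t : G, t * t = 1 → sqf t = 0 := fun t h => sqf_eq_zero.mpr h
  have h1 : ∀ t : G, t * t = z → sqf t = 1 := fun t h => sqf_eq_one.mpr (h ▸ C.es.ne)
  rcases key with ⟨e, e'⟩ | ⟨e, e'⟩ <;> rcases C.es.sq a ha with ea | ea <;> rcases C.es.sq b hb with eb | eb <;>
    simp only [ea, eb, one_mul, mul_one, hz] at e <;>
    rw [e'] <;>
    (first | rw [h0 _ e] | rw [h1 _ e]) <;>
    (first | rw [h0 _ ea] | rw [h1 _ ea]) <;>
    (first | rw [h0 _ eb] | rw [h1 _ eb]) <;>
    decide

/-- The action of an element of the centralizer. -/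
noncomputable def act (m : G) : C.V →+ C.V where
  toFun x := open scoped Classical in if m * z = z * m then C.v (m * C.rep x * m⁻¹) else x
  map_zero' := by
    split_ifs with hm
    · rcases C.rep_cases (one_mem Q) with e | e <;> rw [C.v_one] at e <;> rw [e]
      · rw [mul_one, mul_inv_cancel, C.v_one]
      · rw [one_mul, hm, mul_inv_cancel_right, C.v_z]
    · rfl
  map_add' x y := by
    split_ifs with hm
    · rw [← C.v_mul (C.conj_q hm (C.rep_mem x)) (C.conj_q hm (C.rep_mem y)),
        show m * C.rep x * m⁻¹ * (m * C.rep y * m⁻¹) = m * (C.rep x * C.rep y) * m⁻¹ by group]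
      refine congrArg Additive.ofMul (C.cl_conj_congr hm (C.rep_mem _) (mul_mem (C.rep_mem x) (C.rep_mem y)) ?_)
      refine Additive.ofMul.injective ?_
      show C.v (C.rep (x + y)) = C.v (C.rep x * C.rep y)
      rw [C.v_rep, C.v_mul (C.rep_mem x) (C.rep_mem y), C.v_rep, C.v_rep]
    · rfl

theorem act_v {m a : G} (hm : m * z = z * m) (ha : a ∈ Q) : C.act m (C.v a) = C.v (m * a * m⁻¹) := by
  show (open scoped Classical in if m * z = z * m then C.v (m * C.rep (C.v a) * m⁻¹) else C.v a) = _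
  rw [if_pos hm]
  exact congrArg Additive.ofMul (C.cl_conj_congr hm (C.rep_mem _) ha (Additive.ofMul.injective (C.v_rep _)))

theorem act_mul {m n : G} (hm : m * z = z * m) (hn : n * z = z * n) (x : C.V) :
    C.act (m * n) x = C.act m (C.act n x) := by
  obtain ⟨a, ha, rfl⟩ := C.v_surj x
  rw [C.act_v (cz_mul hm hn) ha, C.act_v hn ha, C.act_v hm (C.conj_q hn ha)]
  congr 1; group

theorem act_congr {m n : G} (hm : m * z = z * m) (hn : n * z = z * n) (h : C.π m = C.π n) (x : C.V) :
    C.act m x = C.act n x := by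
  obtain ⟨a, ha, rfl⟩ := C.v_surj x
  rw [C.act_v hm ha, C.act_v hn ha]
  exact congrArg Additive.ofMul (C.cl_conj_eq hm hn h ha)

theorem act_trivial {m : G} (hm : m * z = z * m) (h : C.π m = 1) (x : C.V) : C.act m x = x := by
  obtain ⟨a, ha, rfl⟩ := C.v_surj x
  rw [C.act_v hm ha]
  exact congrArg Additive.ofMul (C.cl_conj_self hm h ha)

theorem act_inj {m : G} (hm : m * z = z * m) : Function.Injective (C.act m) := fun x y h => by
  have := congrArg (C.act m⁻¹) h
  rwa [← C.act_mul (cz_inv hm) hm, ← C.act_mul (cz_inv hm) hm, inv_mul_cancel,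
    C.act_trivial (by simp) C.map_one, C.act_trivial (by simp) C.map_one] at this

theorem act_surj {m : G} (hm : m * z = z * m) (x : C.V) : C.act m (C.act m⁻¹ x) = x := by
  rw [← C.act_mul hm (cz_inv hm), mul_inv_cancel, C.act_trivial (by simp) C.map_one]

theorem β_act {m : G} (hm : m * z = z * m) (x y : C.V) : C.β (C.act m x) (C.act m y) = C.β x y := by
  obtain ⟨a, ha, rfl⟩ := C.v_surj x; obtain ⟨b, hb, rfl⟩ := C.v_surj y
  rw [C.act_v hm ha, C.act_v hm hb, C.β_v (C.conj_q hm ha) (C.conj_q hm hb), C.β_v ha hb]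
  have key : (m * a * m⁻¹) * (m * b * m⁻¹) = (m * b * m⁻¹) * (m * a * m⁻¹) ↔ a * b = b * a := by
    rw [show (m * a * m⁻¹) * (m * b * m⁻¹) = m * (a * b) * m⁻¹ by group,
      show (m * b * m⁻¹) * (m * a * m⁻¹) = m * (b * a) * m⁻¹ by group, mul_left_inj, mul_right_inj]
  rcases zmod_two_cases (bet a b) with e | e <;> rw [e]
  · rw [bet_eq_zero] at e ⊢; exact key.mpr e
  · rw [bet_eq_one] at e ⊢; exact fun h => e (key.mp h)

theorem qf_act {m : G} (hm : m * z = z * m) (x : C.V) : C.qf (C.act m x) = C.qf x := by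
  obtain ⟨a, ha, rfl⟩ := C.v_surj x
  rw [C.act_v hm ha, C.qf_v (C.conj_q hm ha), C.qf_v ha]
  have key : m * a * m⁻¹ * (m * a * m⁻¹) = m * (a * a) * m⁻¹ := by group
  rcases zmod_two_cases (sqf a) with e | e <;> rw [e]
  · rw [sqf_eq_zero] at e ⊢; rw [key, e, mul_one, mul_inv_cancel]
  · rw [sqf_eq_one] at e ⊢; rw [key]; exact fun h => e (conj_eq_one_iff.mp h)

variable [Finite G]

instance : Finite C.V := Finite.of_surjective (fun a : Q => C.v a) fun x => by
  obtain ⟨a, ha, rfl⟩ := C.v_surj x; exact ⟨⟨a, ha⟩, rfl⟩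

theorem card_V : Nat.card C.V = 256 := C.card_Vq

/-- The quotient acts faithfully. -/
theorem faithful {m : G} (hm : m * z = z * m) (h : ∀ x, C.act m x = x) : C.π m = 1 := by
  classical
  refine (C.ker m hm).mpr ?_
  have hW : C.Wm hm = Q := by
    refine le_antisymm (C.Wm_le hm) fun q hq => (C.mem_Wm hm).mpr ⟨hq, ?_⟩
    refine (C.v_eq_zero (C.com_mem hm hq)).mp ?_
    rw [C.v_com hm hq]
    have hq' := C.conj_q' hm hq
    have := h (C.v (m⁻¹ * q * m))
    rw [C.act_v hm hq', show m * (m⁻¹ * q * m) * m⁻¹ = q by group] at this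
    rw [← this]; exact C.v_two _
  have hall : ∀ q ∈ Q, com m q = 1 ∨ com m q = z := fun q hq => ((C.mem_Wm hm).mp (hW.symm ▸ hq)).2
  by_cases hK : ∀ q ∈ Q, com m q = 1
  · rcases C.es.cen m fun q hq => by
      have := congrArg (fun y => q * m * y) (hK q hq)
      simpa [com, mul_assoc] using this with e | e
    · rw [e]; exact one_mem _
    · rw [e]; exact C.es.mem
  push Not at hK
  obtain ⟨q0, hq0, hq0'⟩ := hK
  set K : Subgroup G := Q ⊓ Subgroup.centralizer ({m} : Set G)
  have memK : ∀ q, q ∈ K ↔ q ∈ Q ∧ com m q = 1 := fun q => by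
    rw [Subgroup.mem_inf, Subgroup.mem_centralizer_singleton_iff]
    refine and_congr_right fun _ => ⟨fun e => ?_, fun e => ?_⟩
    · calc com m q = m⁻¹ * q⁻¹ * (m * q) := by simp only [com, mul_assoc]
        _ = m⁻¹ * q⁻¹ * (q * m) := by rw [e]
        _ = 1 := by group
    · have := congrArg (fun y => q * m * y) e
      simpa [com, mul_assoc] using this.symm
  have hcount : 256 ≤ Nat.card K := by
    have hle : Q ≤ Q := le_rfl
    have h2 : ∀ q ∈ Q, q ∈ K ∨ q0⁻¹ * q ∈ K := by
      intro q hq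
      rcases hall q hq with e | e
      · exact Or.inl ((memK q).mpr ⟨hq, e⟩)
      · right
        have hqq : q0⁻¹ * q ∈ Q := mul_mem (inv_mem hq0) hq
        refine (memK _).mpr ⟨hqq, ?_⟩
        rcases hall _ hqq with e' | e'
        · exact e'
        · exfalso
          have e0 : com m q0 = z := (hall q0 hq0).resolve_left hq0'
          have h1 : com m (q0 * (q0⁻¹ * q)) = com m (q0⁻¹ * q) * ((q0⁻¹ * q)⁻¹ * com m q0 * (q0⁻¹ * q)) := by
            simp only [com]; group
          rw [mul_inv_cancel_left, e, e', e0, mul_assoc _ z, ← C.cz hqq, inv_mul_cancel_left, C.zz] at h1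
          exact C.es.ne h1
    let f : ↥Q → ↥K × Bool := fun q => if hk : (q : G) ∈ K then (⟨q, hk⟩, false)
      else (⟨q0⁻¹ * q, (h2 q q.2).resolve_left hk⟩, true)
    have hf : Function.Injective f := by
      intro p q hpq
      simp only [f] at hpq
      split_ifs at hpq with h1 h2 h2 <;> simp only [Prod.mk.injEq, Subtype.mk.injEq, and_true, Bool.false_eq_true,
        Bool.true_eq_false, and_false] at hpq
      · exact Subtype.ext hpq
      · exact Subtype.ext (mul_left_cancel hpq)
    have := Nat.card_le_card_of_injective f hf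
    rw [C.card, Nat.card_prod, Nat.card_eq_fintype_card (α := Bool), Fintype.card_bool] at this
    omega
  have hzK : z ∈ K := (memK z).mpr ⟨C.es.mem, by
    rw [com, C.z_inv, mul_assoc m⁻¹ z m, ← hm, inv_mul_cancel_left, C.zz]⟩
  have hc := C.card_cent (A := K) inf_le_left hzK
  have hk4 : ∃ k ∈ Q, (∀ p ∈ K, p * k = k * p) ∧ com m q0 = com k q0 := by
    set L := Q ⊓ Subgroup.centralizer (K : Set G)
    obtain ⟨k, hk, hkc⟩ : ∃ k ∈ L, k * q0 ≠ q0 * k := by
      by_contra hh
      push Not at hh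
      have hL : L ≤ Q ⊓ Subgroup.centralizer (Q : Set G) := fun k hk => by
        refine ⟨hk.1, Subgroup.mem_centralizer_iff.mpr fun q hq => ?_⟩
        have hkK : ∀ p ∈ K, p * k = k * p := fun p hp => Subgroup.mem_centralizer_iff.mp hk.2 p hp
        rcases hall q hq with e | e
        · exact hkK q ((memK q).mpr ⟨hq, e⟩)
        · have hqq : q0⁻¹ * q ∈ K := by
            refine (memK _).mpr ⟨mul_mem (inv_mem hq0) hq, ?_⟩
            have e0 : com m q0 = z := (hall q0 hq0).resolve_left hq0'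
            rcases hall _ (mul_mem (inv_mem hq0) hq) with e' | e'
            · exact e'
            · exfalso
              have h1 : com m (q0 * (q0⁻¹ * q)) = com m (q0⁻¹ * q) * ((q0⁻¹ * q)⁻¹ * com m q0 * (q0⁻¹ * q)) := by
                simp only [com]; group
              rw [mul_inv_cancel_left, e, e', e0, mul_assoc _ z, ← C.cz (mul_mem (inv_mem hq0) hq),
                inv_mul_cancel_left, C.zz] at h1
              exact C.es.ne h1
          have := Commute.mul_left (show Commute q0 k from (hh k hk).symm) (hkK _ hqq)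
          rwa [mul_inv_cancel_left] at this
      have h4 := C.card_cent (A := Q) le_rfl C.es.mem
      have hL2 := Nat.card_le_card_of_injective _ (Subgroup.inclusion_injective hL)
      rw [C.card] at h4
      have : Nat.card K ≤ 256 := by
        by_contra hcard
        push Not at hcard
        have hdvd := Subgroup.card_dvd_of_le (show K ≤ Q from inf_le_left)
        rw [C.card] at hdvd
        have : Nat.card K = 512 := by
          obtain ⟨i, hi, e⟩ := (Nat.dvd_prime_pow Nat.prime_two).mp (show Nat.card K ∣ 2 ^ 9 from hdvd)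
          rw [e] at hcard ⊢
          have : 8 < i := (Nat.pow_lt_pow_iff_right (by norm_num : 1 < 2)).mp (show 2 ^ 8 < 2 ^ i from hcard)
          rw [show i = 9 by omega]; norm_num
        have hKQ : K = Q := Subgroup.eq_of_le_of_card_ge inf_le_left (by rw [this, C.card])
        exact hq0' ((memK q0).mp (hKQ ▸ hq0)).2
      have h5 : Nat.card K * Nat.card L ≤ 256 * 2 := Nat.mul_le_mul this (by omega)
      omega
    refine ⟨k, hk.1, fun p hp => Subgroup.mem_centralizer_iff.mp hk.2 p hp, ?_⟩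
    rw [(hall q0 hq0).resolve_left hq0']
    rcases C.conj_cases (inv_mem hq0) hk.1 with e | e
    · exact absurd (by have := congrArg (fun y => q0 * y) e; simpa [mul_assoc] using this) hkc
    · rw [show com k q0 = k⁻¹ * (q0⁻¹ * k * q0⁻¹⁻¹) by simp only [com, inv_inv]; group, e, inv_mul_cancel_left]
  obtain ⟨k, hkQ, hkK, hkq⟩ := hk4
  have hcomm : ∀ q ∈ Q, (m * k⁻¹) * q = q * (m * k⁻¹) := by
    intro q hq
    have hfix : ∀ p, p ∈ K → Commute (m * k⁻¹) p := fun p hp =>
      Commute.mul_left (Subgroup.mem_centralizer_singleton_iff.mp hp.2).symm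
        (Commute.inv_left (hkK p hp).symm)
    have h0 : Commute (m * k⁻¹) q0 := by
      show m * k⁻¹ * q0 = q0 * (m * k⁻¹)
      have := congrArg (fun y => k⁻¹ * m * (k⁻¹ * y * q0⁻¹)⁻¹) hkq
      simp only [com] at hkq
      have e : m⁻¹ * q0⁻¹ * m = k⁻¹ * q0⁻¹ * k := mul_right_cancel hkq
      calc m * k⁻¹ * q0 = m * (k⁻¹ * q0⁻¹ * k)⁻¹ * k⁻¹ := by group
        _ = m * (m⁻¹ * q0⁻¹ * m)⁻¹ * k⁻¹ := by rw [e]
        _ = _ := by group
    rcases hall q hq with e | e
    · exact hfix q ((memK q).mpr ⟨hq, e⟩)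
    · have hqq : q0⁻¹ * q ∈ K := by
        refine (memK _).mpr ⟨mul_mem (inv_mem hq0) hq, ?_⟩
        have e0 : com m q0 = z := (hall q0 hq0).resolve_left hq0'
        rcases hall _ (mul_mem (inv_mem hq0) hq) with e' | e'
        · exact e'
        · exfalso
          have h1 : com m (q0 * (q0⁻¹ * q)) = com m (q0⁻¹ * q) * ((q0⁻¹ * q)⁻¹ * com m q0 * (q0⁻¹ * q)) := by
            simp only [com]; group
          rw [mul_inv_cancel_left, e, e', e0, mul_assoc _ z, ← C.cz (mul_mem (inv_mem hq0) hq),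
            inv_mul_cancel_left, C.zz] at h1
          exact C.es.ne h1
      have := h0.mul_right (hfix _ hqq)
      rwa [mul_inv_cancel_left] at this
  rcases C.es.cen _ hcomm with e | e
  · rw [mul_inv_eq_one.mp e]; exact hkQ
  · rw [mul_inv_eq_iff_eq_mul.mp e]; exact mul_mem C.es.mem hkQ

/-! ### The action of the quotient -/

/-- A chosen preimage. -/
noncomputable def lift (w : W) : G :=
  open scoped Classical in if h : ∃ a, a * z = z * a ∧ C.π a = w then h.choose else 1

omit [Finite G] in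
theorem lift_spec {w : W} (hw : psi w = 1) : C.lift w * z = z * C.lift w ∧ C.π (C.lift w) = w := by
  unfold lift
  rw [dif_pos (C.big w hw)]
  exact (C.big w hw).choose_spec

/-- The action of an element of the quotient. -/
noncomputable def aw (w : W) : C.V →+ C.V := C.act (C.lift w)

omit [Finite G] in
theorem aw_eq {w : W} (hw : psi w = 1) {m : G} (hm : m * z = z * m) (h : C.π m = w) (x : C.V) :
    C.act m x = C.aw w x :=
  C.act_congr hm (C.lift_spec hw).1 (by rw [h, (C.lift_spec hw).2]) x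

omit [Finite G] in
theorem aw_mul {w w' : W} (hw : psi w = 1) (hw' : psi w' = 1) (x : C.V) :
    C.aw (w * w') x = C.aw w (C.aw w' x) := by
  obtain ⟨h1, h2⟩ := C.lift_spec hw
  obtain ⟨h1', h2'⟩ := C.lift_spec hw'
  rw [← C.aw_eq (by rw [_root_.map_mul, hw, hw', one_mul]) (cz_mul h1 h1') (by rw [C.map_mul _ _ h1 h1', h2, h2']),
    C.act_mul h1 h1']
  rfl

omit [Finite G] in
theorem aw_one (x : C.V) : C.aw 1 x = x :=
  C.act_trivial (C.lift_spec (w := 1) (_root_.map_one _)).1 (C.lift_spec (w := 1) (_root_.map_one _)).2 x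

omit [Finite G] in
theorem aw_inj {w : W} (hw : psi w = 1) : Function.Injective (C.aw w) := C.act_inj (C.lift_spec hw).1

theorem aw_faithful {w : W} (hw : psi w = 1) (h : ∀ x, C.aw w x = x) : w = 1 := by
  rw [← (C.lift_spec hw).2]
  exact C.faithful (C.lift_spec hw).1 h

omit [Finite G] in
theorem act_aw {m : G} (hm : m * z = z * m) {w : W} (hw : psi w = 1) (x : C.V) :
    C.act m (C.aw w x) = C.aw (C.π m * w * (C.π m)⁻¹) (C.act m x) := by
  obtain ⟨h1, h2⟩ := C.lift_spec hw
  have hψ : psi (C.π m * w * (C.π m)⁻¹) = 1 := by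
    rw [_root_.map_mul, _root_.map_mul, hw, mul_one, ← _root_.map_mul, mul_inv_cancel, _root_.map_one]
  rw [← C.aw_eq hψ (cz_conj hm h1) (by rw [C.map_conj hm h1, h2]) (C.act m x), C.act_mul (cz_mul hm h1) (cz_inv hm),
    ← C.act_mul (cz_inv hm) hm, inv_mul_cancel, C.act_trivial (by simp) C.map_one, C.act_mul hm h1]
  rfl

end Cfg

end CfsgSTS
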