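/-
An abelian group of exponent two and order `2⁸` acted on by `(3 × 3²)·4`.
-/
import Mathlib

set_option autoImplicit false

namespace CfsgSTS.Weights

variable {V : Type*} [AddCommGroup V]

/-- Projection onto the fixed points of an element of order three. -/
def P (e : V →+ V) : V →+ V := AddMonoidHom.id V + e + e.comp e

theorem P_apply (e : V →+ V) (v : V) : P e v = v + e v + e (e v) := rfl

theorem e_P {e : V →+ V} (he : ∀ v, e (e (e v)) = v) (v : V) : e (P e v) = P e v := by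
  simp only [P_apply, map_add, he]; abel

theorem P_of_fix (h2 : ∀ v : V, v + v = 0) {e : V →+ V} {v : V} (h : e v = v) : P e v = v := by
  rw [P_apply, h, h, h2, zero_add]

theorem four_nsmul (h2 : ∀ v : V, v + v = 0) (v : V) : (4 : ℕ) • v = 0 := by
  rw [show (4 : ℕ) = 2 + 2 from rfl, add_nsmul, h2]

theorem six_nsmul (h2 : ∀ v : V, v + v = 0) (v : V) : (6 : ℕ) • v = 0 := by
  rw [show (6 : ℕ) = 3 + 3 from rfl, add_nsmul, h2]

theorem four_zsmul (h2 : ∀ v : V, v + v = 0) (v : V) : (4 : ℤ) • v = 0 := by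
  rw [show (4 : ℤ) = 2 + 2 from rfl, add_zsmul, h2]

theorem six_zsmul (h2 : ∀ v : V, v + v = 0) (v : V) : (6 : ℤ) • v = 0 := by
  rw [show (6 : ℤ) = 3 + 3 from rfl, add_zsmul, h2]

theorem P_comm {e f : V →+ V} (h : ∀ v, e (f v) = f (e v)) (v : V) : P e (f v) = f (P e v) := by
  simp only [P_apply, map_add, h]

/-- The hypotheses: commuting elements `a`, `b`, `d` of order three and `u` of order four permuting `a`, `b`. -/
structure Data (a b d u : V →+ V) : Prop where
  two : ∀ v : V, v + v = 0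
  a3 : ∀ v, a (a (a v)) = v
  b3 : ∀ v, b (b (b v)) = v
  d3 : ∀ v, d (d (d v)) = v
  ab : ∀ v, a (b v) = b (a v)
  ad : ∀ v, a (d v) = d (a v)
  bd : ∀ v, b (d v) = d (b v)
  ud : ∀ v, u (d v) = d (u v)
  ua : ∀ v, u (a v) = b (u v)
  ub : ∀ v, u (b v) = a (a (u v))
  uinj : Function.Injective u

variable {a b d u : V →+ V}

/-- Combining the generators. -/
theorem Data.twist (h : Data a b d u) : Data (a.comp b) (b.comp (a.comp a)) d u where
  two := h.two
  a3 v := by simp only [AddMonoidHom.comp_apply]; rw [← h.ab, ← h.ab, ← h.ab, h.b3, h.a3]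
  b3 v := by simp only [AddMonoidHom.comp_apply, h.ab, h.a3, h.b3]
  d3 := h.d3
  ab v := by simp only [AddMonoidHom.comp_apply, h.ab]
  ad v := by simp only [AddMonoidHom.comp_apply, h.ad, h.bd]
  bd v := by simp only [AddMonoidHom.comp_apply, h.ad, h.bd]
  ud := h.ud
  ua v := by simp only [AddMonoidHom.comp_apply, h.ua, h.ub]
  ub v := by simp only [AddMonoidHom.comp_apply, h.ua, h.ub, h.ab, h.a3, h.b3]
  uinj := h.uinj

theorem Data.sq_a (h : Data a b d u) (v : V) : u (u (a v)) = a (a (u (u v))) := by rw [h.ua, h.ub]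

theorem Data.sq_b (h : Data a b d u) (v : V) : u (u (b v)) = b (b (u (u v))) := by rw [h.ub, h.ua, h.ua]

theorem Data.P_split (h : Data a b d u) (hd : ∀ v, P d v = 0) (v : V) :
    P (a.comp d) v + P (a.comp (d.comp d)) v = v + P a v := by
  have e : ∀ v, d (d v) = v + d v := by
    intro v
    have := hd v
    rw [P_apply] at this
    calc d (d v) = d (d v) + (v + d v + d (d v)) := by rw [this, add_zero]
      _ = v + d v + (d (d v) + d (d v)) := by abel
      _ = v + d v := by rw [h.two, add_zero]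
  simp only [P_apply, AddMonoidHom.comp_apply, h.ad, h.d3]
  simp only [e, map_add, h.ad]
  linear_combination (norm := skip) h.two v + h.two (a v) + h.two (d (a v)) + h.two (d (a (a v)))
  abel_nf
  simp [two_zsmul, two_nsmul, h.two, four_nsmul h.two, six_nsmul h.two, four_zsmul h.two, six_zsmul h.two]

/-- The square of `u` is a free involution when `d` and `⟨a, b⟩` have no fixed points. -/
theorem Data.free (h : Data a b d u) (hd : ∀ v, P d v = 0) (hE : ∀ v, P a (P b v) = 0) {x : V}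
    (hx : u (u x) = x) : ∃ y, y + u (u y) = x := by
  have h' : Data b (a.comp a) d u :=
    ⟨h.two, h.b3, fun v => by simp only [AddMonoidHom.comp_apply, h.a3], h.d3,
      fun v => by simp only [AddMonoidHom.comp_apply, h.ab], h.bd, fun v => by simp only [AddMonoidHom.comp_apply, h.ad],
      h.ud, fun v => by rw [h.ub]; rfl, fun v => by simp only [AddMonoidHom.comp_apply, h.ua, h.b3], h.uinj⟩
  have hPa : ∀ v, u (u (P a v)) = P a (u (u v)) := fun v => by
    simp only [P_apply, map_add, h.sq_a, h.a3]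
    abel
  have hP1 : ∀ v, u (u (P (a.comp (d.comp d)) v)) = P (a.comp d) (u (u v)) := fun v => by
    simp only [P_apply, AddMonoidHom.comp_apply, map_add, h.sq_a, h.ud, h.ad, h.d3, h.a3]
    abel
  have hP2 : ∀ v, u (u (P (b.comp (d.comp d)) v)) = P (b.comp d) (u (u v)) := fun v => by
    simp only [P_apply, AddMonoidHom.comp_apply, map_add, h.sq_b, h.ud, h.bd, h.d3, h.b3]
    abel
  refine ⟨P (a.comp (d.comp d)) x + P a (P (b.comp (d.comp d)) x), ?_⟩
  rw [map_add, map_add, hP1, hPa, hP2, hx]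
  calc _ = (P (a.comp d) x + P (a.comp (d.comp d)) x) + (P a (P (b.comp d) x) + P a (P (b.comp (d.comp d)) x)) := by abel
    _ = (x + P a x) + P a (P (b.comp d) x + P (b.comp (d.comp d)) x) := by rw [map_add, h.P_split hd x]
    _ = (x + P a x) + (P a x + P a (P b x)) := by rw [h'.P_split hd x, map_add]
    _ = x + (P a x + P a x) := by rw [hE, add_zero, add_assoc]
    _ = x := by rw [h.two, add_zero]

/-- The elements fixed by `a` and moved by `b`. -/
def U (a b : V →+ V) : AddSubgroup V := (a - AddMonoidHom.id V).ker ⊓ (P b).ker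

theorem mem_U {v : V} : v ∈ U a b ↔ a v = v ∧ P b v = 0 := by
  simp [U, AddSubgroup.mem_inf, sub_eq_zero]

theorem Data.u_U (h : Data a b d u) {v : V} (hv : v ∈ U a b) : u v ∈ U b a := by
  rw [mem_U] at hv ⊢
  refine ⟨by rw [← h.ua, hv.1], ?_⟩
  have := congrArg u hv.2
  simp only [P_apply, map_add, map_zero, h.ub, h.a3] at this
  rw [P_apply]
  rw [← this]; abel

theorem Data.U_inf (h : Data a b d u) {v : V} (h1 : v ∈ U a b) (h2 : v ∈ U b a) : v = 0 := by
  rw [mem_U] at h1 h2
  rw [← P_of_fix h.two h2.1, h1.2]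

/-- Either some `U` is nontrivial or `⟨a, b⟩` acts trivially. -/
theorem Data.exists_U (h : Data a b d u) (hne : ∃ v, a v ≠ v) :
    (∃ v ∈ U a b, v ≠ 0) ∨ ∃ v ∈ U (a.comp b) (b.comp (a.comp a)), v ≠ 0 := by
  by_contra hh
  push Not at hh
  obtain ⟨v, hv⟩ := hne
  have k : ∀ {a b : V →+ V}, Data a b d u → (∀ v ∈ U a b, v = 0) → ∀ v, P a v = P a (P b v) ∧ P b v = P a (P b v) := by
    intro a b h hU
    have hab : ∀ v, P a (P b v) = P b (P a v) := fun v => by
      simp only [P_apply, map_add, h.ab]; abel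
    have k1 : ∀ v, P a v = P a (P b v) := fun v => by
      have := hU (P a v + P a (P b v)) (mem_U.mpr ⟨by rw [map_add, e_P h.a3, e_P h.a3], by
        rw [map_add, ← hab, ← hab, P_of_fix h.two (e_P h.b3 v), h.two]⟩)
      exact eq_of_sub_eq_zero (by rw [sub_eq_add_neg, neg_eq_of_add_eq_zero_left (h.two _), this])
    refine fun v => ⟨k1 v, ?_⟩
    have hU' : ∀ v ∈ U b a, v = 0 := fun v hv => by
      have hu : u v ∈ U a b := by
        rw [mem_U] at hv ⊢
        have e1 : a (a (u v)) = u v := by rw [← h.ub, hv.1]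
        have e2 : a (u v) = u v := by
          have := congrArg a e1; rw [h.a3] at this; exact this.symm
        refine ⟨e2, ?_⟩
        have := congrArg u hv.2
        simp only [P_apply, map_add, map_zero, h.ua] at this
        rw [P_apply]; exact this
      exact h.uinj (by rw [hU _ hu, map_zero])
    have := hU' (P b v + P b (P a v)) (mem_U.mpr ⟨by rw [map_add, e_P h.b3, e_P h.b3], by
      rw [map_add, hab, hab, P_of_fix h.two (e_P h.a3 v), h.two]⟩)
    rw [hab]
    exact eq_of_sub_eq_zero (by rw [sub_eq_add_neg, neg_eq_of_add_eq_zero_left (h.two _), this])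
  obtain ⟨ka, kb⟩ := k h hh.1 v
  obtain ⟨kab, kba⟩ := k h.twist hh.2 v
  have hfix : ∀ w, a w = w → b w = w → P (a.comp b) (P (b.comp (a.comp a)) w) = w := fun w e1 e2 => by
    have e3 : (b.comp (a.comp a)) w = w := by simp only [AddMonoidHom.comp_apply, e1, e2]
    rw [P_of_fix h.two e3, P_of_fix h.two (by simp only [AddMonoidHom.comp_apply, e1, e2])]
  have key : P a v + P b v + P (a.comp b) v + P (b.comp (a.comp a)) v = v + P a (P b v) := by
    simp only [P_apply, map_add, AddMonoidHom.comp_apply, h.ab, h.a3, h.b3]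
    linear_combination (norm := skip) h.two v + h.two v
    abel_nf
    simp [two_zsmul, two_nsmul, h.two, four_nsmul h.two, six_nsmul h.two, four_zsmul h.two, six_zsmul h.two]
  set w := v + P a (P b v) with hw
  have hpa : P a w = 0 := by rw [map_add, P_of_fix h.two (e_P h.a3 _), ← ka, h.two]
  rw [ka, kb, kab, kba, P_of_fix h.two (e_P h.a3 _), P_of_fix h.two (e_P h.twist.a3 _), h.two, zero_add, h.two] at key
  have : a v = v := by
    have e : v = P a (P b v) := eq_of_sub_eq_zero (by rw [sub_eq_add_neg, neg_eq_of_add_eq_zero_left (h.two _)]; exact (key.trans hw).symm)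
    rw [e]; exact e_P h.a3 _
  exact hv this

variable [Finite V]

theorem four_le {Y : AddSubgroup V} (h2 : ∀ v : V, v + v = 0) {e : V →+ V} (he : ∀ v, e (e (e v)) = v) {y : V}
    (hy : y ∈ Y) (hey : e y ∈ Y) (hne : y ≠ 0) (hP : P e y = 0) : 4 ≤ Nat.card Y := by
  classical
  have h1 : e y ≠ y := fun e1 => hne (by rw [← P_of_fix h2 e1, hP])
  have h3 : e y ≠ 0 := fun e1 => hne (by rw [← he y, e1, map_zero, map_zero])
  have h4 : y + e y ≠ 0 := fun e1 => h1 (by
    calc e y = y + y + e y := by rw [h2, zero_add]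
      _ = y := by rw [add_assoc, e1, add_zero])
  let s : Finset Y := {0, ⟨y, hy⟩, ⟨e y, hey⟩, ⟨y + e y, Y.add_mem hy hey⟩}
  have hs : s.card = 4 := by
    have e5 : y + e y ≠ y := fun e1 => h3 (add_eq_left.mp e1)
    have e6 : y + e y ≠ e y := fun e1 => hne (add_eq_right.mp e1)
    simp [s, Subtype.ext_iff, hne.symm, h3.symm, h4.symm, h1.symm, e5.symm, e6.symm]
  have := Fintype.ofFinite Y
  rw [Nat.card_eq_fintype_card, ← hs]
  exact Finset.card_le_univ s

theorem card_inf_sup {A B : AddSubgroup V} (h : ∀ v ∈ A, v ∈ B → v = 0) :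
    Nat.card A * Nat.card B = Nat.card ↥(A ⊔ B) := by
  rw [← Nat.card_prod]
  refine Nat.card_congr (Equiv.ofBijective (fun p => ⟨(p.1 : V) + p.2, AddSubgroup.add_mem_sup p.1.2 p.2.2⟩) ⟨?_, ?_⟩)
  · intro p q hpq
    have hpq : (p.1 : V) + p.2 = q.1 + q.2 := congrArg Subtype.val hpq
    have h1 : (p.1 : V) - q.1 = q.2 - p.2 := sub_eq_sub_iff_add_eq_add.mpr (by rw [hpq, add_comm])
    have h0 : (p.1 : V) - q.1 = 0 := h _ (A.sub_mem p.1.2 q.1.2) (h1 ▸ B.sub_mem q.2.2 p.2.2)
    refine Prod.ext (Subtype.ext (sub_eq_zero.mp h0)) (Subtype.ext ?_)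
    rw [h0] at h1; exact (sub_eq_zero.mp h1.symm).symm
  · rintro ⟨v, hv⟩
    obtain ⟨x, hx, y, hy, rfl⟩ := AddSubgroup.mem_sup.mp hv
    exact ⟨(⟨x, hx⟩, ⟨y, hy⟩), rfl⟩

/-- If some moved point of `d` lies in `U`, then `d` and `⟨a, b⟩` have no fixed points. -/
theorem Data.whole (h : Data a b d u) (hcard : Nat.card V = 256) {v : V} (hv : v ∈ U a b) (hvd : P d v = 0)
    (hne : v ≠ 0) : (∀ w, P d w = 0) ∧ ∀ w, P a (P b w) = 0 := by
  classical
  set Y1 := U a b ⊓ (P d).ker
  set Y2 := U b a ⊓ (P d).ker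
  set Yp := Y1 ⊓ (b.comp d - AddMonoidHom.id V).ker
  set Ym := Y1 ⊓ (b.comp (d.comp d) - AddMonoidHom.id V).ker
  have hpd : ∀ w, w ∈ Y1 → d w ∈ Y1 ∧ u (u w) ∈ Y1 := by
    intro w hw
    simp only [Y1, AddSubgroup.mem_inf, mem_U, AddMonoidHom.mem_ker] at hw ⊢
    obtain ⟨⟨w1, w2⟩, w3⟩ := hw
    refine ⟨⟨⟨by rw [h.ad, w1], by rw [P_comm h.bd, w2, map_zero]⟩, by rw [P_comm (fun _ => rfl), w3, map_zero]⟩,
      ⟨⟨?_, ?_⟩, ?_⟩⟩
    · have := congrArg u (congrArg u w1)
      rw [h.sq_a] at this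
      have t2 := congrArg a this
      rw [h.a3] at t2
      exact t2.symm
    · have := congrArg (fun t => u (u t)) w2
      simp only [P_apply, map_add, map_zero, h.sq_b, h.b3] at this
      rw [P_apply, ← this]; abel
    · have := congrArg (fun t => u (u t)) w3
      simp only [P_apply, map_add, map_zero, h.ud] at this
      rw [P_apply, ← this]
  have hsplit : ∀ w ∈ Y1, w = P (b.comp d) w + P (b.comp (d.comp d)) w := by
    intro w hw
    simp only [Y1, AddSubgroup.mem_inf, mem_U, AddMonoidHom.mem_ker] at hw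
    obtain ⟨⟨-, w2⟩, w3⟩ := hw
    have e : d (d w) = w + d w := by
      rw [P_apply] at w3
      calc d (d w) = d (d w) + (w + d w + d (d w)) := by rw [w3, add_zero]
        _ = w + d w + (d (d w) + d (d w)) := by abel
        _ = w + d w := by rw [h.two, add_zero]
    have e' : b (b w) = w + b w := by
      rw [P_apply] at w2
      calc b (b w) = b (b w) + (w + b w + b (b w)) := by rw [w2, add_zero]
        _ = w + b w + (b (b w) + b (b w)) := by abel
        _ = w + b w := by rw [h.two, add_zero]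
    simp only [P_apply, AddMonoidHom.comp_apply, h.bd, h.d3, e', map_add]
    rw [e, show d (d (b w)) = b (d (d w)) by rw [h.bd, h.bd], e]
    simp only [map_add, h.bd]
    linear_combination (norm := skip) h.two (d w) + h.two (b w) + h.two (d (b w)) + h.two w
    abel_nf
    simp [two_zsmul, two_nsmul, h.two, four_nsmul h.two, six_nsmul h.two, four_zsmul h.two, six_zsmul h.two]
  have hmp : ∀ w ∈ Y1, P (b.comp d) w ∈ Yp := fun w hw => by
    refine AddSubgroup.mem_inf.mpr ⟨?_, ?_⟩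
    · have hb : ∀ t ∈ Y1, b t ∈ Y1 := fun t ht => by
        simp only [Y1, AddSubgroup.mem_inf, mem_U, AddMonoidHom.mem_ker] at ht ⊢
        exact ⟨⟨by rw [h.ab, ht.1.1], by rw [P_comm (fun _ => rfl), ht.1.2, map_zero]⟩,
          by rw [P_comm (fun t => (h.bd t).symm), ht.2, map_zero]⟩
      exact Y1.add_mem (Y1.add_mem hw (hb _ (hpd w hw).1)) (hb _ (hpd _ (hb _ (hpd w hw).1)).1)
    · rw [AddMonoidHom.mem_ker, AddMonoidHom.sub_apply, AddMonoidHom.id_apply, sub_eq_zero]
      exact e_P (fun t => by simp only [AddMonoidHom.comp_apply, h.bd, h.b3, h.d3]) w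
  have hmm : ∀ w ∈ Y1, P (b.comp (d.comp d)) w ∈ Ym := fun w hw => by
    refine AddSubgroup.mem_inf.mpr ⟨?_, ?_⟩
    · have := hsplit w hw
      have e : P (b.comp (d.comp d)) w = w + P (b.comp d) w := by
        calc P (b.comp (d.comp d)) w
            = P (b.comp d) w + P (b.comp (d.comp d)) w + P (b.comp d) w := by
              rw [add_comm (P (b.comp d) w), add_assoc, h.two, add_zero]
          _ = w + P (b.comp d) w := by rw [← this]
      rw [e]
      exact Y1.add_mem hw (AddSubgroup.mem_inf.mp (hmp w hw)).1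
    · rw [AddMonoidHom.mem_ker, AddMonoidHom.sub_apply, AddMonoidHom.id_apply, sub_eq_zero]
      exact e_P (fun t => by simp only [AddMonoidHom.comp_apply, h.bd, h.b3, h.d3]) w
  have hswap : ∀ w ∈ Yp, u (u w) ∈ Ym := fun w hw => by
    obtain ⟨hw1, hw2⟩ := AddSubgroup.mem_inf.mp hw
    refine AddSubgroup.mem_inf.mpr ⟨(hpd w hw1).2, ?_⟩
    rw [AddMonoidHom.mem_ker, AddMonoidHom.sub_apply, AddMonoidHom.id_apply, sub_eq_zero] at hw2 ⊢
    simp only [AddMonoidHom.comp_apply] at hw2 ⊢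
    have t1 := congrArg b (congrArg (fun t => d (d t)) (congrArg u (congrArg u hw2)))
    simp only [h.sq_b, h.ud, h.bd, h.b3, h.d3] at t1
    simp only [h.bd]
    exact t1.symm
  have hswap' : ∀ w ∈ Ym, u (u w) ∈ Yp := fun w hw => by
    obtain ⟨hw1, hw2⟩ := AddSubgroup.mem_inf.mp hw
    refine AddSubgroup.mem_inf.mpr ⟨(hpd w hw1).2, ?_⟩
    rw [AddMonoidHom.mem_ker, AddMonoidHom.sub_apply, AddMonoidHom.id_apply, sub_eq_zero] at hw2 ⊢
    simp only [AddMonoidHom.comp_apply] at hw2 ⊢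
    have t1 := congrArg b (congrArg d (congrArg u (congrArg u hw2)))
    simp only [h.sq_b, h.ud, h.bd, h.b3, h.d3] at t1
    simp only [h.bd]
    exact t1.symm
  have hv1 : v ∈ Y1 := AddSubgroup.mem_inf.mpr ⟨hv, hvd⟩
  have huu : ∀ w, u (u w) = 0 → w = 0 := fun w hw => h.uinj (h.uinj (by rw [hw, map_zero, map_zero]))
  obtain ⟨yp, hyp, hyp0⟩ : ∃ yp ∈ Yp, yp ≠ 0 := by
    by_contra hh
    push Not at hh
    have e1 := hh _ (hmp v hv1)
    have e2 := huu _ (hh _ (hswap' _ (hmm v hv1)))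
    exact hne (by rw [hsplit v hv1, e1, e2, add_zero])
  have h4p : 4 ≤ Nat.card Yp := by
    obtain ⟨w1, w2⟩ := AddSubgroup.mem_inf.mp hyp
    refine four_le h.two h.d3 hyp (AddSubgroup.mem_inf.mpr ⟨(hpd _ w1).1, ?_⟩) hyp0
      (AddSubgroup.mem_inf.mp w1).2
    rw [AddMonoidHom.mem_ker, AddMonoidHom.sub_apply, AddMonoidHom.id_apply, sub_eq_zero] at w2 ⊢
    simp only [AddMonoidHom.comp_apply] at w2 ⊢
    rw [h.bd, w2]
  have h4m : 4 ≤ Nat.card Ym := h4p.trans (Nat.card_le_card_of_injective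
    (fun w : Yp => (⟨u (u w), hswap w w.2⟩ : Ym)) fun x y hxy =>
      Subtype.ext (h.uinj (h.uinj (congrArg Subtype.val hxy))))
  have hdisj : ∀ w ∈ Yp, w ∈ Ym → w = 0 := by
    intro w hp hm
    obtain ⟨hw1, hp⟩ := AddSubgroup.mem_inf.mp hp
    obtain ⟨-, hm⟩ := AddSubgroup.mem_inf.mp hm
    rw [AddMonoidHom.mem_ker, AddMonoidHom.sub_apply, AddMonoidHom.id_apply, sub_eq_zero] at hp hm
    simp only [AddMonoidHom.comp_apply] at hp hm
    have e1 : d w = w := by
      have t := congrArg d hp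
      rw [← h.bd, hm] at t
      exact t.symm
    rw [← P_of_fix h.two e1]; exact (AddSubgroup.mem_inf.mp hw1).2
  have h16 : 16 ≤ Nat.card Y1 := by
    have e := card_inf_sup hdisj
    have : Nat.card ↥(Yp ⊔ Ym) ≤ Nat.card Y1 :=
      Nat.card_le_card_of_injective _ (AddSubgroup.inclusion_injective (sup_le inf_le_left inf_le_left))
    calc 16 = 4 * 4 := rfl
      _ ≤ Nat.card Yp * Nat.card Ym := Nat.mul_le_mul h4p h4m
      _ ≤ _ := e ▸ this
  have h16' : 16 ≤ Nat.card Y2 := by
    refine h16.trans (Nat.card_le_card_of_injective (fun w : Y1 => (⟨u w, ?_⟩ : Y2)) fun x y hxy =>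
      Subtype.ext (h.uinj (congrArg Subtype.val hxy)))
    obtain ⟨w1, w2⟩ := AddSubgroup.mem_inf.mp w.2
    refine AddSubgroup.mem_inf.mpr ⟨h.u_U w1, ?_⟩
    have := congrArg u (AddMonoidHom.mem_ker.mp w2)
    rw [map_zero] at this
    rw [AddMonoidHom.mem_ker, P_comm (fun t => (h.ud t).symm)]
    exact this
  have htop : ∀ w : V, w ∈ Y1 ⊔ Y2 := by
    have e := card_inf_sup (A := Y1) (B := Y2) fun w h1 h2 =>
      h.U_inf (AddSubgroup.mem_inf.mp h1).1 (AddSubgroup.mem_inf.mp h2).1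
    have : Y1 ⊔ Y2 = ⊤ := AddSubgroup.eq_top_of_le_card _ (by rw [hcard, ← e]; exact Nat.mul_le_mul h16 h16')
    intro w; rw [this]; trivial
  have hab : ∀ w, P a (P b w) = P b (P a w) := fun w => by simp only [P_apply, map_add, h.ab]; abel
  refine ⟨fun w => ?_, fun w => ?_⟩ <;> obtain ⟨p, hp, q, hq, rfl⟩ := AddSubgroup.mem_sup.mp (htop w)
  · rw [map_add, AddMonoidHom.mem_ker.mp (AddSubgroup.mem_inf.mp hp).2,
      AddMonoidHom.mem_ker.mp (AddSubgroup.mem_inf.mp hq).2, add_zero]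
  · rw [map_add, map_add, (mem_U.mp (AddSubgroup.mem_inf.mp hp).1).2, map_zero, hab,
      (mem_U.mp (AddSubgroup.mem_inf.mp hq).1).2, map_zero, add_zero]

end CfsgSTS.Weights
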