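/-
The two possible modules: `2 ⊗ 4` and `2 + 6`.
-/
import Cfsg.Agent.Lib.SymThreeAltSix.Forms
import Cfsg.Agent.Lib.SymThreeAltSix.Weights

set_option autoImplicit false

namespace CfsgSTS

open Weights

/-- The central element of order three. -/
def cd : W := (finRotate 3, 1)

theorem psi_cd : psi cd = 1 := by decide

theorem psi_even {r : Equiv.Perm (Fin 6)} (hr : Equiv.Perm.sign r = 1) : psi ((1, r) : W) = 1 :=
  psi_eq_one.mpr ⟨map_one _, hr⟩

theorem cd_cube : cd * (cd * cd) = 1 := by decide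

theorem cd_comm (r : Equiv.Perm (Fin 6)) : cd * ((1, r) : W) = (1, r) * cd := by
  refine Prod.ext ?_ ?_ <;> simp [cd]

theorem cd_conj (w : W) : w * cd * w⁻¹ = cd ∨ w * cd * w⁻¹ = cd * cd := by
  have h : ∀ p : Equiv.Perm (Fin 3), p * finRotate 3 * p⁻¹ = finRotate 3 ∨
      p * finRotate 3 * p⁻¹ = finRotate 3 * finRotate 3 := by decide
  rcases h w.1 with e | e
  · exact Or.inl (Prod.ext e (by simp [cd]))
  · exact Or.inr (Prod.ext e (by simp [cd]))

section abstractPlane

variable {V : Type*} [AddCommGroup V] [Finite V]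

/-- The plane spanned by an element moved by `e`. -/
def plane (h2 : ∀ v : V, v + v = 0) (e : V →+ V) (x : V) : AddSubgroup V where
  carrier := {t | t = 0 ∨ t = x ∨ t = e x ∨ t = x + e x}
  zero_mem' := Or.inl rfl
  add_mem' {a b} ha hb := by
    have hx := h2 x; have he := h2 (e x); have hxe := h2 (x + e x)
    have k1 : x + (x + e x) = e x := by rw [← add_assoc, hx, zero_add]
    have k2 : e x + (x + e x) = x := by rw [add_comm, add_assoc, he, add_zero]
    have k3 : x + e x + x = e x := by rw [add_comm (x + e x), k1]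
    have k4 : x + e x + e x = x := by rw [add_assoc, he, add_zero]
    have k5 : e x + x = x + e x := add_comm _ _
    show a + b = 0 ∨ a + b = x ∨ a + b = e x ∨ a + b = x + e x
    rcases ha with e1 | e1 | e1 | e1 <;> rcases hb with e2 | e2 | e2 | e2 <;> rw [e1, e2] <;>
      simp only [zero_add, add_zero, hx, he, hxe, k1, k2, k3, k4, k5, true_or, or_true]
  neg_mem' {a} ha := by
    have hn : -a = a := neg_eq_of_add_eq_zero_left (h2 a)
    rw [hn]; exact ha

omit [Finite V] in
theorem mem_plane {h2 : ∀ v : V, v + v = 0} {e : V →+ V} {x t : V} :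
    t ∈ plane h2 e x ↔ t = 0 ∨ t = x ∨ t = e x ∨ t = x + e x := Iff.rfl

theorem plane_or_sixteen (h2 : ∀ v : V, v + v = 0) {e : V →+ V} (he : ∀ v, e (e (e v)) = v) {Y : AddSubgroup V}
    (hY : ∀ v ∈ Y, e v ∈ Y ∧ P e v = 0) {x : V} (hx : x ∈ Y) (hx0 : x ≠ 0) :
    (∀ t ∈ Y, t = 0 ∨ t = x ∨ t = e x ∨ t = x + e x) ∨ 16 ≤ Nat.card Y := by
  by_cases hall : ∀ t ∈ Y, t = 0 ∨ t = x ∨ t = e x ∨ t = x + e x
  · exact Or.inl hall
  right
  push Not at hall
  obtain ⟨y, hy, hy0, hy1, hy2, hy3⟩ := hall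
  have hee : ∀ v ∈ Y, e (e v) = v + e v := fun v hv => by
    have := (hY v hv).2
    rw [P_apply] at this
    calc e (e v) = e (e v) + (v + e v + e (e v)) := by rw [this, add_zero]
      _ = v + e v + (e (e v) + e (e v)) := by abel
      _ = v + e v := by rw [h2, add_zero]
  have hcl : ∀ v ∈ Y, ∀ t ∈ plane h2 e v, t ∈ Y ∧ e t ∈ plane h2 e v := by
    rintro v hv t (rfl | rfl | rfl | rfl)
    · exact ⟨zero_mem _, by rw [map_zero]; exact zero_mem _⟩
    · exact ⟨hv, Or.inr (Or.inr (Or.inl rfl))⟩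
    · exact ⟨(hY v hv).1, Or.inr (Or.inr (Or.inr (hee v hv)))⟩
    · refine ⟨add_mem hv (hY v hv).1, Or.inr (Or.inl ?_)⟩
      rw [map_add, hee v hv, ← add_assoc, add_comm (e v), add_assoc, h2, add_zero]
  have hdis : ∀ t ∈ plane h2 e x, t ∈ plane h2 e y → t = 0 := by
    intro t ht ht'
    by_contra ht0
    have hin : y ∈ plane h2 e x := by
      have h1 := (hcl x hx t ht).2
      rcases ht' with rfl | rfl | rfl | rfl
      · exact absurd rfl ht0
      · exact ht
      · have := (hcl x hx _ h1).2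
        rwa [he] at this
      · rw [map_add, hee y hy, ← add_assoc, add_comm (e y), add_assoc, h2, add_zero] at h1
        exact h1
    rcases hin with e1 | e1 | e1 | e1
    exacts [hy0 e1, hy1 e1, hy2 e1, hy3 e1]
  have h4 : ∀ v ∈ Y, v ≠ 0 → 4 ≤ Nat.card (plane h2 e v) := fun v hv hv0 =>
    four_le h2 he (Or.inr (Or.inl rfl)) (Or.inr (Or.inr (Or.inl rfl))) hv0 (hY v hv).2
  have := card_inf_sup hdis
  have hle : Nat.card ↥(plane h2 e x ⊔ plane h2 e y) ≤ Nat.card Y :=
    Nat.card_le_card_of_injective _ (AddSubgroup.inclusion_injective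
      (sup_le (fun t ht => (hcl x hx t ht).1) (fun t ht => (hcl y hy t ht).1)))
  calc 16 = 4 * 4 := rfl
    _ ≤ _ := Nat.mul_le_mul (h4 x hx hx0) (h4 y hy hy0)
    _ ≤ _ := this ▸ hle

end abstractPlane

variable {G : Type*} [Group G] {Q : Subgroup G} {z : G}

namespace Cfg

variable (C : Cfg Q z)

/-- `d` has no fixed points on `Q/⟨z⟩`. -/
def Ten : Prop := ∀ x : C.V, P (C.aw cd) x = 0

theorem aw_cd3 (x : C.V) : C.aw cd (C.aw cd (C.aw cd x)) = x := by
  have h2 : psi (cd * cd) = 1 := by decide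
  rw [← C.aw_mul psi_cd psi_cd, ← C.aw_mul h2 psi_cd, mul_assoc, cd_cube, C.aw_one]

theorem aw_cd_even {r : Equiv.Perm (Fin 6)} (hr : Equiv.Perm.sign r = 1) (x : C.V) :
    C.aw cd (C.aw (1, r) x) = C.aw (1, r) (C.aw cd x) := by
  rw [← C.aw_mul psi_cd (psi_even hr), cd_comm, C.aw_mul (psi_even hr) psi_cd]

theorem act_P {m : G} (hm : m * z = z * m) (x : C.V) :
    C.act m (P (C.aw cd) x) = P (C.aw cd) (C.act m x) := by
  simp only [P_apply, map_add, C.act_aw hm psi_cd]
  rcases cd_conj (C.π m) with e | e <;> rw [e]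
  rw [C.aw_mul psi_cd psi_cd, C.aw_mul psi_cd psi_cd, C.aw_cd3]
  abel

theorem aw_comp {a b : Equiv.Perm (Fin 6)} (ha : Equiv.Perm.sign a = 1) (hb : Equiv.Perm.sign b = 1) (x : C.V) :
    C.aw (1, a * b) x = C.aw (1, a) (C.aw (1, b) x) := by
  rw [← C.aw_mul (psi_even ha) (psi_even hb)]
  simp

theorem data : Data (C.aw (1, pa)) (C.aw (1, pb)) (C.aw cd) (C.aw (1, pu)) := by
  have k : ∀ {a b c e : Equiv.Perm (Fin 6)}, Equiv.Perm.sign a = 1 → Equiv.Perm.sign b = 1 → Equiv.Perm.sign c = 1 →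
      Equiv.Perm.sign e = 1 → a * b = c * e → ∀ x, C.aw (1, a) (C.aw (1, b) x) = C.aw (1, c) (C.aw (1, e) x) := by
    intro a b c e ha hb hc he h x
    rw [← C.aw_comp ha hb, h, C.aw_comp hc he]
  have k3 : ∀ {a : Equiv.Perm (Fin 6)}, Equiv.Perm.sign a = 1 → a * a * a = 1 →
      ∀ x, C.aw (1, a) (C.aw (1, a) (C.aw (1, a) x)) = x := fun {a} ha h x => by
    rw [← C.aw_comp ha ha, ← C.aw_comp (by rw [_root_.map_mul, ha, one_mul]) ha, h]
    exact C.aw_one x
  refine ⟨C.v_two, k3 pa_sign pa_cube, k3 pb_sign pb_cube, C.aw_cd3,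
    k pa_sign pb_sign pb_sign pa_sign pa_pb, fun x => (C.aw_cd_even pa_sign x).symm,
    fun x => (C.aw_cd_even pb_sign x).symm, fun x => (C.aw_cd_even pu_sign x).symm,
    k pu_sign pa_sign pb_sign pu_sign (mul_inv_eq_iff_eq_mul.mp pu_a), fun x => ?_, C.aw_inj (psi_even pu_sign)⟩
  rw [k pu_sign pb_sign (by rw [_root_.map_mul, pa_sign, one_mul]) pu_sign
      (show pu * pb = pa * pa * pu from by
        rw [mul_inv_eq_iff_eq_mul.mp pu_b, inv_eq_of_mul_eq_one_right (show pa * (pa * pa) = 1 by rw [← mul_assoc, pa_cube])]),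
    C.aw_comp pa_sign pa_sign]

theorem orth {e : C.V →+ C.V} (he : ∀ x y, C.β (e x) (e y) = C.β x y) {y w : C.V} (hy : e y = y)
    (hw : P e w = 0) : C.β y w = 0 := by
  have h1 : C.β y (e w) = C.β y w := by conv_lhs => rw [← hy, he]
  have h2 : C.β y (e (e w)) = C.β y w := by conv_lhs => rw [← hy, he, h1]
  have := congrArg (C.β y) hw
  rw [P_apply, C.β_add_right, C.β_add_right, h1, h2, C.β_zero_right, zmod_two_self, zero_add] at this
  exact this

theorem plane_q {e : C.V →+ C.V} (hq : ∀ x, C.qf (e x) = C.qf x) {w : C.V} (hw : P e w = 0)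
    (hb : C.β w (e w) = 1) : C.qf w = 1 := by
  have hee : e (e w) = w + e w := by
    rw [P_apply] at hw
    calc e (e w) = e (e w) + (w + e w + e (e w)) := by rw [hw, add_zero]
      _ = w + e w + (e (e w) + e (e w)) := by abel
      _ = w + e w := by rw [C.v_two, add_zero]
  have := congrArg C.qf hee
  rw [hq, hq, C.qf_add, hq, hb, zmod_two_self, zero_add] at this
  exact this

theorem aw_β {w : W} (hw : psi w = 1) (x y : C.V) : C.β (C.aw w x) (C.aw w y) = C.β x y :=
  C.β_act (C.lift_spec hw).1 x y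

theorem aw_qf {w : W} (hw : psi w = 1) (x : C.V) : C.qf (C.aw w x) = C.qf x := C.qf_act (C.lift_spec hw).1 x

variable [Finite G]

theorem exists_moved : ∃ x, C.aw (1, pa) x ≠ x := by
  by_contra hh
  push Not at hh
  exact pa_ne (congrArg Prod.snd (C.aw_faithful (psi_even pa_sign) hh))

/-- The dichotomy: if `⟨a, b⟩` moves a point moved by `d`, then the module is `2 ⊗ 4`. -/
theorem whole_of_moved {x : C.V} (hx : P (C.aw cd) x = 0) (hax : C.aw (1, pa) x ≠ x) :
    C.Ten ∧ ∀ w, P (C.aw (1, pa)) (P (C.aw (1, pb)) w) = 0 := by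
  have h := C.data
  set K := (P (C.aw cd)).ker
  have hinv : ∀ {f : C.V →+ C.V}, (∀ v, f (C.aw cd v) = C.aw cd (f v)) → ∀ v ∈ K, f v ∈ K := fun hf v hv => by
    have hv : P (C.aw cd) v = 0 := hv
    show P (C.aw cd) _ = 0
    rw [P_comm (fun t => (hf t).symm), hv, map_zero]
  let R : ∀ (f : C.V →+ C.V), (∀ v, f (C.aw cd v) = C.aw cd (f v)) → (↥K →+ ↥K) := fun f hf =>
    (f.comp K.subtype).codRestrict K fun v => hinv hf v v.2
  have hK : Data (R _ h.ad) (R _ h.bd) (R (C.aw cd) fun _ => rfl) (R _ h.ud) :=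
    ⟨fun v => Subtype.ext (h.two v), fun v => Subtype.ext (h.a3 v), fun v => Subtype.ext (h.b3 v),
      fun v => Subtype.ext (h.d3 v), fun v => Subtype.ext (h.ab v), fun v => Subtype.ext (h.ad v),
      fun v => Subtype.ext (h.bd v), fun v => Subtype.ext (h.ud v), fun v => Subtype.ext (h.ua v),
      fun v => Subtype.ext (h.ub v), fun v w hvw => Subtype.ext (h.uinj (congrArg Subtype.val hvw))⟩
  have hne : ∃ v : K, R _ h.ad v ≠ v := ⟨⟨x, hx⟩, fun e => hax (congrArg Subtype.val e)⟩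
  rcases hK.exists_U hne with ⟨v, hv, hv0⟩ | ⟨v, hv, hv0⟩
  · refine h.whole C.card_V (v := (v : C.V)) ?_ v.2 (fun e => hv0 (Subtype.ext e))
    rw [mem_U] at hv ⊢
    exact ⟨congrArg Subtype.val hv.1, congrArg Subtype.val hv.2⟩
  · obtain ⟨h1, h2⟩ := h.twist.whole C.card_V (v := (v : C.V)) (by
      rw [mem_U] at hv ⊢
      exact ⟨congrArg Subtype.val hv.1, congrArg Subtype.val hv.2⟩) v.2 (fun e => hv0 (Subtype.ext e))
    refine ⟨h1, fun w => ?_⟩
    set t := P (C.aw (1, pa)) (P (C.aw (1, pb)) w) with ht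
    have e1 : C.aw (1, pa) t = t := e_P h.a3 _
    have e2 : C.aw (1, pb) t = t := by
      rw [ht]
      simp only [P_apply, map_add, h.a3, h.b3, h.ab]
      abel
    have := h2 t
    rwa [P_of_fix h.two (show (C.aw (1, pb)).comp ((C.aw (1, pa)).comp (C.aw (1, pa))) t = t by
        simp only [AddMonoidHom.comp_apply, e1, e2]),
      P_of_fix h.two (show (C.aw (1, pa)).comp (C.aw (1, pb)) t = t by
        simp only [AddMonoidHom.comp_apply, e1, e2])] at this

theorem ten_E (hT : C.Ten) (w : C.V) : P (C.aw (1, pa)) (P (C.aw (1, pb)) w) = 0 := by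
  obtain ⟨x, hx⟩ := C.exists_moved
  exact (C.whole_of_moved (hT x) hx).2 w

/-- Involutions of `A₆` act freely on `2 ⊗ 4`. -/
theorem ten_free (hT : C.Ten) {r : Equiv.Perm (Fin 6)} (hr : Equiv.Perm.sign r = 1) (hrr : r * r = 1) (hr1 : r ≠ 1)
    {x : C.V} (hx : C.aw (1, r) x = x) : ∃ y, y + C.aw (1, r) y = x := by
  obtain ⟨g, hg, hgr⟩ := conj_sigma hrr hr1 hr
  have hgi : Equiv.Perm.sign g⁻¹ = 1 := by rw [_root_.map_inv, hg, inv_one]
  have huu : Equiv.Perm.sign (pu * pu) = 1 := by rw [_root_.map_mul, pu_sign, one_mul]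
  set x' := C.aw (1, g⁻¹) x with hx'def
  have hx' : C.aw (1, pu) (C.aw (1, pu) x') = x' := by
    rw [← C.aw_comp pu_sign pu_sign, hx'def, ← C.aw_comp huu hgi,
      show pu * pu * g⁻¹ = g⁻¹ * r by rw [← hgr]; group, C.aw_comp hgi hr, hx]
  obtain ⟨y, hy⟩ := C.data.free hT (C.ten_E hT) hx'
  refine ⟨C.aw (1, g) y, ?_⟩
  rw [← C.aw_comp pu_sign pu_sign] at hy
  rw [← C.aw_comp hr hg, show r * g = g * (pu * pu) by rw [← hgr]; group, C.aw_comp hg huu, ← map_add, hy, hx'def,
    ← C.aw_comp hg hgi, mul_inv_cancel]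
  exact C.aw_one x

/-- A predicate on even permutations which is multiplicative and holds on three-cycles holds everywhere. -/
theorem even_induction {p : Equiv.Perm (Fin 6) → Prop} (h1 : p 1)
    (hmul : ∀ a b, Equiv.Perm.sign a = 1 → Equiv.Perm.sign b = 1 → p a → p b → p (a * b))
    (h3 : ∀ c : Equiv.Perm (Fin 6), c.IsThreeCycle → p c) {r : Equiv.Perm (Fin 6)} (hr : Equiv.Perm.sign r = 1) :
    p r := by
  suffices h : ∀ r : Equiv.Perm (Fin 6), r ∈ Subgroup.closure {c : Equiv.Perm (Fin 6) | c.IsThreeCycle} →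
      Equiv.Perm.sign r = 1 ∧ p r from
    (h r (by rw [Equiv.Perm.closure_three_cycles_eq_alternating]; exact Equiv.Perm.mem_alternatingGroup.mpr hr)).2
  intro r hr
  induction hr using Subgroup.closure_induction with
  | mem c hc => exact ⟨hc.sign, h3 c hc⟩
  | one => exact ⟨_root_.map_one _, h1⟩
  | mul a b _ _ ha hb => exact ⟨by rw [_root_.map_mul, ha.1, hb.1, one_mul], hmul a b ha.1 hb.1 ha.2 hb.2⟩
  | inv a _ ha =>
    refine ⟨by rw [_root_.map_inv, ha.1, inv_one], ?_⟩
    have hfin : ∀ n : ℕ, Equiv.Perm.sign (a ^ n) = 1 ∧ p (a ^ n) := by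
      intro n
      induction n with
      | zero => exact ⟨_root_.map_one _, h1⟩
      | succ n ih =>
        rw [pow_succ]
        exact ⟨by rw [_root_.map_mul, ih.1, ha.1, one_mul], hmul _ _ ih.1 ha.1 ih.2 ha.2⟩
    have e : a⁻¹ = a ^ (orderOf a - 1) := by
      refine inv_eq_of_mul_eq_one_right ?_
      rw [← pow_succ', Nat.sub_add_cancel (orderOf_pos a), pow_orderOf_eq_one]
    rw [e]; exact (hfin _).2

/-- Three-cycles are conjugate to `pa` by even permutations. -/
theorem three_conj {c : Equiv.Perm (Fin 6)} (hc : c.IsThreeCycle) :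
    ∃ g : Equiv.Perm (Fin 6), Equiv.Perm.sign g = 1 ∧ g * pa * g⁻¹ = c := by
  have hpa : pa.IsThreeCycle := Equiv.Perm.isThreeCycle_swap_mul_swap_same (by decide : (1 : Fin 6) ≠ 0)
    (by decide : (1 : Fin 6) ≠ 2) (by decide) |> (fun h => by
      have : pa = Equiv.swap (1 : Fin 6) 0 * Equiv.swap 1 2 := by decide
      rw [this]; exact h)
  obtain ⟨g, hg⟩ := isConj_iff.mp (Equiv.Perm.isConj_iff_cycleType_eq.mpr (hpa.trans hc.symm))
  rcases Int.units_eq_one_or (Equiv.Perm.sign g) with e | e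
  · exact ⟨g, e, hg⟩
  · refine ⟨g * Equiv.swap 3 4, by rw [_root_.map_mul, e, Equiv.Perm.sign_swap (by decide)]; rfl, ?_⟩
    have hc' : Equiv.swap (3 : Fin 6) 4 * pa * (Equiv.swap (3 : Fin 6) 4)⁻¹ = pa := by decide
    rw [mul_inv_rev]
    conv_rhs => rw [← hg, ← hc']
    group

/-- Outside `2 ⊗ 4` the group `A₆` centralises the part moved by `d`. -/
theorem sum_trivial (hS : ¬ C.Ten) {r : Equiv.Perm (Fin 6)} (hr : Equiv.Perm.sign r = 1) :
    ∀ x, P (C.aw cd) x = 0 → C.aw (1, r) x = x := by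
  refine even_induction (p := fun r => ∀ x, P (C.aw cd) x = 0 → C.aw (1, r) x = x) (fun x _ => C.aw_one x)
    (fun a b ha hb pa' pb' x hx => ?_) (fun c hc x hx => ?_) hr
  · rw [C.aw_comp ha hb, pb' x hx, pa' x hx]
  · obtain ⟨g, hg, rfl⟩ := three_conj hc
    have hgi : Equiv.Perm.sign g⁻¹ = 1 := by rw [_root_.map_inv, hg, inv_one]
    have h1 : C.aw (1, pa) (C.aw (1, g⁻¹) x) = C.aw (1, g⁻¹) x := by
      by_contra hh
      refine hS (C.whole_of_moved ?_ hh).1
      rw [P_comm (C.aw_cd_even hgi), hx, map_zero]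
    rw [C.aw_comp (by rw [_root_.map_mul, hg, pa_sign, one_mul]) hgi, C.aw_comp hg pa_sign, h1, ← C.aw_comp hg hgi,
      mul_inv_cancel]
    exact C.aw_one x

/-- The planes in the reducible case. -/
theorem sum_core (hS : ¬ C.Ten) :
    (∃ x0, P (C.aw cd) x0 = 0 ∧ x0 ≠ 0 ∧ C.qf x0 = 1 ∧ C.β x0 (C.aw cd x0) = 1 ∧
      ∀ t, P (C.aw cd) t = 0 → t = 0 ∨ t = x0 ∨ t = C.aw cd x0 ∨ t = x0 + C.aw cd x0) ∧
    ∃ y, C.aw cd y = y ∧ C.qf y = 1 ∧ C.β y (C.aw (1, pu * pu) y) = 1 := by
  classical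
  have h := C.data
  obtain ⟨x, hx⟩ := C.exists_moved
  have hK : ∀ t, P (C.aw cd) t = 0 → C.aw (1, pa) t = t ∧ C.aw (1, pb) t = t := fun t ht =>
    ⟨C.sum_trivial hS pa_sign t ht, C.sum_trivial hS pb_sign t ht⟩
  -- choose the generators with a nontrivial `U`
  obtain ⟨A, B, hD, hU, hA, hB, hAβ, hBβ, hBq⟩ : ∃ A B : C.V →+ C.V, Data A B (C.aw cd) (C.aw (1, pu)) ∧
      (∃ v ∈ U A B, v ≠ 0) ∧ (∀ t, P (C.aw cd) t = 0 → A t = t) ∧ (∀ t, P (C.aw cd) t = 0 → B t = t) ∧
      (∀ x y, C.β (A x) (A y) = C.β x y) ∧ (∀ x y, C.β (B x) (B y) = C.β x y) ∧ (∀ x, C.qf (B x) = C.qf x) := by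
    have ba := C.aw_β (psi_even pa_sign); have bb := C.aw_β (psi_even pb_sign)
    have qa := C.aw_qf (psi_even pa_sign); have qb := C.aw_qf (psi_even pb_sign)
    rcases h.exists_U ⟨x, hx⟩ with hU | hU
    · exact ⟨_, _, h, hU, fun t ht => (hK t ht).1, fun t ht => (hK t ht).2, ba, bb, qb⟩
    · exact ⟨_, _, h.twist, hU, fun t ht => by simp only [AddMonoidHom.comp_apply, hK t ht],
        fun t ht => by simp only [AddMonoidHom.comp_apply, hK t ht],
        fun x y => by simp only [AddMonoidHom.comp_apply, ba, bb],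
        fun x y => by simp only [AddMonoidHom.comp_apply, ba, bb],
        fun x => by simp only [AddMonoidHom.comp_apply, qa, qb]⟩
  obtain ⟨v, hv, hv0⟩ := hU
  set K := (P (C.aw cd)).ker
  set F := ((C.aw cd) - AddMonoidHom.id C.V).ker
  have memK : ∀ t, t ∈ K ↔ P (C.aw cd) t = 0 := fun t => Iff.rfl
  have memF : ∀ t, t ∈ F ↔ C.aw cd t = t := fun t => by
    rw [AddMonoidHom.mem_ker, AddMonoidHom.sub_apply, AddMonoidHom.id_apply, sub_eq_zero]
  have hUF : ∀ t ∈ U A B, t ∈ F := by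
    intro t ht
    obtain ⟨ht1, ht2⟩ := mem_U.mp ht
    have hk : P (C.aw cd) (t + P (C.aw cd) t) = 0 := by
      rw [map_add, P_of_fix h.two (e_P h.d3 _), h.two]
    have hzero : t + P (C.aw cd) t = 0 := by
      have e2 := P_of_fix h.two (hB _ hk)
      rw [← e2, map_add, ht2, zero_add, P_apply (C.aw cd), map_add, map_add, P_comm hD.bd, P_comm hD.bd, P_comm hD.bd, ht2,
        map_zero, map_zero, add_zero, add_zero]
    rw [memF, eq_of_sub_eq_zero (show t - P (C.aw cd) t = 0 by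
      rw [sub_eq_add_neg, neg_eq_of_add_eq_zero_left (h.two _), hzero])]
    exact e_P h.d3 t
  have hu' : ∀ t ∈ U B A, C.aw (1, pu) t ∈ U A B := by
      intro t ht
      obtain ⟨ht1, ht2⟩ := mem_U.mp ht
      rw [mem_U]
      have e1 : A (A (C.aw (1, pu) t)) = C.aw (1, pu) t := by rw [← hD.ub, ht1]
      refine ⟨?_, ?_⟩
      · have := congrArg A e1; rw [hD.a3] at this; exact this.symm
      · have := congrArg (C.aw (1, pu)) ht2
        simp only [P_apply, map_add, map_zero, hD.ua] at this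
        rw [P_apply]; exact this
  have hUF' : ∀ t ∈ U B A, t ∈ F := by
    intro t ht
    have e := hu' t ht
    have := (memF _).mp (hUF _ e)
    rw [← hD.ud] at this
    exact (memF _).mpr (hD.uinj this)
  have hsplit : Nat.card K * Nat.card F = 256 := by
    have hd : ∀ t ∈ K, t ∈ F → t = 0 := fun t hk hf => by
      rw [← P_of_fix h.two ((memF t).mp hf)]; exact hk
    have htop : K ⊔ F = ⊤ := by
      rw [eq_top_iff]; intro t _
      have : t = (t + P (C.aw cd) t) + P (C.aw cd) t := by rw [add_assoc, h.two, add_zero]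
      rw [this]
      refine AddSubgroup.add_mem_sup ?_ ((memF _).mpr (e_P h.d3 t))
      rw [memK, map_add, P_of_fix h.two (e_P h.d3 _), h.two]
    rw [card_inf_sup hd, htop]
    simpa using C.card_V
  have hUinv : ∀ t ∈ U A B, B t ∈ U A B ∧ P B t = 0 := fun t ht => by
    obtain ⟨ht1, ht2⟩ := mem_U.mp ht
    exact ⟨mem_U.mpr ⟨by rw [hD.ab, ht1], by rw [P_comm (fun _ => rfl), ht2, map_zero]⟩, ht2⟩
  have hU'card : Nat.card (U A B) ≤ Nat.card (U B A) :=
    Nat.card_le_card_of_injective (fun t : U A B => (⟨C.aw (1, pu) t, hD.u_U t.2⟩ : U B A))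
      fun s t hst => Subtype.ext (hD.uinj (congrArg Subtype.val hst))
  have hUU := card_inf_sup (A := U A B) (B := U B A) fun t h1 h2 => hD.U_inf h1 h2
  have hUUle : Nat.card ↥(U A B ⊔ U B A) ≤ Nat.card F :=
    Nat.card_le_card_of_injective _ (AddSubgroup.inclusion_injective (sup_le hUF hUF'))
  have hU4 : 4 ≤ Nat.card (U A B) := four_le h.two hD.b3 hv (hUinv v hv).1 hv0 (hUinv v hv).2
  have hF16 : 16 ≤ Nat.card F := by
    refine le_trans ?_ (hUU ▸ hUUle)
    exact Nat.mul_le_mul hU4 (hU4.trans hU'card)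
  obtain ⟨x0, hx0K, hx00⟩ : ∃ x0, P (C.aw cd) x0 = 0 ∧ x0 ≠ 0 := by
    by_contra hh
    push Not at hh
    have hne : ∃ t, C.aw cd t ≠ t := by
      by_contra hh'
      push Not at hh'
      exact absurd (congrArg Prod.fst (C.aw_faithful psi_cd hh')) (by decide)
    obtain ⟨t, ht⟩ := hne
    have := hh (t + P (C.aw cd) t) (by rw [map_add, P_of_fix h.two (e_P h.d3 _), h.two])
    apply ht
    rw [eq_of_sub_eq_zero (show t - P (C.aw cd) t = 0 by
      rw [sub_eq_add_neg, neg_eq_of_add_eq_zero_left (h.two _), this])]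
    exact e_P h.d3 t
  have hKinv : ∀ t ∈ K, C.aw cd t ∈ K ∧ P (C.aw cd) t = 0 := fun t ht =>
    ⟨by rw [memK, P_comm (fun _ => rfl), (memK t).mp ht, map_zero], ht⟩
  have hK4 : 4 ≤ Nat.card K :=
    four_le h.two h.d3 ((memK x0).mpr hx0K) (hKinv x0 hx0K).1 hx00 hx0K
  -- `U` is a plane
  have hUplane : ∀ t ∈ U A B, t = 0 ∨ t = v ∨ t = B v ∨ t = v + B v := by
    rcases plane_or_sixteen h.two hD.b3 hUinv hv hv0 with hp | h16
    · exact hp
    · exfalso
      have : 256 ≤ Nat.card F := le_trans (Nat.mul_le_mul h16 (h16.trans hU'card)) (hUU ▸ hUUle)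
      nlinarith
  have hKperp : ∀ t ∈ K, ∀ f ∈ F, C.β f t = 0 := fun t ht f hf =>
    C.orth (C.aw_β psi_cd) ((memF f).mp hf) ht
  have hPab : ∀ t, B (P A t) = P A (B t) := fun t => (P_comm hD.ab t).symm
  have hperpU : ∀ t, t ∈ U A B → ∀ w, C.β t w = C.β t (P A w + P B (P A w)) := by
    intro t ht w
    obtain ⟨ht1, ht2⟩ := mem_U.mp ht
    have e : w = (P A w + P B (P A w)) + ((w + P A w) + P B (P A w)) := by
      calc w = w + (P A w + P A w) + (P B (P A w) + P B (P A w)) := by rw [h.two, h.two, add_zero, add_zero]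
        _ = _ := by abel
    conv_lhs => rw [e, C.β_add_right t (P A w + P B (P A w)), C.β_add_right t (w + P A w)]
    have z1 : C.β t (w + P A w) = 0 := C.orth hAβ ht1 (by rw [map_add, P_of_fix h.two (e_P hD.a3 _), h.two])
    have z2 : C.β t (P B (P A w)) = 0 := by
      rw [C.β_symm]; exact C.orth hBβ (e_P hD.b3 _) ht2
    rw [z1, z2, add_zero, add_zero]
  have hUb : C.β v (B v) = 1 := by
    apply zmod_two_ne
    intro hb0
    refine hv0 (C.β_nondeg fun w => ?_)
    rw [hperpU v hv w]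
    have hm : P A w + P B (P A w) ∈ U A B := mem_U.mpr ⟨by
      rw [map_add, e_P hD.a3, P_apply B (P A w), map_add, map_add, hD.ab, hD.ab, hD.ab, e_P hD.a3], by
      rw [map_add, P_of_fix h.two (e_P hD.b3 _), h.two]⟩
    rcases hUplane _ hm with e | e | e | e <;> rw [e]
    · exact C.β_zero_right v
    · exact C.β_self v
    · exact hb0
    · rw [C.β_add_right, C.β_self, hb0, add_zero]
  have hUq : ∀ t ∈ U A B, t ≠ 0 → C.qf t = 1 ∧ ∀ s ∈ U A B, s ≠ 0 → s ≠ t → C.β t s = 1 := by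
    have hq0 : C.qf v = 1 := C.plane_q hBq (hUinv v hv).2 hUb
    have hq1 : C.qf (B v) = 1 := by rw [hBq, hq0]
    have hq2 : C.qf (v + B v) = 1 := by rw [C.qf_add, hq0, hq1, hUb]; rfl
    intro t ht ht0
    refine ⟨?_, fun s hs hs0 hst => ?_⟩
    · rcases hUplane t ht with e | e | e | e
      · exact absurd e ht0
      all_goals rw [e]; assumption
    · rcases hUplane t ht with e | e | e | e <;> rcases hUplane s hs with e' | e' | e' | e' <;>
        first
        | exact absurd e ht0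
        | exact absurd e' hs0
        | exact absurd (e'.trans e.symm) hst
        | (rw [e, e']; simp only [C.β_add_left, C.β_add_right, C.β_self, hUb, C.β_symm (B v) v, add_zero, zero_add,
            zmod_two_self])
  -- the part moved by `d` is a plane
  have hKplane : ∀ t ∈ K, t = 0 ∨ t = x0 ∨ t = C.aw cd x0 ∨ t = x0 + C.aw cd x0 := by
    rcases plane_or_sixteen h.two h.d3 hKinv ((memK x0).mpr hx0K) hx00 with hp | h16
    · exact hp
    exfalso
    have hF : Nat.card F = 16 := by nlinarith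
    have hFeq : ∀ t ∈ F, t ∈ U A B ⊔ U B A := by
      have he : U A B ⊔ U B A = F := AddSubgroup.eq_of_le_of_card_ge (sup_le hUF hUF') (by
        rw [hF, ← hUU]
        exact Nat.mul_le_mul hU4 (hU4.trans hU'card))
      intro t ht; rw [he]; exact ht
    have hU'q : ∀ t ∈ U B A, t ≠ 0 → C.qf t = 1 := fun t ht ht0 => by
      have : C.aw (1, pu) t ∈ U A B := hu' t ht
      have hq := (hUq _ this fun e => ht0 (hD.uinj (by rw [e, map_zero]))).1
      rwa [C.aw_qf (psi_even pu_sign)] at hq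
    have horth : ∀ s ∈ U A B, ∀ t ∈ U B A, C.β s t = 0 := fun s hs t ht =>
      C.orth hAβ (mem_U.mp hs).1 (mem_U.mp ht).2
    have hnons : ∀ t ∈ F, t ≠ 0 → C.qf t = 1 → t ∈ U A B ∨ t ∈ U B A := by
      intro t ht ht0 hq
      obtain ⟨s, hs, s', hs', rfl⟩ := AddSubgroup.mem_sup.mp (hFeq t ht)
      by_cases h0 : s = 0
      · subst h0; rw [zero_add]; exact Or.inr hs'
      by_cases h0' : s' = 0
      · subst h0'; rw [add_zero]; exact Or.inl hs
      rw [C.qf_add, (hUq s hs h0).1, hU'q s' hs' h0', horth s hs s' hs'] at hq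
      exact absurd hq (by decide)
    let p : Equiv.Perm (Fin 6) → Prop := fun r => ∀ t ∈ U A B, C.aw (1, r) t ∈ U A B
    have himg : ∀ r, Equiv.Perm.sign r = 1 → (∀ t ∈ U A B, C.aw (1, r) t ∈ U A B) ∨
        ∀ t ∈ U A B, C.aw (1, r) t ∈ U B A := by
      intro r hr
      have hone : ∀ t ∈ U A B, t ≠ 0 → C.aw (1, r) t ∈ U A B ∨ C.aw (1, r) t ∈ U B A := fun t ht ht0 => by
        refine hnons _ ?_ (fun e => ht0 (C.aw_inj (psi_even hr) (by rw [e, map_zero])))
          (by rw [C.aw_qf (psi_even hr)]; exact (hUq t ht ht0).1)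
        rw [memF, C.aw_cd_even hr, (memF t).mp (hUF t ht)]
      have hBv : B v ∈ U A B := (hUinv v hv).1
      have hBv0 : B v ≠ 0 := fun e => hv0 (by rw [← hD.b3 v, e, map_zero, map_zero])
      have hb' : C.β (C.aw (1, r) v) (C.aw (1, r) (B v)) = 1 := by rw [C.aw_β (psi_even hr), hUb]
      rcases hone v hv hv0 with e1 | e1 <;> rcases hone (B v) hBv hBv0 with e2 | e2
      · left; intro t ht
        rcases hUplane t ht with rfl | rfl | rfl | rfl
        · rw [map_zero]; exact zero_mem _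
        · exact e1
        · exact e2
        · rw [map_add]; exact add_mem e1 e2
      · rw [horth _ e1 _ e2] at hb'; exact absurd hb' (by decide)
      · rw [C.β_symm, horth _ e2 _ e1] at hb'; exact absurd hb' (by decide)
      · right; intro t ht
        rcases hUplane t ht with rfl | rfl | rfl | rfl
        · rw [map_zero]; exact zero_mem _
        · exact e1
        · exact e2
        · rw [map_add]; exact add_mem e1 e2
    have hsurj : ∀ r, Equiv.Perm.sign r = 1 → p r → ∀ s ∈ U A B, ∃ t ∈ U A B, C.aw (1, r) t = s := by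
      intro r hr hp' s hs
      obtain ⟨t, ht⟩ := Finite.injective_iff_surjective.mp
        (show Function.Injective fun t : U A B => (⟨C.aw (1, r) t, hp' t t.2⟩ : U A B) from
          fun a b hab => Subtype.ext (C.aw_inj (psi_even hr) (congrArg Subtype.val hab))) ⟨s, hs⟩
      exact ⟨t, t.2, congrArg Subtype.val ht⟩
    have hall : p pu := by
      refine even_induction (p := p) (fun t ht => ?_) (fun a b ha hb hpa hpb t ht => ?_) (fun c hc => ?_) pu_sign
      · show C.aw (1, 1) t ∈ _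
        rw [show ((1, 1) : W) = 1 from rfl, C.aw_one]; exact ht
      · rw [C.aw_comp ha hb]; exact hpa _ (hpb t ht)
      · rcases himg c hc.sign with e | e
        · exact e
        · exfalso
          have hc2 : Equiv.Perm.sign (c * c) = 1 := by rw [_root_.map_mul, hc.sign, one_mul]
          rcases himg (c * c) hc2 with e' | e'
          · obtain ⟨t, ht, htv⟩ := hsurj (c * c) hc2 e' v hv
            have h3 : C.aw (1, c) v = t := by
              rw [← htv, ← C.aw_comp hc.sign hc2]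
              have : c * (c * c) = 1 := by
                have := pow_orderOf_eq_one c
                rw [hc.orderOf, pow_succ, pow_two] at this
                rw [← mul_assoc]; exact this
              rw [this]; exact C.aw_one t
            exact hv0 (C.aw_inj (psi_even hc.sign)
              (by rw [map_zero]; exact hD.U_inf (h3 ▸ ht) (e v hv)))
          · have hc' : Nat.card (U B A) = Nat.card (U A B) :=
              le_antisymm (Nat.card_le_card_of_injective (fun t : U B A =>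
                (⟨C.aw (1, pu) t, hu' t t.2⟩ : U A B)) fun s t hst =>
                  Subtype.ext (hD.uinj (congrArg Subtype.val hst))) hU'card
            have hb : Function.Bijective fun t : U A B => (⟨C.aw (1, c) t, e t t.2⟩ : U B A) :=
              (Nat.bijective_iff_injective_and_card _).mpr ⟨fun a b hab => Subtype.ext
                (C.aw_inj (psi_even hc.sign) (congrArg Subtype.val hab)), hc'.symm⟩
            obtain ⟨⟨t, ht⟩, ht'⟩ := hb.2 ⟨_, e' v hv⟩
            have htv : C.aw (1, c) t = C.aw (1, c * c) v := congrArg Subtype.val ht'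
            rw [C.aw_comp hc.sign hc.sign] at htv
            have := C.aw_inj (psi_even hc.sign) htv
            exact hv0 (C.aw_inj (psi_even hc.sign) (by rw [map_zero]; exact hD.U_inf (this ▸ ht) (e v hv)))
    exact hv0 (hD.uinj (by rw [map_zero]; exact hD.U_inf (hall v hv) (hD.u_U hv)))
  refine ⟨⟨x0, hx0K, hx00, ?_⟩, ?_⟩
  · have hb : C.β x0 (C.aw cd x0) = 1 := by
      apply zmod_two_ne
      intro hb0
      refine hx00 (C.β_nondeg fun w => ?_)
      have e : w = (w + P (C.aw cd) w) + P (C.aw cd) w := by rw [add_assoc, h.two, add_zero]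
      rw [e, C.β_add_right, C.β_symm x0 (P (C.aw cd) w), hKperp x0 hx0K _ ((memF _).mpr (e_P h.d3 w)), add_zero]
      rcases hKplane (w + P (C.aw cd) w) (by rw [memK, map_add, P_of_fix h.two (e_P h.d3 _), h.two]) with
        e | e | e | e <;> rw [e]
      · exact C.β_zero_right _
      · exact C.β_self _
      · exact hb0
      · rw [C.β_add_right, C.β_self, hb0, add_zero]
    exact ⟨C.plane_q (C.aw_qf psi_cd) hx0K hb, hb, hKplane⟩
  · have huu : ∀ t ∈ U A B, C.aw (1, pu * pu) t ∈ U A B := fun t ht => by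
      rw [C.aw_comp pu_sign pu_sign]; exact hu' _ (hD.u_U ht)
    have hne : ∃ y ∈ U A B, y ≠ 0 ∧ C.aw (1, pu * pu) y ≠ y := by
      by_contra hh
      push Not at hh
      have hBv : B v ∈ U A B := (hUinv v hv).1
      have e1 := hh v hv hv0
      have e2 := hh (B v) hBv fun e => hv0 (by rw [← hD.b3 v, e, map_zero, map_zero])
      rw [C.aw_comp pu_sign pu_sign] at e1 e2
      rw [hD.sq_b, e1] at e2
      have hfix : B v = v := by
        have := congrArg (fun t => B (B t)) e2
        simp only [hD.b3] at this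
        exact this
      exact hv0 (by rw [← P_of_fix h.two hfix, (hUinv v hv).2])
    obtain ⟨y, hy, hy0, hyne⟩ := hne
    exact ⟨y, (memF y).mp (hUF y hy), (hUq y hy hy0).1, (hUq y hy hy0).2 _ (huu y hy)
      (fun e => hy0 (C.aw_inj (psi_even (by rw [_root_.map_mul, pu_sign, one_mul])) (by rw [e, map_zero]))) hyne⟩

/-- Witness for an involution of `A₆` in the reducible case. -/
theorem sum_wit (hS : ¬ C.Ten) {r : Equiv.Perm (Fin 6)} (hr : Equiv.Perm.sign r = 1) (hrr : r * r = 1) (hr1 : r ≠ 1) :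
    ∃ y, C.aw cd y = y ∧ C.qf y = 1 ∧ C.β y (C.aw (1, r) y) = 1 := by
  obtain ⟨g, hg, hgr⟩ := conj_sigma hrr hr1 hr
  have huu : Equiv.Perm.sign (pu * pu) = 1 := by rw [_root_.map_mul, pu_sign, one_mul]
  obtain ⟨y, h1, h2, h3⟩ := (C.sum_core hS).2
  refine ⟨C.aw (1, g) y, by rw [C.aw_cd_even hg, h1], by rw [C.aw_qf (psi_even hg), h2], ?_⟩
  rw [← C.aw_comp hr hg, show r * g = g * (pu * pu) by rw [← hgr]; group, C.aw_comp hg huu, C.aw_β (psi_even hg), h3]

omit [Finite G] in
theorem card_ker_map {A B : Type*} [AddCommGroup A] [AddCommGroup B] (f : A →+ B) (X : AddSubgroup A) :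
    Nat.card ↥(f.ker ⊓ X) * Nat.card (X.map f) = Nat.card X := by
  have h := AddSubgroup.card_mul_index (f.comp X.subtype).ker
  rw [AddSubgroup.index_ker] at h
  have e1 : (f.comp X.subtype).range = X.map f := by rw [AddMonoidHom.range_comp, AddSubgroup.range_subtype]
  have e2 : Nat.card (f.comp X.subtype).ker = Nat.card ↥(f.ker ⊓ X) :=
    Nat.card_congr
      { toFun := fun t => ⟨t.1.1, t.2, t.1.2⟩
        invFun := fun t => ⟨⟨t.1, t.2.2⟩, t.2.1⟩
        left_inv := fun _ => rfl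
        right_inv := fun _ => rfl }
  rwa [e1, e2] at h

/-- A nonradical plane in the fixed points of an involution of `A₆`, fixed by `d`. -/
theorem sum_pair (hS : ¬ C.Ten) {r : Equiv.Perm (Fin 6)} (hr : Equiv.Perm.sign r = 1) (hrr : r * r = 1) (hr1 : r ≠ 1) :
    ∃ f g, C.aw cd f = f ∧ C.aw cd g = g ∧ C.aw (1, r) f = f ∧ C.aw (1, r) g = g ∧ C.β f g = 1 := by
  classical
  obtain ⟨g, hg, hgr⟩ := conj_sigma hrr hr1 hr
  suffices H : ∃ f g, C.aw cd f = f ∧ C.aw cd g = g ∧ C.aw (1, pu * pu) f = f ∧ C.aw (1, pu * pu) g = g ∧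
      C.β f g = 1 by
    have huu : Equiv.Perm.sign (pu * pu) = 1 := by rw [_root_.map_mul, pu_sign, one_mul]
    obtain ⟨a, b, h1, h2, h3, h4, h5⟩ := H
    have k : ∀ t, C.aw (1, r) (C.aw (1, g) t) = C.aw (1, g) (C.aw (1, pu * pu) t) := fun t => by
      rw [← C.aw_comp hr hg, show r * g = g * (pu * pu) by rw [← hgr]; group, C.aw_comp hg huu]
    exact ⟨C.aw (1, g) a, C.aw (1, g) b, by rw [C.aw_cd_even hg, h1], by rw [C.aw_cd_even hg, h2], by rw [k, h3],
      by rw [k, h4], by rw [C.aw_β (psi_even hg), h5]⟩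
  obtain ⟨⟨x0, hx0K, hx00, -, -, hplane⟩, -⟩ := C.sum_core hS
  set F := ((C.aw cd) - AddMonoidHom.id C.V).ker
  have memF : ∀ t, t ∈ F ↔ C.aw cd t = t := fun t => by
    rw [AddMonoidHom.mem_ker, AddMonoidHom.sub_apply, AddMonoidHom.id_apply, sub_eq_zero]
  set N := C.aw (1, pu) + AddMonoidHom.id C.V with hN
  have hNN : ∀ t, N (N t) = C.aw (1, pu * pu) t + t := fun t => by
    rw [C.aw_comp pu_sign pu_sign]
    simp only [hN, AddMonoidHom.add_apply, AddMonoidHom.id_apply, map_add]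
    calc _ = C.aw (1, pu) (C.aw (1, pu) t) + t + (C.aw (1, pu) t + C.aw (1, pu) t) := by abel
      _ = _ := by rw [C.v_two, add_zero]
  have hN4 : ∀ t, N (N (N (N t))) = 0 := fun t => by
    have huu : Equiv.Perm.sign (pu * pu) = 1 := by rw [_root_.map_mul, pu_sign, one_mul]
    rw [hNN, hNN, map_add, ← C.aw_comp huu huu, show pu * pu * (pu * pu) = 1 by decide]
    rw [show ((1, 1) : W) = 1 from rfl, C.aw_one]
    calc _ = (C.aw (1, pu * pu) t + C.aw (1, pu * pu) t) + (t + t) := by abel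
      _ = 0 := by rw [C.v_two, C.v_two, add_zero]
  set F0 := F
  set F1 := F0.map N
  set F2 := F1.map N
  set F3 := F2.map N
  have hN_F : ∀ t ∈ F, N t ∈ F := fun t ht => by
    rw [memF] at ht ⊢
    simp only [hN, AddMonoidHom.add_apply, AddMonoidHom.id_apply, map_add, ht, C.aw_cd_even pu_sign]
  have hcard : Nat.card F = 64 := by
    set K := (P (C.aw cd)).ker
    have hd : ∀ t ∈ K, t ∈ F → t = 0 := fun t hk hf => by
      rw [← P_of_fix C.v_two ((memF t).mp hf)]; exact hk
    have htop : K ⊔ F = ⊤ := by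
      rw [eq_top_iff]; intro t _
      have : t = (t + P (C.aw cd) t) + P (C.aw cd) t := by rw [add_assoc, C.v_two, add_zero]
      rw [this]
      refine AddSubgroup.add_mem_sup ?_ ((memF _).mpr (e_P C.aw_cd3 t))
      show P (C.aw cd) _ = 0
      rw [map_add, P_of_fix C.v_two (e_P C.aw_cd3 _), C.v_two]
    have hK : Nat.card K = 4 := by
      refine le_antisymm ?_ (four_le C.v_two C.aw_cd3 hx0K
        (show P (C.aw cd) _ = 0 by rw [P_comm (fun _ => rfl), hx0K, map_zero]) hx00 hx0K)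
      let e : Fin 4 → C.V := ![0, x0, C.aw cd x0, x0 + C.aw cd x0]
      refine le_trans (Nat.card_le_card_of_injective (fun t : K => (⟨t, by
        rcases hplane t t.2 with e1 | e1 | e1 | e1 <;> [exact ⟨0, e1.symm⟩; exact ⟨1, e1.symm⟩; exact ⟨2, e1.symm⟩; exact ⟨3, e1.symm⟩]⟩
          : Set.range e)) fun a b hab => Subtype.ext (congrArg (fun s : Set.range e => (s : C.V)) hab)) ?_
      exact le_trans (Nat.card_le_card_of_surjective (Set.rangeFactorization e) Set.rangeFactorization_surjective)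
        (by rw [Nat.card_eq_fintype_card, Fintype.card_fin])
    have := card_inf_sup hd
    rw [htop, hK] at this
    have e : Nat.card (⊤ : AddSubgroup C.V) = 256 := by simpa using C.card_V
    omega
  by_contra hh
  push Not at hh
  -- then the fixed points of `σ` in the fixed space are the image of `σ + 1`
  have hσ : ∀ f ∈ F, C.aw (1, pu * pu) f = f → f ∈ F2 := by
    intro f hf hfs
    obtain ⟨a, ha, hav⟩ := C.v_surj f
    obtain ⟨hl, hlπ⟩ := C.lift_spec (psi_even (r := pu * pu) (by rw [_root_.map_mul, pu_sign, one_mul]))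
    set m := C.lift (1, pu * pu)
    have hmi : ∀ x, C.act m⁻¹ x = C.act m x := C.act_congr (cz_inv hl) hl (by
      rw [C.map_inv hl, hlπ]; decide)
    have hcen : a ∈ Q ⊓ Subgroup.centralizer (C.Wm hl : Set G) := by
      refine ⟨ha, Subgroup.mem_centralizer_iff.mpr fun w hw => bet_eq_zero.mp ?_⟩
      obtain ⟨hwQ, hwc⟩ := (C.mem_Wm hl).mp hw
      rw [bet_symm, ← C.β_v ha hwQ, hav]
      have hws : C.aw (1, pu * pu) (C.v w) = C.v w := by
        have e := (C.v_eq_zero (C.com_mem hl hwQ)).mpr hwc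
        rw [C.v_com hl hwQ] at e
        have e2 : C.act m⁻¹ (C.v w) = C.v w := by
          rw [C.act_v (cz_inv hl) hwQ, inv_inv]
          calc C.v (m⁻¹ * w * m) = C.v (m⁻¹ * w * m) + (C.v w + C.v w) := by rw [C.v_two, add_zero]
            _ = C.v w := by rw [← add_assoc, e, zero_add]
        rwa [hmi] at e2
      set p := P (C.aw cd) (C.v w)
      have hp : C.aw cd p = p := e_P C.aw_cd3 _
      have hsplit : C.v w = (C.v w + p) + p := by rw [add_assoc, C.v_two, add_zero]
      rw [hsplit, C.β_add_right, C.orth (C.aw_β psi_cd) ((memF f).mp hf)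
        (by rw [map_add, P_of_fix C.v_two hp, C.v_two]), zero_add]
      by_contra hb
      refine hh f p ((memF f).mp hf) hp hfs ?_ (zmod_two_ne hb)
      rw [← P_comm (C.aw_cd_even (by rw [_root_.map_mul, pu_sign, one_mul])), hws]
    rw [← C.Pm_eq_cent hl] at hcen
    obtain ⟨q, hq, hqa⟩ := (C.mem_Pm hl).mp hcen
    have hfq : f = C.aw (1, pu * pu) (C.v q) + C.v q := by
      have e : C.v a = C.v (com m q) := by
        rcases hqa with e | e <;> rw [e]
        exact C.v_mul_z (C.com_mem hl hq)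
      rw [← hav, e, C.v_com hl hq]
      congr 1
      show C.v (m⁻¹ * q * m) = C.act m (C.v q)
      rw [← hmi, C.act_v (cz_inv hl) hq, inv_inv]
    have hPq : P (C.aw cd) (C.v q) ∈ F := (memF _).mpr (e_P C.aw_cd3 _)
    refine ⟨N (P (C.aw cd) (C.v q)), ⟨_, hPq, rfl⟩, ?_⟩
    rw [hNN, ← P_comm (C.aw_cd_even (by rw [_root_.map_mul, pu_sign, one_mul])), ← map_add, ← hfq]
    exact P_of_fix C.v_two ((memF f).mp hf)
  set D := N.comp N
  have hD2 : F.map D = F2 := by rw [← AddSubgroup.map_map]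
  have hker : D.ker ⊓ F = F2 := by
    refine le_antisymm (fun f hf => hσ f hf.2 ?_) ?_
    · have : N (N f) = 0 := hf.1
      rw [hNN] at this
      calc C.aw (1, pu * pu) f = C.aw (1, pu * pu) f + (f + f) := by rw [C.v_two, add_zero]
        _ = f := by rw [← add_assoc, this, zero_add]
    · rintro _ ⟨_, ⟨t, ht, rfl⟩, rfl⟩
      exact ⟨hN4 t, hN_F _ (hN_F _ ht)⟩
  have c2 := card_ker_map D F
  rw [hker, hD2, hcard] at c2
  have h8 : Nat.card F2 = 8 := by nlinarith
  have a0 := card_ker_map N F0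
  have a1 := card_ker_map N F1
  have a2 := card_ker_map N F2
  have a3 := card_ker_map N F3
  have hF4 : Nat.card (F3.map N) = 1 := by
    have : F3.map N = ⊥ := by
      rw [eq_bot_iff]
      rintro _ ⟨_, ⟨_, ⟨_, ⟨t, ht, rfl⟩, rfl⟩, rfl⟩, rfl⟩
      exact hN4 t
    rw [this]; simp
  have le : ∀ {X Y : AddSubgroup C.V}, X ≤ Y → Nat.card ↥(N.ker ⊓ X) ≤ Nat.card ↥(N.ker ⊓ Y) := fun h =>
    Nat.card_le_card_of_injective _ (AddSubgroup.inclusion_injective (inf_le_inf_left _ h))
  have l1 : F1 ≤ F0 := by rintro _ ⟨t, ht, rfl⟩; exact hN_F t ht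
  have l2 : F2 ≤ F1 := AddSubgroup.map_mono l1
  have l3 : F3 ≤ F2 := AddSubgroup.map_mono l2
  have b1 := le l1; have b2 := le l2; have b3 := le l3
  change Nat.card ↥(N.ker ⊓ F0) * Nat.card F1 = Nat.card F0 at a0
  change Nat.card ↥(N.ker ⊓ F1) * Nat.card F2 = Nat.card F1 at a1
  change Nat.card ↥(N.ker ⊓ F2) * Nat.card F3 = Nat.card F2 at a2
  rw [hF4, mul_one] at a3
  change Nat.card F0 = 64 at hcard
  rw [hcard] at a0
  rw [h8] at a1 a2
  set k0 := Nat.card ↥(N.ker ⊓ F0); set k1 := Nat.card ↥(N.ker ⊓ F1)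
  set k2 := Nat.card ↥(N.ker ⊓ F2); set k3 := Nat.card ↥(N.ker ⊓ F3)
  set c1 := Nat.card F1; set c3 := Nat.card F3
  rw [← a3] at a2
  rw [← a1] at a0
  have h3 : k2 * k2 ≥ 8 := by nlinarith
  have h4 : 3 ≤ k2 := by by_contra hc; push Not at hc; nlinarith
  have h5 : 3 ≤ k1 := le_trans h4 b2
  have h6 : 3 ≤ k0 := le_trans h5 b1
  nlinarith

end Cfg

end CfsgSTS
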