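/-
A conjugate of `z` inside `Q`: general facts, and the case `2 + 6`.
-/
import Cfsg.Agent.Lib.SymThreeAltSix.Dichotomy

set_option autoImplicit false

namespace CfsgSTS

open CfsgLargeExtra Weights
open scoped commutatorElement

variable {G : Type*} [Group G] [Finite G] {Q : Subgroup G} {z : G}

/-- A conjugate `g z g⁻¹` of `z` in `Q`, different from `z`. -/
structure Fus (C : Cfg Q z) (g : G) : Prop where
  mem : g * z * g⁻¹ ∈ Q
  ne : g * z * g⁻¹ ≠ z

namespace Fus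

variable {C : Cfg Q z} {g : G} (F : Fus C g)

include F

theorem ne_one : g * z * g⁻¹ ≠ 1 := fun e => C.es.ne (conj_eq_one_iff.mp e)

theorem xx : g * z * g⁻¹ * (g * z * g⁻¹) = 1 := (C.conj g).zz

theorem xz : (g * z * g⁻¹) * z = z * (g * z * g⁻¹) := C.cz F.mem

theorem z_mem : z ∈ cj g Q :=
  C.es.symm_mem F.mem fun _ => C.es.exists_pair (by rw [C.card]; norm_num) F.mem F.xx

theorem x_mem : g * z * g⁻¹ ∈ cj g Q := conj_mem_cj C.es.mem

/-- The intersection of the two extraspecial groups. -/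
def D (_F : Fus C g) : Subgroup G := Q ⊓ cj g Q

theorem mem_D {t : G} : t ∈ F.D ↔ t ∈ Q ∧ t ∈ cj g Q := Iff.rfl

theorem D_sq {t : G} (ht : t ∈ F.D) : t * t = 1 := by
  rcases C.es.sq t ht.1 with e | e
  · exact e
  · rcases (C.conj g).es.sq t ht.2 with e' | e'
    · exact e'
    · exact absurd (e'.symm.trans e) F.ne

theorem D_card : Nat.card F.D ≤ 32 := C.elem_le inf_le_left fun _ ht => F.D_sq ht

theorem z_D : z ∈ F.D := ⟨C.es.mem, F.z_mem⟩

theorem x_D : g * z * g⁻¹ ∈ F.D := ⟨F.mem, F.x_mem⟩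

/-- The centralizer of `z` in the conjugate. -/
def R (_F : Fus C g) : Subgroup G := cj g Q ⊓ Subgroup.centralizer ({z} : Set G)

theorem R_cz {r : G} (hr : r ∈ F.R) : r * z = z * r := Subgroup.mem_centralizer_singleton_iff.mp hr.2

theorem R_card : 256 ≤ Nat.card F.R := by
  have hQ' : Nat.card ↥(cj g Q) = 512 := (C.conj g).card
  have h := card_le_two_mul' (H := cj g Q) (S := F.R) fun a ha b hb ha' hb' => by
    have hn : ∀ t ∈ cj g Q, t ∉ F.R → t * z * t⁻¹ = z * (g * z * g⁻¹) := fun t ht ht' => by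
      rcases (C.conj g).es.conj_cases ht F.z_mem with e | e
      · exact absurd ⟨ht, Subgroup.mem_centralizer_singleton_iff.mpr (mul_inv_eq_iff_eq_mul.mp e)⟩ ht'
      · exact e
    refine Subgroup.mem_inf.mpr ⟨(cj g Q).mul_mem ((cj g Q).inv_mem ha) hb,
      Subgroup.mem_centralizer_singleton_iff.mpr (mul_inv_eq_iff_eq_mul.mp ?_)⟩
    calc a⁻¹ * b * z * (a⁻¹ * b)⁻¹ = a⁻¹ * (b * z * b⁻¹) * a := by group
      _ = a⁻¹ * (a * z * a⁻¹) * a := by rw [hn a ha ha', hn b hb hb']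
      _ = z := by group
  omega
where
  card_le_two_mul' {H S : Subgroup G} (h : ∀ a ∈ H, ∀ b ∈ H, a ∉ S → b ∉ S → a⁻¹ * b ∈ S) :
      Nat.card H ≤ 2 * Nat.card S := by
    classical
    by_cases hall : ∀ a ∈ H, a ∈ S
    · have := Nat.card_le_card_of_injective _ (Subgroup.inclusion_injective (show H ≤ S from hall))
      omega
    push Not at hall
    obtain ⟨a0, ha0, ha0'⟩ := hall
    let f : H → S × Bool := fun q => if hq : (q : G) ∈ S then (⟨q, hq⟩, false)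
      else (⟨a0⁻¹ * q, h a0 ha0 q q.2 ha0' hq⟩, true)
    have hf : Function.Injective f := by
      intro p q hpq
      simp only [f] at hpq
      split_ifs at hpq with h1 h2 h2 <;> simp only [Prod.mk.injEq, Subtype.mk.injEq, and_true, Bool.false_eq_true,
        Bool.true_eq_false, and_false] at hpq
      · exact Subtype.ext hpq
      · exact Subtype.ext (mul_left_cancel hpq)
    have := Nat.card_le_card_of_injective f hf
    rw [Nat.card_prod, Nat.card_eq_fintype_card (α := Bool), Fintype.card_bool] at this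
    omega

/-- The map from `R` to the quotient. -/
def Rhom (F : Fus C g) : ↥F.R →* W where
  toFun r := C.π r
  map_one' := C.map_one
  map_mul' a b := C.map_mul _ _ (F.R_cz a.2) (F.R_cz b.2)

/-- The image of `R` in the quotient. -/
def B (F : Fus C g) : Subgroup W := F.Rhom.range

theorem mem_B {b : W} : b ∈ F.B ↔ ∃ r ∈ F.R, C.π r = b :=
  ⟨fun ⟨r, hr⟩ => ⟨r, r.2, hr⟩, fun ⟨r, hr, h⟩ => ⟨⟨r, hr⟩, h⟩⟩

theorem B_card : 256 ≤ Nat.card F.B * Nat.card F.D := by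
  have h := Subgroup.card_mul_index F.Rhom.ker
  rw [Subgroup.index_ker] at h
  have hk : Nat.card F.Rhom.ker ≤ Nat.card F.D :=
    Nat.card_le_card_of_injective (fun r => (⟨((r : ↥F.R) : G), (C.ker _ (F.R_cz (r : ↥F.R).2)).mp r.2,
      (r : ↥F.R).2.1⟩ : F.D)) fun a b hab => Subtype.ext (Subtype.ext (congrArg (fun t : F.D => (t : G)) hab))
  calc 256 ≤ Nat.card F.R := F.R_card
    _ = Nat.card F.Rhom.ker * Nat.card F.B := h.symm
    _ ≤ Nat.card F.D * Nat.card F.B := Nat.mul_le_mul_right _ hk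
    _ = _ := mul_comm _ _

theorem B_eight : 8 ≤ Nat.card F.B := by
  have h1 := F.B_card
  have h2 := F.D_card
  by_contra hc
  push Not at hc
  have : Nat.card F.B * Nat.card F.D ≤ 7 * 32 := Nat.mul_le_mul (by omega) h2
  omega

theorem R_sq_mem {r : G} (hr : r ∈ F.R) : r * r ∈ Q := by
  rcases (C.conj g).es.sq r hr.1 with e | e <;> rw [e]
  · exact one_mem _
  · exact F.mem

theorem B_sq {b : W} (hb : b ∈ F.B) : b * b = 1 := by
  obtain ⟨r, hr, rfl⟩ := F.mem_B.mp hb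
  rw [← C.map_mul _ _ (F.R_cz hr) (F.R_cz hr), C.map_q (F.R_sq_mem hr)]

theorem act_R_inv {r : G} (hr : r ∈ F.R) (x : C.V) : C.act r⁻¹ x = C.act r x :=
  C.act_congr (cz_inv (F.R_cz hr)) (F.R_cz hr)
    (by rw [C.map_inv (F.R_cz hr)]; exact inv_eq_of_mul_eq_one_right (F.B_sq (F.mem_B.mpr ⟨r, hr, rfl⟩))) x

/-- An element fixing `x` modulo `z` can be corrected to fix `x`. -/
theorem exists_fix {c : G} (hc : c * z = z * c) (hcx : C.act c (C.v (g * z * g⁻¹)) = C.v (g * z * g⁻¹)) :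
    ∃ c', c' * z = z * c' ∧ C.π c' = C.π c ∧ c' * (g * z * g⁻¹) * c'⁻¹ = g * z * g⁻¹ := by
  rw [C.act_v hc F.mem, C.v_eq_iff (C.conj_q hc F.mem) F.mem] at hcx
  rcases hcx with e | e
  · exact ⟨c, hc, rfl, e.symm⟩
  obtain ⟨q, hq, hqx⟩ : ∃ q ∈ Q, q * (g * z * g⁻¹) ≠ g * z * g⁻¹ * q := by
    by_contra hh
    push Not at hh
    rcases C.es.cen _ (fun q hq => (hh q hq).symm) with e | e
    · exact F.ne_one e
    · exact F.ne e
  refine ⟨q * c, cz_mul (C.cz hq) hc, C.map_q_mul hc hq, ?_⟩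
  have e1 : c * (g * z * g⁻¹) * c⁻¹ = g * z * g⁻¹ * z := by
    conv_rhs => rw [e, mul_assoc, C.zz, mul_one]
  have e2 : q * (g * z * g⁻¹) * q⁻¹ = g * z * g⁻¹ * z :=
    (C.conj_cases hq F.mem).resolve_left fun t => hqx (mul_inv_eq_iff_eq_mul.mp t)
  calc q * c * (g * z * g⁻¹) * (q * c)⁻¹ = q * (c * (g * z * g⁻¹) * c⁻¹) * q⁻¹ := by group
    _ = q * (g * z * g⁻¹ * z) * q⁻¹ := by rw [e1]
    _ = q * (g * z * g⁻¹) * (q⁻¹ * z) := by rw [C.cz (inv_mem hq)]; group
    _ = g * z * g⁻¹ := by rw [← mul_assoc, e2, mul_assoc, C.zz, mul_one]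

/-- An element fixing `x` modulo `z` normalises `B`. -/
theorem B_conj {c : G} (hc : c * z = z * c) (hcx : C.act c (C.v (g * z * g⁻¹)) = C.v (g * z * g⁻¹)) {b : W}
    (hb : b ∈ F.B) : C.π c * b * (C.π c)⁻¹ ∈ F.B := by
  obtain ⟨c', hc', hπ, hcx'⟩ := F.exists_fix hc hcx
  obtain ⟨r, hr, rfl⟩ := F.mem_B.mp hb
  refine F.mem_B.mpr ⟨c' * r * c'⁻¹, ⟨?_, ?_⟩, by rw [C.map_conj hc' (F.R_cz hr), hπ]⟩
  · exact (C.conj g).es.nor c' (mul_inv_eq_iff_eq_mul.mp hcx') r hr.1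
  · exact Subgroup.mem_centralizer_singleton_iff.mpr (cz_conj hc' (F.R_cz hr))

/-- Commutators of `C_Q(x)` with `R` lie in `D`. -/
theorem com_D {w r : G} (hw : w ∈ Q) (hwx : C.β (C.v (g * z * g⁻¹)) (C.v w) = 0) (hr : r ∈ F.R) :
    ∃ t ∈ F.D, C.v t = C.act r (C.v w) + C.v w := by
  rw [C.β_v F.mem hw, bet_eq_zero] at hwx
  refine ⟨com r w, ⟨C.com_mem (F.R_cz hr) hw, ?_⟩, ?_⟩
  · rw [com, mul_assoc r⁻¹, mul_assoc r⁻¹]
    refine (cj g Q).mul_mem ((cj g Q).inv_mem hr.1) ?_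
    simpa using (C.conj g).es.nor w⁻¹ (Commute.inv_left (show Commute w (g * z * g⁻¹) from hwx.symm)).eq r hr.1
  · rw [C.v_com (F.R_cz hr) hw, ← F.act_R_inv hr, C.act_v (cz_inv (F.R_cz hr)) hw, inv_inv]

/-- Commutators of `D` with `R` lie in `⟨x⟩`. -/
theorem D_com {t r : G} (ht : t ∈ F.D) (hr : r ∈ F.R) :
    C.act r (C.v t) + C.v t = 0 ∨ C.act r (C.v t) + C.v t = C.v (g * z * g⁻¹) := by
  rw [C.act_v (F.R_cz hr) ht.1]
  rcases (C.conj g).es.conj_cases hr.1 ht.2 with e | e <;> rw [e]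
  · exact Or.inl (C.v_two _)
  · right
    rw [C.v_mul ht.1 F.mem]
    calc C.v t + C.v (g * z * g⁻¹) + C.v t = C.v (g * z * g⁻¹) + (C.v t + C.v t) := by abel
      _ = _ := by rw [C.v_two, add_zero]

/-- Only the four-group centralises `R` inside `D`. -/
theorem cen {y : G} (hy : y ∈ F.D) (h : ∀ r ∈ F.R, C.act r (C.v y) = C.v y) :
    C.v y = 0 ∨ C.v y = C.v (g * z * g⁻¹) := by
  have hcomm : ∀ r ∈ F.R, r * y = y * r := by
    intro r hr
    have h1 := h r hr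
    rw [C.act_v (F.R_cz hr) hy.1, C.v_eq_iff (C.conj_q (F.R_cz hr) hy.1) hy.1] at h1
    rcases (C.conj g).es.conj_cases hr.1 hy.2 with e | e
    · exact mul_inv_eq_iff_eq_mul.mp e
    · exfalso
      rcases h1 with e' | e' <;> rw [e] at e'
      · exact F.ne_one (left_eq_mul.mp e')
      · rw [mul_assoc y, left_eq_mul] at e'
        exact F.ne (by rw [← mul_one (g * z * g⁻¹), ← C.zz, ← mul_assoc, e', one_mul])
  have hc := (C.conj g).card_cent (A := F.R) inf_le_left ⟨F.x_mem, Subgroup.mem_centralizer_singleton_iff.mpr F.xz⟩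
  have h256 := F.R_card
  set V := fourGroup z (g * z * g⁻¹) C.zz F.xx F.xz.symm
  have hVle : V ≤ cj g Q ⊓ Subgroup.centralizer (F.R : Set G) := by
    rintro v (rfl | rfl | rfl | rfl)
    · exact one_mem _
    · exact ⟨F.z_mem, Subgroup.mem_centralizer_iff.mpr fun r hr => F.R_cz hr⟩
    · exact ⟨F.x_mem, Subgroup.mem_centralizer_iff.mpr fun r hr => (C.conj g).cz hr.1⟩
    · refine mul_mem ⟨F.z_mem, Subgroup.mem_centralizer_iff.mpr fun r hr => F.R_cz hr⟩
        ⟨F.x_mem, Subgroup.mem_centralizer_iff.mpr fun r hr => (C.conj g).cz hr.1⟩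
  have hV4 : 4 ≤ Nat.card V := by
    classical
    have := Fintype.ofFinite V
    let s : Finset V := {1, ⟨z, Or.inr (Or.inl rfl)⟩, ⟨g * z * g⁻¹, Or.inr (Or.inr (Or.inl rfl))⟩,
      ⟨z * (g * z * g⁻¹), Or.inr (Or.inr (Or.inr rfl))⟩}
    have e1 : z * (g * z * g⁻¹) ≠ 1 := fun e =>
      F.ne (by rw [← one_mul (g * z * g⁻¹), ← C.zz, mul_assoc, e, mul_one])
    have hs : s.card = 4 := by
      have e2 : g * z * g⁻¹ ≠ z * (g * z * g⁻¹) := fun e => C.es.ne (mul_eq_right.mp e.symm)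
      simp [s, Subtype.ext_iff, C.es.ne.symm, F.ne_one.symm, F.ne.symm, e1.symm, F.ne_one, e2]
    rw [Nat.card_eq_fintype_card, ← hs]; exact Finset.card_le_univ s
  have heq : V = cj g Q ⊓ Subgroup.centralizer (F.R : Set G) :=
    Subgroup.eq_of_le_of_card_ge hVle (by
      by_contra hh
      push Not at hh
      have : 256 * 5 ≤ 1024 := hc ▸ Nat.mul_le_mul h256 (by omega)
      omega)
  have hyV : y ∈ V := heq ▸ ⟨hy.2, Subgroup.mem_centralizer_iff.mpr fun r hr => hcomm r hr⟩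
  rcases hyV with rfl | rfl | rfl | rfl
  · exact Or.inl C.v_one
  · exact Or.inl C.v_z
  · exact Or.inr rfl
  · exact Or.inr (by rw [C.v_mul C.es.mem F.mem, C.v_z, zero_add])

theorem normalizes_D {g' : G} {Q₁ : Subgroup G} (hQ₁ : Q₁ = Q ∨ Q₁ = cj g Q) (hg' : g' ∈ Q₁) {t : G} (ht : t ∈ F.D) :
    g' * t * g'⁻¹ ∈ F.D := by
  rcases hQ₁ with rfl | rfl
  · refine Subgroup.mem_inf.mpr ⟨Subgroup.mul_mem _ (Subgroup.mul_mem _ hg' ht.1) (Subgroup.inv_mem _ hg'), ?_⟩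
    rcases C.conj_cases hg' ht.1 with e | e <;> rw [e]
    · exact ht.2
    · exact Subgroup.mul_mem _ ht.2 F.z_mem
  · refine Subgroup.mem_inf.mpr ⟨?_, Subgroup.mul_mem _ (Subgroup.mul_mem _ hg' ht.2) (Subgroup.inv_mem _ hg')⟩
    rcases (C.conj g).es.conj_cases hg' ht.2 with e | e <;> rw [e]
    · exact ht.1
    · exact Subgroup.mul_mem _ ht.1 F.mem

/-- An element exchanging `z` and its conjugate. -/
theorem exists_swap : ∃ g0, g0 * z * g0⁻¹ = g * z * g⁻¹ ∧ g0 * (g * z * g⁻¹) * g0⁻¹ = z ∧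
    (∀ t ∈ F.D, g0 * t * g0⁻¹ ∈ F.D) ∧ cj g0 Q = cj g Q := by
  obtain ⟨q0, hq0, hq0z, hq0x⟩ := C.es.swap F.mem F.ne F.ne_one
  obtain ⟨r0, hr0, hr0x, hr0z⟩ := (C.conj g).es.swap F.z_mem (Ne.symm F.ne) C.es.ne
  set x := g * z * g⁻¹ with hx
  have h1 : q0 * r0 * q0 * z * (q0 * r0 * q0)⁻¹ = x := by
    calc q0 * r0 * q0 * z * (q0 * r0 * q0)⁻¹ = q0 * (r0 * (q0 * z * q0⁻¹) * r0⁻¹) * q0⁻¹ := by group
      _ = q0 * (r0 * z * r0⁻¹) * q0⁻¹ := by rw [hq0z]
      _ = q0 * (z * x) * q0⁻¹ := by rw [hr0z]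
      _ = (q0 * z * q0⁻¹) * (q0 * x * q0⁻¹) := by group
      _ = x := by rw [hq0z, hq0x, F.xz, ← mul_assoc, C.zz, one_mul]
  refine ⟨q0 * r0 * q0, h1, ?_, fun t ht => ?_, C.es.cj_congr h1⟩
  · calc q0 * r0 * q0 * x * (q0 * r0 * q0)⁻¹ = q0 * (r0 * (q0 * x * q0⁻¹) * r0⁻¹) * q0⁻¹ := by group
      _ = q0 * ((r0 * x * r0⁻¹) * (r0 * z * r0⁻¹)) * q0⁻¹ := by rw [hq0x]; group
      _ = q0 * (x * (z * x)) * q0⁻¹ := by rw [hr0x, hr0z]
      _ = q0 * z * q0⁻¹ := by rw [← mul_assoc x z x, F.xz, mul_assoc z x x, F.xx, mul_one]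
      _ = z := hq0z
  · rw [show q0 * r0 * q0 * t * (q0 * r0 * q0)⁻¹ = q0 * (r0 * (q0 * t * q0⁻¹) * r0⁻¹) * q0⁻¹ by group]
    exact F.normalizes_D (Or.inl rfl) hq0 (F.normalizes_D (Or.inr rfl) hr0 (F.normalizes_D (Or.inl rfl) hq0 ht))

theorem conj_m {m : G} (hm : m * z = z * m) : Fus C (m * g) := by
  have e : m * g * z * (m * g)⁻¹ = m * (g * z * g⁻¹) * m⁻¹ := by group
  refine ⟨e ▸ C.conj_q hm F.mem, fun h => F.ne ?_⟩
  rw [e] at h
  calc g * z * g⁻¹ = m⁻¹ * (m * (g * z * g⁻¹) * m⁻¹) * m := by group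
    _ = m⁻¹ * (z * m) := by rw [h, mul_assoc]
    _ = z := by rw [← hm, inv_mul_cancel_left]

/-- No conjugate in `Q` when the module is `2 + 6`. -/
theorem sum_false (hS : ¬ C.Ten) : False := by
  classical
  obtain ⟨⟨x0, hx0, hx00, hq0, hb0, hpl⟩, -⟩ := C.sum_core hS
  set vx := C.v (g * z * g⁻¹) with hvx
  by_cases hfix : C.aw cd vx = vx
  · obtain ⟨d, hdz, hdπ, hd3⟩ := C.exists_d
    have hdπ : C.π d = cd := hdπ
    have hdact : ∀ t, C.act d t = C.aw cd t := C.aw_eq psi_cd hdz hdπ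
    have hdx : d * (g * z * g⁻¹) * d⁻¹ = g * z * g⁻¹ :=
      C.fix_of_cl hdz hd3 F.mem (Additive.ofMul.injective (by
        show C.v (d * (g * z * g⁻¹) * d⁻¹) = C.v (g * z * g⁻¹)
        rw [← C.act_v hdz F.mem, hdact, ← hvx, hfix]))
    have hBcd : ∀ b ∈ F.B, b.1 = 1 := by
      intro b hb
      have h1 := F.B_conj hdz (by rw [hdact, ← hvx, hfix]) hb
      rw [hdπ] at h1
      have h2 := F.B_sq (F.B.mul_mem h1 hb)
      have h3 := congrArg Prod.fst h2
      have key : ∀ p : Equiv.Perm (Fin 3), p * p = 1 →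
          (finRotate 3 * p * (finRotate 3)⁻¹ * p) * (finRotate 3 * p * (finRotate 3)⁻¹ * p) = 1 → p = 1 := by decide
      exact key b.1 (congrArg Prod.fst (F.B_sq hb)) h3
    have hB8 : Nat.card F.B ≤ 8 := by
      let f : F.B →* Equiv.Perm (Fin 6) := (MonoidHom.snd _ _).comp F.B.subtype
      have hf : Function.Injective f := fun a b hab =>
        Subtype.ext (Prod.ext ((hBcd a a.2).trans (hBcd b b.2).symm) hab)
      rw [Nat.card_congr (MonoidHom.ofInjective hf).toEquiv]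
      exact elementary_le_eight fun e he => by
        obtain ⟨b, rfl⟩ := he; exact congrArg Prod.snd (F.B_sq b.2)
    have hD32 : Nat.card F.D = 32 := by
      have h1 := F.B_card
      have h2 := F.D_card
      have : Nat.card F.B * Nat.card F.D ≤ 8 * Nat.card F.D := Nat.mul_le_mul_right _ hB8
      omega
    have hdQ' : ∀ t ∈ cj g Q, d * t * d⁻¹ ∈ cj g Q := fun t ht =>
      (C.conj g).es.nor d (mul_inv_eq_iff_eq_mul.mp hdx) t ht
    have hfixD : ∀ y ∈ F.D, C.aw cd (C.v y) = C.v y := by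
      intro y hy
      have hy1 : d * y * d⁻¹ ∈ F.D := ⟨C.conj_q hdz hy.1, hdQ' y hy.2⟩
      have hy2 : d * (d * y * d⁻¹) * d⁻¹ ∈ F.D := ⟨C.conj_q hdz hy1.1, hdQ' _ hy1.2⟩
      set t := y * (y * (d * y * d⁻¹) * (d * (d * y * d⁻¹) * d⁻¹)) with ht
      have htD : t ∈ F.D := mul_mem hy (mul_mem (mul_mem hy hy1) hy2)
      have hvt : C.v t = C.v y + P (C.aw cd) (C.v y) := by
        rw [ht, C.v_mul hy.1 (mul_mem (mul_mem hy hy1) hy2).1, C.v_mul (mul_mem hy hy1).1 hy2.1, C.v_mul hy.1 hy1.1,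
          P_apply, ← hdact, ← hdact, C.act_v hdz hy.1, C.act_v hdz hy1.1]
      have hq : C.qf (C.v t) = 0 := by rw [C.qf_v htD.1, sqf_eq_zero]; exact F.D_sq htD
      have hP : P (C.aw cd) (C.v t) = 0 := by
        rw [hvt, map_add, P_of_fix C.v_two (e_P C.aw_cd3 _), C.v_two]
      have ht0 : C.v t = 0 := by
        have qd : C.qf (C.aw cd x0) = 1 := by rw [C.aw_qf psi_cd, hq0]
        rcases hpl _ hP with e | e | e | e
        · exact e
        all_goals exfalso; rw [e] at hq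
        · rw [hq0] at hq; exact absurd hq (by decide)
        · rw [qd] at hq; exact absurd hq (by decide)
        · rw [C.qf_add, hq0, qd, hb0] at hq; exact absurd hq (by decide)
      have e : C.v y = P (C.aw cd) (C.v y) := by
        calc C.v y = C.v y + (P (C.aw cd) (C.v y) + P (C.aw cd) (C.v y)) := by rw [C.v_two, add_zero]
          _ = C.v t + P (C.aw cd) (C.v y) := by rw [hvt, add_assoc]
          _ = _ := by rw [ht0, zero_add]
      rw [e]; exact e_P C.aw_cd3 _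
    obtain ⟨a, ha, hav⟩ := C.v_surj x0
    have hacen : a ∈ Q ⊓ Subgroup.centralizer (F.D : Set G) := ⟨ha, Subgroup.mem_centralizer_iff.mpr fun y hy => by
      rw [← bet_eq_zero, ← C.β_v hy.1 ha, hav]
      exact C.orth (C.aw_β psi_cd) (hfixD y hy) hx0⟩
    have hDeq : F.D = Q ⊓ Subgroup.centralizer (F.D : Set G) := by
      refine Subgroup.eq_of_le_of_card_ge (le_inf inf_le_left fun y hy => Subgroup.mem_centralizer_iff.mpr fun t ht => ?_) ?_
      · have h1 := inv_eq_of_mul_eq_one_right (F.D_sq (mul_mem ht hy))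
        rw [mul_inv_rev, inv_eq_of_mul_eq_one_right (F.D_sq ht), inv_eq_of_mul_eq_one_right (F.D_sq hy)] at h1
        exact h1.symm
      · have h := C.card_cent (A := F.D) inf_le_left F.z_D
        rw [hD32] at h ⊢; omega
    have := F.D_sq (hDeq ▸ hacen : a ∈ F.D)
    rw [← hav, C.qf_v ha, sqf_eq_one] at hq0
    exact hq0 this
  · -- both components nontrivial
    obtain ⟨b, hb, hb1, hψ⟩ : ∃ b ∈ F.B, b ≠ 1 ∧ psi b = 1 := by
      by_contra hh
      push Not at hh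
      have hinj : Function.Injective (psi.comp F.B.subtype) := by
        rw [injective_iff_map_eq_one]
        intro b hb
        by_contra hne
        exact hh b b.2 (fun e => hne (Subtype.ext e)) hb
      have := Nat.card_le_card_of_injective _ hinj
      rw [Nat.card_eq_fintype_card (α := ℤˣ × ℤˣ), Fintype.card_prod, Fintype.card_units_int] at this
      have := F.B_eight
      omega
    obtain ⟨r, hr, hrb⟩ := F.mem_B.mp hb
    have hbb := F.B_sq hb
    obtain ⟨hs1, hs2⟩ := psi_eq_one.mp hψ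
    have hb' : b = (1, b.2) := Prod.ext (fst_of_sq hbb hs1) rfl
    have hact : ∀ t, C.act r t = C.aw (1, b.2) t := C.aw_eq (psi_even hs2) (F.R_cz hr) (hrb.trans hb')
    obtain ⟨y, hyd, hyq, hyb⟩ := C.sum_wit hS hs2 (congrArg Prod.snd hbb) (fun e => hb1 (by rw [hb', e]; rfl))
    set t := vx + P (C.aw cd) vx with ht
    have htP : P (C.aw cd) t = 0 := by rw [ht, map_add, P_of_fix C.v_two (e_P C.aw_cd3 _), C.v_two]
    have ht0 : t ≠ 0 := fun e => hfix (by
      have : vx = P (C.aw cd) vx := by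
        calc vx = vx + (P (C.aw cd) vx + P (C.aw cd) vx) := by rw [C.v_two, add_zero]
          _ = t + P (C.aw cd) vx := by rw [ht, add_assoc]
          _ = _ := by rw [e, zero_add]
      rw [this]; exact e_P C.aw_cd3 _)
    have hkv : ∀ k, P (C.aw cd) k = 0 → C.β vx k = C.β t k := fun k hk => by
      rw [ht, C.β_add_left, C.orth (C.aw_β psi_cd) (e_P C.aw_cd3 vx) hk, add_zero]
    obtain ⟨k, hkP, hk⟩ : ∃ k, P (C.aw cd) k = 0 ∧ C.β vx (y + k) = 0 := by
      rcases zmod_two_cases (C.β vx y) with e | e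
      · exact ⟨0, map_zero _, by rw [add_zero, e]⟩
      have hdx0 : P (C.aw cd) (C.aw cd x0) = 0 := by rw [P_comm (fun _ => rfl), hx0, map_zero]
      have hone : ∀ s, s ≠ 0 → P (C.aw cd) s = 0 → C.β s x0 = 1 ∨ C.β s (C.aw cd x0) = 1 := by
        intro s hs0 hsP
        rcases hpl s hsP with e | e | e | e
        · exact absurd e hs0
        · right; rw [e, hb0]
        · left; rw [e, C.β_symm, hb0]
        · left; rw [e, C.β_add_left, C.β_self, C.β_symm, hb0, zero_add]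
      rcases hone t ht0 htP with h1 | h1
      · exact ⟨x0, hx0, by rw [C.β_add_right, hkv _ hx0, e, h1]; rfl⟩
      · exact ⟨C.aw cd x0, hdx0, by rw [C.β_add_right, hkv _ hdx0, e, h1]; rfl⟩
    obtain ⟨w, hw, hwv⟩ := C.v_surj (y + k)
    obtain ⟨u, huD, huv⟩ := F.com_D hw (by rw [hwv]; exact hk) hr
    have hq : C.qf (C.v u) = 0 := by rw [C.qf_v huD.1, sqf_eq_zero]; exact F.D_sq huD
    rw [huv, hwv, hact, map_add, C.sum_trivial hS hs2 k hkP,
      show C.aw (1, b.2) y + k + (y + k) = C.aw (1, b.2) y + y + (k + k) by abel, C.v_two, add_zero, C.qf_add,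
      C.aw_qf (psi_even hs2), hyq, C.β_symm, hyb] at hq
    exact absurd hq (by decide)

end Fus

end CfsgSTS
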