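/-
The module `2 ⊗ 4` in terms of the pairs of six points.
-/
import Cfsg.Agent.Lib.SymThreeAltSix.Dichotomy
import Cfsg.Agent.Lib.SymThreeAltSix.Relabel

set_option autoImplicit false

namespace CfsgSTS

open Equiv Weights

/-- Change the labels of the six points by an automorphism. -/
def Cfg.relabel {G : Type*} [Group G] {Q : Subgroup G} {z : G} (C : Cfg Q z) (e : Perm (Fin 6) →* Perm (Fin 6))
    (he : Function.Injective e) (hs : ∀ p, Perm.sign (e p) = Perm.sign p) : Cfg Q z where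
  es := C.es
  card := C.card
  π a := ((C.π a).1, e (C.π a).2)
  map_mul a b ha hb := by rw [C.map_mul a b ha hb]; simp
  ker a ha := by
    rw [← C.ker a ha]
    constructor
    · intro h
      refine Prod.ext (congrArg Prod.fst h :) (he ?_)
      rw [show e (C.π a).2 = 1 from (congrArg Prod.snd h :), Prod.snd_one, _root_.map_one]
    · intro h; rw [h]; simp
  big w hw := by
    obtain ⟨r, hr⟩ := Finite.injective_iff_surjective.mp he w.2
    obtain ⟨a, ha, haπ⟩ := C.big (w.1, r) (psi_eq_one.mpr ⟨(psi_eq_one.mp hw).1,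
      by rw [← hs, hr]; exact (psi_eq_one.mp hw).2⟩)
    exact ⟨a, ha, by rw [haπ, hr]⟩

/-- Even permutations fixing the set `{4, 5}`. -/
def Stab45 (r : Perm (Fin 6)) : Prop := Perm.sign r = 1 ∧ (r 4 = 4 ∧ r 5 = 5 ∨ r 4 = 5 ∧ r 5 = 4)

instance (r : Perm (Fin 6)) : Decidable (Stab45 r) := by unfold Stab45; infer_instance

theorem stab45_gen : ∀ r : Perm (Fin 6), Stab45 r → ∃ a, Stab45 a ∧ a * a = 1 ∧ a * r * (a * r) = 1 := by
  decide +kernel

theorem stab45_four : ∀ r : Perm (Fin 6), Stab45 r →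
    (r * sA * r⁻¹ = sA ∨ r * sA * r⁻¹ = sP ∨ r * sA * r⁻¹ = sA * sP) ∧
      (r * sP * r⁻¹ = sA ∨ r * sP * r⁻¹ = sP ∨ r * sP * r⁻¹ = sA * sP) := by
  decide +kernel

theorem invol_fix45 : ∀ r : Perm (Fin 6), Perm.sign r = 1 → r 4 = 4 → r 5 = 5 → r * r = 1 →
    r = 1 ∨ r = sA ∨ r = sP ∨ r = sA * sP := by
  decide +kernel

theorem stab45_move : ∀ i j : Fin 6, i ≠ j → ¬(i = 4 ∧ j = 5) → ¬(i = 5 ∧ j = 4) →
    ∃ r ∈ [sA, sP, pa, swap (1 : Fin 6) 2 * swap 2 3, swap (0 : Fin 6) 1 * swap 4 5],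
      ¬(r i = i ∧ r j = j) ∧ ¬(r i = j ∧ r j = i) := by
  decide +kernel

theorem exists_map {n : ℕ} (f : Fin n → Fin 6) (g : Fin n → Fin 6) (hf : Function.Injective f)
    (hg : Function.Injective g) (a b : Fin 6) (hab : a ≠ b) (ha : ∀ i, f i ≠ a) (hb : ∀ i, f i ≠ b) :
    ∃ p : Perm (Fin 6), Perm.sign p = 1 ∧ ∀ i, p (f i) = g i := by
  classical
  let e : {x // x ∈ Set.range f} ≃ {x // x ∈ Set.range g} :=
    (Equiv.ofInjective f hf).symm.trans (Equiv.ofInjective g hg)
  have he : ∀ i, e.extendSubtype (f i) = g i := fun i => by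
    rw [e.extendSubtype_apply_of_mem _ ⟨i, rfl⟩]
    show ((Equiv.ofInjective g hg) ((Equiv.ofInjective f hf).symm ⟨f i, _⟩) : Fin 6) = g i
    rw [Equiv.ofInjective_symm_apply]
    rfl
  rcases Int.units_eq_one_or (Perm.sign e.extendSubtype) with h | h
  · exact ⟨_, h, he⟩
  · refine ⟨e.extendSubtype * swap a b, by rw [map_mul, h, Perm.sign_swap hab]; rfl, fun i => ?_⟩
    rw [Perm.mul_apply, swap_apply_of_ne_of_ne (ha i) (hb i), he]

theorem exists_map_two {i j : Fin 6} (h : i ≠ j) : ∃ p : Perm (Fin 6), Perm.sign p = 1 ∧ p 4 = i ∧ p 5 = j := by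
  obtain ⟨p, hp, hpi⟩ := exists_map ![(4 : Fin 6), 5] ![i, j] (by decide)
    (fun a b hab => by fin_cases a <;> fin_cases b <;> simp_all) 0 1 (by decide) (by decide) (by decide)
  exact ⟨p, hp, hpi 0, hpi 1⟩

theorem exists_map_three {i j k : Fin 6} (hij : i ≠ j) (hik : i ≠ k) (hjk : j ≠ k) :
    ∃ p : Perm (Fin 6), Perm.sign p = 1 ∧ p 0 = i ∧ p 1 = j ∧ p 2 = k := by
  obtain ⟨p, hp, hpi⟩ := exists_map ![(0 : Fin 6), 1, 2] ![i, j, k] (by decide)
    (fun a b hab => by fin_cases a <;> fin_cases b <;> simp_all) 3 4 (by decide) (by decide) (by decide)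
  exact ⟨p, hp, hpi 0, hpi 1, hpi 2⟩

theorem exists_map_four {i j k l : Fin 6} (hij : i ≠ j) (hik : i ≠ k) (hil : i ≠ l) (hjk : j ≠ k) (hjl : j ≠ l)
    (hkl : k ≠ l) : ∃ p : Perm (Fin 6), Perm.sign p = 1 ∧ p 0 = i ∧ p 1 = j ∧ p 2 = k ∧ p 3 = l := by
  obtain ⟨p, hp, hpi⟩ := exists_map ![(0 : Fin 6), 1, 2, 3] ![i, j, k, l] (by decide)
    (fun a b hab => by fin_cases a <;> fin_cases b <;> simp_all) 4 5 (by decide) (by decide) (by decide)
  exact ⟨p, hp, hpi 0, hpi 1, hpi 2, hpi 3⟩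

theorem sA_sign : Perm.sign sA = 1 := by decide
theorem sP_sign : Perm.sign sP = 1 := by decide
theorem sL_sign : Perm.sign sL = 1 := by decide

variable {G : Type*} [Group G] {Q : Subgroup G} {z : G}

namespace Cfg

variable (C : Cfg Q z)

/-- The four-group fixing two points has a small fixed space. -/
def Small : Prop := ∃ x, C.aw (1, sA) x = x ∧ C.aw (1, sP) x ≠ x

variable [Finite G]

theorem exists_small (hT : C.Ten) :
    C.Small ∨ ∃ C' : Cfg Q z, C'.Ten ∧ C'.Small := by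
  classical
  obtain ⟨g, hg, hgA, hgL⟩ := theta_four
  set e : Perm (Fin 6) →* Perm (Fin 6) := (MulAut.conj g).toMonoidHom.comp theta
  have he : Function.Injective e := (MulAut.conj g).injective.comp theta_inj
  have hes : ∀ p, Perm.sign (e p) = Perm.sign p := fun p => by
    show Perm.sign (g * theta p * g⁻¹) = _
    rw [_root_.map_mul, _root_.map_mul, theta_sign, hg, one_mul, _root_.map_inv, hg, inv_one, mul_one]
  set C' := C.relabel e he hes
  -- actions agree
  have hagree : ∀ (r : Perm (Fin 6)), Perm.sign r = 1 → ∀ a ∈ Q,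
      C'.aw (1, e r) (C'.v a) = C'.v (C.lift (1, r) * a * (C.lift (1, r))⁻¹) := fun r hr a ha => by
    obtain ⟨h1, h2⟩ := C.lift_spec (psi_even hr)
    rw [← C'.aw_eq (psi_even ((hes r).trans hr)) h1 (by show ((C.π _).1, e (C.π _).2) = _; rw [h2]),
      C'.act_v h1 ha]
  have hten : C'.Ten := by
    intro x
    obtain ⟨a, ha, rfl⟩ := C'.v_surj x
    obtain ⟨h1, h2⟩ := C.lift_spec psi_cd
    have hπ : C'.π (C.lift cd) = cd := by
      show ((C.π _).1, e (C.π _).2) = cd
      rw [h2]; exact Prod.ext rfl (_root_.map_one e)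
    simp only [P_apply, ← C'.aw_eq psi_cd h1 hπ, C'.act_v h1 ha, C'.act_v h1 (C.conj_q h1 ha)]
    have := hT (C.v a)
    simp only [P_apply, ← C.aw_eq psi_cd h1 h2, C.act_v h1 ha, C.act_v h1 (C.conj_q h1 ha)] at this
    exact this
  by_cases hS : C.Small
  · exact Or.inl hS
  refine Or.inr ⟨C', hten, ?_⟩
  by_contra hS'
  simp only [Small, not_exists, not_and, not_not] at hS hS'
  have hL : ∀ x, C.aw (1, sA) x = x → C.aw (1, sL) x = x := by
    intro x hx
    obtain ⟨a, ha, rfl⟩ := C.v_surj x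
    have eA : e sA = sA := hgA
    have eL : e sL = sP := hgL
    have t1 := hagree sA sA_sign a ha
    have t2 := hagree sL sL_sign a ha
    rw [eA] at t1
    rw [eL] at t2
    have hfix : C'.aw (1, sA) (C'.v a) = C'.v a := by
      rw [t1]
      have h' := hx
      rw [← C.aw_eq (psi_even sA_sign) (C.lift_spec (psi_even sA_sign)).1 (C.lift_spec (psi_even sA_sign)).2,
        C.act_v (C.lift_spec (psi_even sA_sign)).1 ha] at h'
      exact h'
    have := hS' _ hfix
    rw [t2] at this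
    rw [← C.aw_eq (psi_even sL_sign) (C.lift_spec (psi_even sL_sign)).1 (C.lift_spec (psi_even sL_sign)).2,
      C.act_v (C.lift_spec (psi_even sL_sign)).1 ha]
    exact this
  -- an element of order four would fix the whole fixed space of its square
  have hu : Perm.sign (sP * sL) = 1 := by decide
  set f := C.aw (1, sP * sL) + AddMonoidHom.id C.V
  have hff : ∀ x, f (f x) = C.aw (1, sA) x + x := fun x => by
    simp only [f, AddMonoidHom.add_apply, AddMonoidHom.id_apply, map_add]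
    rw [show sA = sP * sL * (sP * sL) by decide, C.aw_comp hu hu]
    calc _ = C.aw (1, sP * sL) (C.aw (1, sP * sL) x) + x + (C.aw (1, sP * sL) x + C.aw (1, sP * sL) x) := by abel
      _ = _ := by rw [C.v_two, add_zero]
  have hff0 : ∀ x, f (f x) = 0 → f x = 0 := fun x hx => by
    rw [hff] at hx
    have hA : C.aw (1, sA) x = x := by
      calc C.aw (1, sA) x = C.aw (1, sA) x + (x + x) := by rw [C.v_two, add_zero]
        _ = x := by rw [← add_assoc, hx, zero_add]
    simp only [f, AddMonoidHom.add_apply, AddMonoidHom.id_apply]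
    rw [C.aw_comp sP_sign sL_sign, hL x hA, hS x hA, C.v_two]
  have hnil : ∀ x, f x = 0 := fun x => by
    have hA2 : f (f (f (f x))) = 0 := by
      rw [hff, hff, map_add, ← C.aw_comp sA_sign sA_sign, show sA * sA = 1 by decide,
        show ((1, 1) : W) = 1 from rfl, C.aw_one]
      calc _ = (C.aw (1, sA) x + C.aw (1, sA) x) + (x + x) := by abel
        _ = 0 := by rw [C.v_two, C.v_two, add_zero]
    exact hff0 _ (hff0 _ (hff0 _ hA2))
  have := C.aw_faithful (psi_even hu) fun x => by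
    have h := hnil x
    simp only [f, AddMonoidHom.add_apply, AddMonoidHom.id_apply] at h
    calc C.aw (1, sP * sL) x = C.aw (1, sP * sL) x + (x + x) := by rw [C.v_two, add_zero]
      _ = x := by rw [← add_assoc, h, zero_add]
  exact absurd (congrArg Prod.snd this) (by decide)

end Cfg

/-- The data of the labelling by pairs. -/
structure Lab (C : Cfg Q z) where
  ten : C.Ten
  px : Fin 6 → Fin 6 → C.V
  x0_ne : px 4 5 ≠ 0
  self : ∀ i, px i i = 0
  symm : ∀ i j, px i j = px j i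
  smul : ∀ r : Perm (Fin 6), Perm.sign r = 1 → ∀ i j, C.aw (1, r) (px i j) = px (r i) (r j)
  fixed : ∀ t, C.aw (1, sA) t = t → C.aw (1, sP) t = t →
    t = 0 ∨ t = px 4 5 ∨ t = C.aw cd (px 4 5) ∨ t = px 4 5 + C.aw cd (px 4 5)
  fix_self : C.aw (1, sA) (px 4 5) = px 4 5 ∧ C.aw (1, sP) (px 4 5) = px 4 5

namespace Cfg

variable (C : Cfg Q z) [Finite G]

theorem exists_lab (hT : C.Ten) (hS : C.Small) : Nonempty (Lab C) := by
  classical
  set FA := (C.aw (1, sA) - AddMonoidHom.id C.V).ker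
  set F := FA ⊓ (C.aw (1, sP) - AddMonoidHom.id C.V).ker
  have memFA : ∀ t, t ∈ FA ↔ C.aw (1, sA) t = t := fun t => by
    rw [AddMonoidHom.mem_ker, AddMonoidHom.sub_apply, AddMonoidHom.id_apply, sub_eq_zero]
  have memF : ∀ t, t ∈ F ↔ C.aw (1, sA) t = t ∧ C.aw (1, sP) t = t := fun t => by
    rw [AddSubgroup.mem_inf, memFA, AddMonoidHom.mem_ker, AddMonoidHom.sub_apply, AddMonoidHom.id_apply, sub_eq_zero]
  -- the fixed space of `σ` has order sixteen
  set N := C.aw (1, sA) + AddMonoidHom.id C.V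
  have hNk : N.ker = FA := by
    ext t
    rw [memFA, AddMonoidHom.mem_ker, AddMonoidHom.add_apply, AddMonoidHom.id_apply]
    constructor
    · intro h
      calc C.aw (1, sA) t = C.aw (1, sA) t + (t + t) := by rw [C.v_two, add_zero]
        _ = t := by rw [← add_assoc, h, zero_add]
    · intro h; rw [h, C.v_two]
  have hNr : N.range = FA := by
    ext t
    constructor
    · rintro ⟨y, rfl⟩
      rw [memFA, AddMonoidHom.add_apply, AddMonoidHom.id_apply, map_add, ← C.aw_comp sA_sign sA_sign,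
        show sA * sA = 1 by decide, show ((1, 1) : W) = 1 from rfl, C.aw_one, add_comm]
    · intro h
      obtain ⟨y, hy⟩ := C.ten_free hT sA_sign (by decide) (by decide) ((memFA t).mp h)
      exact ⟨y, by rw [← hy, AddMonoidHom.add_apply, AddMonoidHom.id_apply, add_comm]⟩
  have hFA16 : Nat.card FA = 16 := by
    have h := card_ker_map N ⊤
    rw [inf_top_eq, hNk, ← AddMonoidHom.range_eq_map, hNr] at h
    have hV : Nat.card (⊤ : AddSubgroup C.V) = 256 := by simpa using C.card_V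
    rw [hV] at h
    exact Nat.mul_self_inj.mp (h.trans (by norm_num))
  have hcdF : ∀ t ∈ F, C.aw cd t ∈ F ∧ P (C.aw cd) t = 0 := fun t ht => by
    rw [memF] at ht ⊢
    exact ⟨⟨by rw [← C.aw_cd_even sA_sign, ht.1], by rw [← C.aw_cd_even sP_sign, ht.2]⟩, hT t⟩
  obtain ⟨t0, ht0A, ht0P⟩ := hS
  set x0 := C.aw (1, sP) t0 + t0 with hx0
  have hx0F : x0 ∈ F := by
    rw [memF]
    constructor
    · rw [map_add, ← C.aw_comp sA_sign sP_sign, show sA * sP = sP * sA by decide, C.aw_comp sP_sign sA_sign, ht0A]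
    · rw [map_add, ← C.aw_comp sP_sign sP_sign, show sP * sP = 1 by decide, show ((1, 1) : W) = 1 from rfl, C.aw_one,
        add_comm]
  have hx00 : x0 ≠ 0 := fun e => ht0P (by
    calc C.aw (1, sP) t0 = C.aw (1, sP) t0 + (t0 + t0) := by rw [C.v_two, add_zero]
      _ = t0 := by rw [← add_assoc, ← hx0, e, zero_add])
  have hplane : ∀ t ∈ F, t = 0 ∨ t = x0 ∨ t = C.aw cd x0 ∨ t = x0 + C.aw cd x0 := by
    rcases plane_or_sixteen C.v_two C.aw_cd3 hcdF hx0F hx00 with h | h
    · exact h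
    · exfalso
      have : F = FA := AddSubgroup.eq_of_le_of_card_ge inf_le_left (by rw [hFA16]; exact h)
      exact ht0P ((memF t0).mp (this ▸ (memFA t0).mpr ht0A)).2
  have hinvol : ∀ r, Stab45 r → r * r = 1 → C.aw (1, r) x0 = x0 := by
    intro r hr hrr
    obtain ⟨hA, hP⟩ := stab45_four r hr
    have hx := (memF x0).mp hx0F
    have hAP : C.aw (1, sA * sP) x0 = x0 := by rw [C.aw_comp sA_sign sP_sign, hx.2, hx.1]
    have hrA : Perm.sign (r * sA * r⁻¹) = 1 := by
      rw [_root_.map_mul, _root_.map_mul, hr.1, sA_sign, _root_.map_inv, hr.1]; rfl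
    have key : ∀ s, Perm.sign s = 1 → C.aw (1, r * s * r⁻¹) x0 = x0 → C.aw (1, s) (C.aw (1, r) x0) = C.aw (1, r) x0 := by
      intro s hs h
      conv_rhs => rw [← h]
      rw [← C.aw_comp hs hr.1, ← C.aw_comp hr.1 (by rw [_root_.map_mul, _root_.map_mul, hr.1, hs, _root_.map_inv, hr.1]; rfl)]
      congr 3
      rw [inv_eq_of_mul_eq_one_right hrr]
      simp only [← mul_assoc, hrr, one_mul]
    have hmem : C.aw (1, r) x0 ∈ F := by
      rw [memF]
      refine ⟨key sA sA_sign ?_, key sP sP_sign ?_⟩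
      · rcases hA with e | e | e <;> rw [e] <;> [exact hx.1; exact hx.2; exact hAP]
      · rcases hP with e | e | e <;> rw [e] <;> [exact hx.1; exact hx.2; exact hAP]
    have htw : C.aw (1, r) (C.aw (1, r) x0) = x0 := by
      rw [← C.aw_comp hr.1 hr.1, hrr]; exact C.aw_one x0
    have hdne : C.aw cd x0 ≠ x0 := fun e => hx00 (by rw [← P_of_fix C.v_two e]; exact hT x0)
    have hee : C.aw cd (C.aw cd x0) = x0 + C.aw cd x0 := by
      have h3 := hT x0
      rw [P_apply] at h3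
      calc C.aw cd (C.aw cd x0) = C.aw cd (C.aw cd x0) + (x0 + C.aw cd x0 + C.aw cd (C.aw cd x0)) := by
            rw [h3, add_zero]
        _ = x0 + C.aw cd x0 + (C.aw cd (C.aw cd x0) + C.aw cd (C.aw cd x0)) := by abel
        _ = x0 + C.aw cd x0 := by rw [C.v_two, add_zero]
    rcases hplane _ hmem with e | e | e | e
    · exact absurd (C.aw_inj (psi_even hr.1) (by rw [e, map_zero])) hx00
    · exact e
    · rw [e, ← C.aw_cd_even hr.1, e, hee] at htw
      exact absurd (C.aw_inj psi_cd (by rw [left_eq_add.mp htw.symm, map_zero])) hx00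
    · rw [← hee] at e
      rw [e, ← C.aw_cd_even hr.1, ← C.aw_cd_even hr.1, e, C.aw_cd3] at htw
      exact absurd htw hdne
  have hstab : ∀ r, Stab45 r → C.aw (1, r) x0 = x0 := by
    intro r hr
    obtain ⟨a, ha, haa, har⟩ := stab45_gen r hr
    have hars : Stab45 (a * r) := by
      refine ⟨by rw [_root_.map_mul, ha.1, hr.1, one_mul], ?_⟩
      simp only [Perm.mul_apply]
      rcases hr.2 with ⟨e1, e2⟩ | ⟨e1, e2⟩ <;> rcases ha.2 with ⟨e3, e4⟩ | ⟨e3, e4⟩ <;> simp [e1, e2, e3, e4]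
    rw [show r = a * (a * r) by rw [← mul_assoc, haa, one_mul], C.aw_comp ha.1 hars.1, hinvol _ hars har,
      hinvol a ha haa]
  let px : Fin 6 → Fin 6 → C.V := fun i j =>
    if h : i = j then 0 else C.aw (1, (exists_map_two h).choose) x0
  have hpx : ∀ g : Perm (Fin 6), Perm.sign g = 1 → px (g 4) (g 5) = C.aw (1, g) x0 := by
    intro g hg
    have hne : g 4 ≠ g 5 := fun e => absurd (g.injective e) (by decide)
    show (if h : g 4 = g 5 then 0 else C.aw (1, (exists_map_two h).choose) x0) = _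
    rw [dif_neg hne]
    obtain ⟨hp, hp4, hp5⟩ := (exists_map_two hne).choose_spec
    set p := (exists_map_two hne).choose
    have hst : Stab45 (g⁻¹ * p) := ⟨by rw [_root_.map_mul, _root_.map_inv, hg, hp, inv_one, one_mul],
      Or.inl ⟨by rw [Perm.mul_apply, hp4]; simp, by rw [Perm.mul_apply, hp5]; simp⟩⟩
    rw [show p = g * (g⁻¹ * p) by group, C.aw_comp hg hst.1, hstab _ hst]
  have hpx45 : px 4 5 = x0 := by simpa [C.aw_one] using (hpx 1 (_root_.map_one _)).trans (C.aw_one x0)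
  refine ⟨⟨hT, px, by rw [hpx45]; exact hx00, fun i => dif_pos rfl, fun i j => ?_, fun r hr i j => ?_, ?_, ?_⟩⟩
  · by_cases h : i = j
    · rw [h]
    obtain ⟨g, hg, rfl, rfl⟩ := exists_map_two h
    rw [hpx g hg]
    have hst : Stab45 (swap 4 5 * swap 0 1) := by decide
    have e := hpx (g * (swap 4 5 * swap 0 1)) (by rw [_root_.map_mul, hg, hst.1, one_mul])
    rw [C.aw_comp hg hst.1, hstab _ hst] at e
    rw [← e]
    simp only [Perm.mul_apply]
    rw [show swap (4 : Fin 6) 5 (swap 0 1 4) = 5 by decide, show swap (4 : Fin 6) 5 (swap 0 1 5) = 4 by decide]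
  · by_cases h : i = j
    · subst h; rw [show px i i = 0 from dif_pos rfl, show px (r i) (r i) = 0 from dif_pos rfl, map_zero]
    obtain ⟨g, hg, rfl, rfl⟩ := exists_map_two h
    rw [hpx g hg, ← C.aw_comp hr hg, ← hpx (r * g) (by rw [_root_.map_mul, hr, hg, one_mul])]
    rfl
  · rw [hpx45]; exact fun t h1 h2 => hplane t ((memF t).mpr ⟨h1, h2⟩)
  · rw [hpx45]; exact (memF x0).mp hx0F

end Cfg

namespace Lab

variable {C : Cfg Q z} [Finite G] (L : Lab C)
include L

theorem px_ne {i j : Fin 6} (h : i ≠ j) : L.px i j ≠ 0 := by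
  obtain ⟨g, hg, rfl, rfl⟩ := exists_map_two h
  rw [← L.smul g hg]
  exact fun e => L.x0_ne (C.aw_inj (psi_even hg) (by rw [e, map_zero]))

theorem two (t : C.V) : t + t = 0 := C.v_two t

theorem tri (i j k : Fin 6) : L.px i k = L.px i j + L.px j k := by
  by_cases hij : i = j
  · rw [hij, L.self, zero_add]
  by_cases hjk : j = k
  · rw [hjk, L.self, add_zero]
  by_cases hik : i = k
  · rw [hik, L.self, L.symm j k, L.two]
  suffices h : L.px 0 1 + L.px 1 2 + L.px 0 2 = 0 by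
    obtain ⟨g, hg, rfl, rfl, rfl⟩ := exists_map_three hij hik hjk
    rw [← L.smul g hg, ← L.smul g hg, ← L.smul g hg, ← map_add]
    congr 1
    calc L.px 0 2 = (L.px 0 1 + L.px 1 2 + L.px 0 2) + L.px 0 2 := by rw [h, zero_add]
      _ = L.px 0 1 + L.px 1 2 := by rw [add_assoc, L.two, add_zero]
  set y := L.px 0 1 + L.px 1 2 + L.px 0 2
  have hy : ∀ r, Perm.sign r = 1 → C.aw (1, r) y =
      L.px (r 0) (r 1) + L.px (r 1) (r 2) + L.px (r 0) (r 2) := fun r hr => by
    simp only [y, map_add, L.smul r hr]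
  have ha : C.aw (1, pa) y = y := by
    rw [hy pa pa_sign, show pa 0 = 1 by decide, show pa 1 = 2 by decide, show pa 2 = 0 by decide, L.symm 2 0, L.symm 1 0]
    simp only [y]; abel
  have hb : C.aw (1, pb) y = y := by
    rw [hy pb pb_sign, show pb 0 = 0 by decide, show pb 1 = 1 by decide, show pb 2 = 2 by decide]
  rw [← C.ten_E L.ten y, P_of_fix C.v_two hb, P_of_fix C.v_two ha]

theorem sum_eq : L.px 0 1 + L.px 2 3 = L.px 4 5 := by
  set s : C.V := ∑ j, L.px 0 j
  have hs : ∀ k, ∑ j, L.px k j = s := fun k => by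
    have : ∀ j, L.px k j = L.px k 0 + L.px 0 j := fun j => L.tri k 0 j
    rw [Finset.sum_congr rfl fun j _ => this j, Finset.sum_add_distrib, Finset.sum_const, Finset.card_univ,
      Fintype.card_fin, six_nsmul L.two, zero_add]
  have hfix : ∀ r, Perm.sign r = 1 → C.aw (1, r) s = s := fun r hr => by
    simp only [s, map_sum, L.smul r hr]
    exact ((Equiv.sum_comp r (fun j => L.px (r 0) j))).trans (hs (r 0))
  have h0 : s = 0 := by
    rw [← C.ten_E L.ten s, P_of_fix C.v_two (hfix pb pb_sign), P_of_fix C.v_two (hfix pa pa_sign)]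
  simp only [s, Fin.sum_univ_six, L.self, zero_add] at h0
  rw [L.tri 2 0 3, L.tri 4 0 5, L.symm 2 0, L.symm 4 0]
  calc L.px 0 1 + (L.px 0 2 + L.px 0 3)
      = (L.px 0 1 + L.px 0 2 + L.px 0 3 + L.px 0 4 + L.px 0 5) + (L.px 0 4 + L.px 0 5) := by
        calc L.px 0 1 + (L.px 0 2 + L.px 0 3)
            = L.px 0 1 + L.px 0 2 + L.px 0 3 + ((L.px 0 4 + L.px 0 5) + (L.px 0 4 + L.px 0 5)) := by
              rw [L.two, add_zero, add_assoc]
          _ = _ := by abel
    _ = L.px 0 4 + L.px 0 5 := by rw [h0, zero_add]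

theorem sum_four {i j k l m n : Fin 6} (g : Perm (Fin 6)) (hg : Perm.sign g = 1) (h0 : g 0 = i) (h1 : g 1 = j)
    (h2 : g 2 = k) (h3 : g 3 = l) (h4 : g 4 = m) (h5 : g 5 = n) : L.px i j + L.px k l = L.px m n := by
  rw [← h0, ← h1, ← h2, ← h3, ← h4, ← h5, ← L.smul g hg, ← L.smul g hg, ← L.smul g hg, ← map_add, L.sum_eq]

theorem add_px (i j k l : Fin 6) : ∃ m n, L.px i j + L.px k l = L.px m n := by
  by_cases hik : i = k
  · subst hik; exact ⟨j, l, by rw [L.symm i j, ← L.tri]⟩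
  by_cases hil : i = l
  · subst hil; exact ⟨j, k, by rw [L.symm i j, L.symm k i, ← L.tri]⟩
  by_cases hjk : j = k
  · subst hjk; exact ⟨i, l, (L.tri i j l).symm⟩
  by_cases hjl : j = l
  · subst hjl; exact ⟨i, k, by rw [L.symm k j, ← L.tri]⟩
  by_cases hij : i = j
  · subst hij; exact ⟨k, l, by rw [L.self, zero_add]⟩
  by_cases hkl : k = l
  · subst hkl; exact ⟨i, j, by rw [L.self, add_zero]⟩
  obtain ⟨g, hg, h0, h1, h2, h3⟩ := exists_map_four hij hik hil hjk hjl hkl
  exact ⟨g 4, g 5, L.sum_four g hg h0 h1 h2 h3 rfl rfl⟩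

/-- The subgroup of the vectors attached to pairs. -/
def Wsub : AddSubgroup C.V where
  carrier := {t | ∃ i j, t = L.px i j}
  zero_mem' := ⟨0, 0, (L.self 0).symm⟩
  add_mem' := by
    rintro _ _ ⟨i, j, rfl⟩ ⟨k, l, rfl⟩
    exact L.add_px i j k l
  neg_mem' := by
    rintro _ ⟨i, j, rfl⟩
    exact ⟨i, j, neg_eq_of_add_eq_zero_left (L.two _)⟩

theorem eq_iff {i j k l : Fin 6} (hij : i ≠ j) (h : L.px i j = L.px k l) : i = k ∧ j = l ∨ i = l ∧ j = k := by
  have h0 : L.px i j + L.px k l = 0 := by rw [h, L.two]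
  by_cases hkl : k = l
  · subst hkl; rw [L.self] at h; exact absurd h (L.px_ne hij)
  by_cases hik : i = k
  · subst hik
    rw [L.symm i j, ← L.tri] at h0
    exact Or.inl ⟨rfl, by by_contra e; exact L.px_ne e h0⟩
  by_cases hil : i = l
  · subst hil
    rw [L.symm i j, L.symm k i, ← L.tri] at h0
    exact Or.inr ⟨rfl, by by_contra e; exact L.px_ne e h0⟩
  by_cases hjk : j = k
  · subst hjk
    rw [← L.tri] at h0
    exact Or.inr ⟨by by_contra e; exact L.px_ne e h0, rfl⟩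
  by_cases hjl : j = l
  · subst hjl
    rw [L.symm k j, ← L.tri] at h0
    exact Or.inl ⟨by by_contra e; exact L.px_ne e h0, rfl⟩
  obtain ⟨g, hg, e0, e1, e2, e3⟩ := exists_map_four hij hik hil hjk hjl hkl
  rw [L.sum_four g hg e0 e1 e2 e3 rfl rfl] at h0
  exact absurd h0 (L.px_ne fun e => absurd (g.injective e) (by decide))

theorem cd_W {t : C.V} (ht : t ∈ L.Wsub) (ht' : C.aw cd t ∈ L.Wsub) : t = 0 := by
  obtain ⟨k, l, rfl⟩ := ht
  obtain ⟨i, j, he⟩ := ht'
  by_contra h0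
  have hkl : k ≠ l := fun e => h0 (by rw [e]; exact L.self l)
  obtain ⟨g, hg, rfl, rfl⟩ := exists_map_two hkl
  have hgi : Perm.sign g⁻¹ = 1 := by rw [_root_.map_inv, hg, inv_one]
  have he' : C.aw cd (L.px 4 5) = L.px (g⁻¹ i) (g⁻¹ j) := by
    rw [← L.smul _ hgi, ← he, ← C.aw_cd_even hgi, L.smul _ hgi]
    simp
  generalize g⁻¹ i = a at he'
  generalize g⁻¹ j = b at he'
  have hab : a ≠ b := fun e => by
    rw [e, L.self] at he'
    exact L.x0_ne (C.aw_inj psi_cd (by rw [he', map_zero]))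
  have hfixr : ∀ r, Stab45 r → r a = a ∧ r b = b ∨ r a = b ∧ r b = a := by
    intro r hr
    have e : C.aw (1, r) (L.px a b) = L.px a b := by
      rw [← he', ← C.aw_cd_even hr.1, L.smul r hr.1]
      rcases hr.2 with ⟨e1, e2⟩ | ⟨e1, e2⟩ <;> rw [e1, e2]
      rw [L.symm]
    rw [L.smul r hr.1] at e
    exact L.eq_iff (fun e => hab (r.injective e)) e
  by_cases h1 : a = 4 ∧ b = 5
  · rw [h1.1, h1.2] at he'
    exact L.x0_ne (by rw [← P_of_fix C.v_two he', L.ten])
  by_cases h2 : a = 5 ∧ b = 4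
  · rw [h2.1, h2.2, L.symm 5 4] at he'
    exact L.x0_ne (by rw [← P_of_fix C.v_two he', L.ten])
  obtain ⟨r, hr, h3, h4⟩ := stab45_move a b hab h1 h2
  have hst : ∀ r ∈ [sA, sP, pa, swap (1 : Fin 6) 2 * swap 2 3, swap (0 : Fin 6) 1 * swap 4 5], Stab45 r := by
    decide +kernel
  rcases hfixr r (hst r hr) with e | e
  · exact h3 e
  · exact h4 e

theorem span (t : C.V) : ∃ a b, a ∈ L.Wsub ∧ b ∈ L.Wsub ∧ t = a + C.aw cd b := by
  classical
  let S := {p : Fin 6 × Fin 6 // p.1 < p.2}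
  let f : Option S → L.Wsub := fun o => o.elim 0 fun p => ⟨L.px p.1.1 p.1.2, _, _, rfl⟩
  have hf : Function.Injective f := by
    rintro (_ | ⟨⟨i, j⟩, hij⟩) (_ | ⟨⟨k, l⟩, hkl⟩) h
    · rfl
    · exact absurd (congrArg Subtype.val h).symm (L.px_ne (ne_of_lt hkl))
    · exact absurd (congrArg Subtype.val h) (L.px_ne (ne_of_lt hij))
    · have h := L.eq_iff (ne_of_lt hij) (congrArg Subtype.val h)
      rcases h with ⟨rfl, rfl⟩ | ⟨rfl, rfl⟩
      · rfl
      · exact absurd hij (not_lt.mpr (le_of_lt hkl))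
  have h16 : 16 ≤ Nat.card L.Wsub := by
    refine le_trans (le_of_eq ?_) (Nat.card_le_card_of_injective f hf)
    rw [Nat.card_eq_fintype_card]
    rfl
  set D := L.Wsub.map (C.aw cd)
  have hd : ∀ t ∈ L.Wsub, t ∈ D → t = 0 := by
    rintro _ ht ⟨b, hb, rfl⟩
    rw [L.cd_W hb ht, map_zero]
  have hc := card_inf_sup hd
  have hD : Nat.card D = Nat.card L.Wsub :=
    (Nat.card_congr (AddSubgroup.equivMapOfInjective L.Wsub _ (C.aw_inj psi_cd)).toEquiv).symm
  have htop : L.Wsub ⊔ D = ⊤ := AddSubgroup.eq_top_of_le_card _ (by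
    rw [← hc, hD, C.card_V]
    exact le_trans (le_of_eq (by norm_num)) (Nat.mul_le_mul h16 h16))
  obtain ⟨a, ha, _, ⟨b, hb, rfl⟩, e⟩ := AddSubgroup.mem_sup.mp (show t ∈ L.Wsub ⊔ D by rw [htop]; trivial)
  exact ⟨a, b, ha, hb, e.symm⟩

theorem q_px (i j : Fin 6) : C.qf (L.px i j) = 0 := by
  have hc : ∀ i j, i ≠ j → C.qf (L.px i j) = C.qf (L.px 4 5) := fun i j h => by
    obtain ⟨g, hg, rfl, rfl⟩ := exists_map_two h
    rw [← L.smul g hg, C.aw_qf (psi_even hg)]
  set c := C.qf (L.px 4 5)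
  have inter : ∀ i j k, i ≠ j → j ≠ k → i ≠ k → C.β (L.px i j) (L.px j k) = c := fun i j k h1 h2 h3 => by
    have e := congrArg C.qf (L.tri i j k)
    rw [C.qf_add, hc i k h3, hc i j h1, hc j k h2, zmod_two_self, zero_add] at e
    exact e.symm
  have dis : C.β (L.px 0 1) (L.px 2 3) = c := by
    have e := congrArg C.qf L.sum_eq
    rw [C.qf_add, hc 0 1 (by decide), hc 2 3 (by decide), zmod_two_self, zero_add] at e
    exact e
  have h0 : c = 0 := by
    have e : C.β (L.px 0 1) (L.px 2 3) = C.β (L.px 0 1) (L.px 2 1) + C.β (L.px 0 1) (L.px 1 3) := by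
      rw [← C.β_add_right, ← L.tri]
    rw [L.symm 2 1, inter 0 1 2 (by decide) (by decide) (by decide), inter 0 1 3 (by decide) (by decide) (by decide),
      dis, zmod_two_self] at e
    exact e
  by_cases h : i = j
  · rw [h, L.self, C.qf_zero]
  · rw [hc i j h, h0]

theorem q_W {t : C.V} (ht : t ∈ L.Wsub) : C.qf t = 0 := by
  obtain ⟨i, j, rfl⟩ := ht; exact L.q_px i j

theorem β_W {s t : C.V} (hs : s ∈ L.Wsub) (ht : t ∈ L.Wsub) : C.β s t = 0 := by
  have e := C.qf_add s t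
  rw [L.q_W (add_mem hs ht), L.q_W hs, L.q_W ht, add_zero, zero_add] at e
  exact e.symm

theorem β_cd_symm {s t : C.V} (hs : s ∈ L.Wsub) (ht : t ∈ L.Wsub) :
    C.β s (C.aw cd t) = C.β t (C.aw cd s) := by
  have h2 : C.aw cd (C.aw cd s) = s + C.aw cd s := by
    have h := L.ten s
    rw [P_apply] at h
    calc C.aw cd (C.aw cd s) = C.aw cd (C.aw cd s) + (s + C.aw cd s + C.aw cd (C.aw cd s)) := by rw [h, add_zero]
      _ = s + C.aw cd s + (C.aw cd (C.aw cd s) + C.aw cd (C.aw cd s)) := by abel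
      _ = _ := by rw [C.v_two, add_zero]
  calc C.β s (C.aw cd t) = C.β (C.aw cd (C.aw cd s)) (C.aw cd (C.aw cd (C.aw cd t))) := by
        rw [C.aw_β psi_cd, C.aw_β psi_cd]
    _ = _ := by rw [C.aw_cd3, h2, C.β_add_left, L.β_W hs ht, zero_add, C.β_symm]

theorem mem (i j : Fin 6) : L.px i j ∈ L.Wsub := ⟨i, j, rfl⟩

theorem gam_self (i j : Fin 6) : C.β (L.px i j) (C.aw cd (L.px i j)) = 0 := by
  have hs := L.ten (L.px i j)
  rw [P_apply] at hs
  have : C.aw cd (C.aw cd (L.px i j)) = L.px i j + C.aw cd (L.px i j) := by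
    calc C.aw cd (C.aw cd (L.px i j))
        = C.aw cd (C.aw cd (L.px i j)) + (L.px i j + C.aw cd (L.px i j) + C.aw cd (C.aw cd (L.px i j))) := by
          rw [hs, add_zero]
      _ = L.px i j + C.aw cd (L.px i j) + (C.aw cd (C.aw cd (L.px i j)) + C.aw cd (C.aw cd (L.px i j))) := by abel
      _ = _ := by rw [C.v_two, add_zero]
  have e := congrArg C.qf this
  rw [C.aw_qf psi_cd, C.aw_qf psi_cd, C.qf_add, C.aw_qf psi_cd, L.q_px, zero_add, zero_add] at e
  exact e.symm

theorem gam_inter {i j k : Fin 6} (hij : i ≠ j) (hik : i ≠ k) (hjk : j ≠ k) :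
    C.β (L.px i j) (C.aw cd (L.px i k)) = 1 := by
  obtain ⟨g, hg, rfl, rfl, rfl⟩ := exists_map_three hij hik hjk
  rw [← L.smul g hg, ← L.smul g hg, C.aw_cd_even hg, C.aw_β (psi_even hg)]
  by_contra hne
  have h0 : C.β (L.px 0 1) (C.aw cd (L.px 0 2)) = 0 := (zmod_two_cases _).resolve_right hne
  have hinter : ∀ a b c, a ≠ b → a ≠ c → b ≠ c → C.β (L.px a b) (C.aw cd (L.px a c)) = 0 := by
    intro a b c h1 h2 h3
    obtain ⟨g, hg, rfl, rfl, rfl⟩ := exists_map_three h1 h2 h3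
    rw [← L.smul g hg, ← L.smul g hg, C.aw_cd_even hg, C.aw_β (psi_even hg), h0]
  have hall : ∀ k l, C.β (L.px 0 1) (C.aw cd (L.px k l)) = 0 := by
    have h0l : ∀ l, C.β (L.px 0 1) (C.aw cd (L.px 0 l)) = 0 := fun l => by
      by_cases h1 : l = 0
      · rw [h1, L.self, map_zero, C.β_zero_right]
      by_cases h2 : l = 1
      · rw [h2]; exact L.gam_self 0 1
      exact hinter 0 1 l (by decide) (Ne.symm h1) (Ne.symm h2)
    intro k l
    rw [L.tri k 0 l, map_add, C.β_add_right, L.symm k 0, h0l, h0l, add_zero]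
  refine L.px_ne (show (0 : Fin 6) ≠ 1 by decide) (C.β_nondeg fun t => ?_)
  obtain ⟨a, b, ha, ⟨k, l, rfl⟩, rfl⟩ := L.span t
  rw [C.β_add_right, L.β_W (L.mem 0 1) ha, hall, add_zero]

theorem gam_disj {i j k l : Fin 6} (hij : i ≠ j) (hik : i ≠ k) (hil : i ≠ l) (hjk : j ≠ k) (hjl : j ≠ l)
    (hkl : k ≠ l) : C.β (L.px i j) (C.aw cd (L.px k l)) = 0 := by
  rw [L.tri k i l, map_add, C.β_add_right, L.symm k i, L.gam_inter hij hik hjk, L.gam_inter hij hil hjl]
  rfl

/-- The action of an element of the centralizer. -/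
theorem act_px {m : G} (hm : m * z = z * m) :
    ∃ s : C.V →+ C.V, (s = AddMonoidHom.id C.V ∨ s = C.aw cd ∨ s = (C.aw cd).comp (C.aw cd)) ∧
      ∀ i j, C.act m (L.px i j) = s (L.px ((C.π m).2 i) ((C.π m).2 j)) := by
  set r := (C.π m).2 with hr
  have hconj : ∀ h : Perm (Fin 6), C.π m * ((1, h) : W) * (C.π m)⁻¹ = (1, r * h * r⁻¹) := fun h =>
    Prod.ext (by simp) rfl
  have hsg : ∀ h : Perm (Fin 6), Perm.sign h = 1 → Perm.sign (r * h * r⁻¹) = 1 := fun h hh => by
    rw [_root_.map_mul, _root_.map_mul, hh, mul_one, _root_.map_inv, mul_inv_cancel]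
  obtain ⟨g, hg, hg4, hg5⟩ := exists_map_two (show r 4 ≠ r 5 from fun e => absurd (r.injective e) (by decide))
  have hgi : Perm.sign g⁻¹ = 1 := by rw [_root_.map_inv, hg, inv_one]
  set t := C.aw (1, g⁻¹) (C.act m (L.px 4 5))
  have hfix : ∀ s, Perm.sign s = 1 → s 4 = 4 → s 5 = 5 → s * s = 1 → C.aw (1, s) t = t := by
    intro s hs s4 s5 ss
    set v := r⁻¹ * g * s * g⁻¹ * r with hv
    have hvs : Perm.sign v = 1 := by
      rw [hv]; simp only [_root_.map_mul, _root_.map_inv, hg, hs, inv_one, mul_one, inv_mul_cancel]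
    have hg4' : g⁻¹ (r 4) = 4 := by rw [← hg4]; simp
    have hg5' : g⁻¹ (r 5) = 5 := by rw [← hg5]; simp
    have hvv : v * v = 1 := by
      rw [hv, show r⁻¹ * g * s * g⁻¹ * r * (r⁻¹ * g * s * g⁻¹ * r) = r⁻¹ * g * (s * s) * g⁻¹ * r by group, ss]
      group
    have hfx : C.aw (1, v) (L.px 4 5) = L.px 4 5 := by
      rcases invol_fix45 v hvs (by simp [hv, Perm.mul_apply, hg4', s4, hg4]) (by simp [hv, Perm.mul_apply, hg5', s5, hg5])
        hvv with e | e | e | e <;> rw [e]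
      · exact C.aw_one _
      · exact L.fix_self.1
      · exact L.fix_self.2
      · rw [C.aw_comp sA_sign sP_sign, L.fix_self.2, L.fix_self.1]
    show C.aw (1, s) (C.aw (1, g⁻¹) _) = _
    rw [← C.aw_comp hs hgi, show s * g⁻¹ = g⁻¹ * (r * v * r⁻¹) by rw [hv]; group, C.aw_comp hgi (hsg v hvs)]
    congr 1
    rw [← hconj v, ← C.act_aw hm (psi_even hvs), hfx]
  have hact : C.act m (L.px 4 5) = C.aw (1, g) t := by
    show _ = C.aw (1, g) (C.aw (1, g⁻¹) _)
    rw [← C.aw_comp hg hgi, mul_inv_cancel]; exact (C.aw_one _).symm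
  have hpg : C.aw (1, g) (L.px 4 5) = L.px (r 4) (r 5) := by rw [L.smul g hg, hg4, hg5]
  obtain ⟨s, hs, hs45⟩ : ∃ s : C.V →+ C.V, (s = AddMonoidHom.id C.V ∨ s = C.aw cd ∨ s = (C.aw cd).comp (C.aw cd)) ∧
      C.act m (L.px 4 5) = s (L.px (r 4) (r 5)) := by
    rcases L.fixed t (hfix sA sA_sign (by decide) (by decide) (by decide))
      (hfix sP sP_sign (by decide) (by decide) (by decide)) with e | e | e | e
    · exfalso
      rw [e, map_zero] at hact
      exact L.x0_ne (C.act_inj hm (by rw [hact, map_zero]))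
    · exact ⟨_, Or.inl rfl, by rw [hact, e, hpg]; rfl⟩
    · exact ⟨_, Or.inr (Or.inl rfl), by rw [hact, e, ← C.aw_cd_even hg, hpg]⟩
    · refine ⟨_, Or.inr (Or.inr rfl), ?_⟩
      have h3 := L.ten (L.px (r 4) (r 5))
      rw [P_apply] at h3
      rw [hact, e, map_add, ← C.aw_cd_even hg, hpg, AddMonoidHom.comp_apply]
      calc L.px (r 4) (r 5) + C.aw cd (L.px (r 4) (r 5))
          = L.px (r 4) (r 5) + C.aw cd (L.px (r 4) (r 5)) + (C.aw cd (C.aw cd (L.px (r 4) (r 5))) +
              C.aw cd (C.aw cd (L.px (r 4) (r 5)))) := by rw [C.v_two, add_zero]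
        _ = (L.px (r 4) (r 5) + C.aw cd (L.px (r 4) (r 5)) + C.aw cd (C.aw cd (L.px (r 4) (r 5)))) +
              C.aw cd (C.aw cd (L.px (r 4) (r 5))) := by abel
        _ = _ := by rw [h3, zero_add]
  refine ⟨s, hs, fun i j => ?_⟩
  by_cases h : i = j
  · rw [h, L.self, L.self, map_zero, map_zero]
  obtain ⟨h', hh', rfl, rfl⟩ := exists_map_two h
  have hcomm : ∀ x, C.aw (1, r * h' * r⁻¹) (s x) = s (C.aw (1, r * h' * r⁻¹) x) := fun x => by
    rcases hs with rfl | rfl | rfl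
    · rfl
    · exact (C.aw_cd_even (hsg h' hh') x).symm
    · simp only [AddMonoidHom.comp_apply, C.aw_cd_even (hsg h' hh')]
  rw [← L.smul h' hh', C.act_aw hm (psi_even hh'), hconj, hs45, hcomm, L.smul _ (hsg h' hh')]
  simp

/-- An involution centralising `cd` preserves `W`. -/
theorem act_invol {m : G} (hm : m * z = z * m) (h2 : C.π m * C.π m = 1) (hs : Perm.sign (C.π m).1 = 1) (i j : Fin 6) :
    C.act m (L.px i j) = L.px ((C.π m).2 i) ((C.π m).2 j) := by
  obtain ⟨s, hs', h⟩ := L.act_px hm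
  have hπ : C.π m = (1, (C.π m).2) := Prod.ext (fst_of_sq h2 hs) rfl
  have hcm : ∀ x, C.act m (C.aw cd x) = C.aw cd (C.act m x) := fun x => by
    rw [C.act_aw hm psi_cd, hπ, ← cd_comm, mul_inv_cancel_right]
  have hsm : ∀ x, C.act m (s x) = s (C.act m x) := fun x => by
    rcases hs' with rfl | rfl | rfl
    · rfl
    · exact hcm x
    · simp only [AddMonoidHom.comp_apply, hcm]
  have htw : ∀ i j, s (s (L.px i j)) = L.px i j := fun i j => by
    have hr2 : ∀ x, (C.π m).2 ((C.π m).2 x) = x := fun x => by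
      rw [← Perm.mul_apply, ← Prod.snd_mul, h2]; rfl
    have e : C.act m (C.act m (L.px i j)) = L.px i j := by
      rw [← C.act_mul hm hm, C.act_trivial (cz_mul hm hm) (by rw [C.map_mul _ _ hm hm, h2])]
    rw [h, hsm, h, hr2, hr2] at e
    exact e
  rw [h]
  rcases hs' with rfl | rfl | rfl
  · rfl
  · exfalso
    have := htw 4 5
    have e := congrArg (C.aw cd) this
    rw [C.aw_cd3] at e
    exact L.x0_ne (by rw [← P_of_fix C.v_two e.symm, L.ten])
  · exfalso
    have := htw 4 5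
    simp only [AddMonoidHom.comp_apply, C.aw_cd3] at this
    exact L.x0_ne (by rw [← P_of_fix C.v_two this, L.ten])

end Lab

end CfsgSTS
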