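/-
Further facts about the labelling by pairs: decompositions, the stabilizer of the `W`-part and its preimage.
-/
import Cfsg.Agent.Lib.SymThreeAltSix.Model

set_option autoImplicit false

namespace CfsgSTS

open Equiv Weights

/-- A pair meeting `{4, 5}` in none or two points. -/
abbrev Flat (i j : Fin 6) : Prop := (i = 4 ∨ i = 5) ↔ (j = 4 ∨ j = 5)

theorem flat_cases : ∀ i j : Fin 6, Flat i j →
    ((i = 0 ∨ i = 1 ∨ i = 2 ∨ i = 3) ∧ (j = 0 ∨ j = 1 ∨ j = 2 ∨ j = 3)) ∨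
      (i = 4 ∨ i = 5) ∧ (j = 4 ∨ j = 5) := by decide

theorem not_flat_cases : ∀ i j : Fin 6, ¬ Flat i j →
    ((i = 0 ∨ i = 1 ∨ i = 2 ∨ i = 3) ∧ (j = 4 ∨ j = 5)) ∨
      (j = 0 ∨ j = 1 ∨ j = 2 ∨ j = 3) ∧ (i = 4 ∨ i = 5) := by decide

variable {G : Type*} [Group G] [Finite G] {Q : Subgroup G} {z : G} {C : Cfg Q z}

namespace Lab

variable (L : Lab C)
include L

theorem eq_of_add {s t : C.V} (h : s + t = 0) : s = t := by
  calc s = s + (t + t) := by rw [L.two, add_zero]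
    _ = t := by rw [← add_assoc, h, zero_add]

theorem dec_eq {a a' b b' : C.V} (ha : a ∈ L.Wsub) (ha' : a' ∈ L.Wsub) (hb : b ∈ L.Wsub) (hb' : b' ∈ L.Wsub)
    (h : a + C.aw cd b = a' + C.aw cd b') : a = a' ∧ b = b' := by
  have e : C.aw cd (b + b') = a + a' := by
    rw [map_add]
    calc C.aw cd b + C.aw cd b' = (a + a) + (C.aw cd b + C.aw cd b') := by rw [L.two, zero_add]
      _ = a + ((a + C.aw cd b) + C.aw cd b') := by abel
      _ = a + (a' + (C.aw cd b' + C.aw cd b')) := by rw [h, add_assoc]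
      _ = _ := by rw [L.two, add_zero]
  have h0 : b + b' = 0 := L.cd_W (add_mem hb hb') (e ▸ add_mem ha ha')
  rw [h0, map_zero] at e
  exact ⟨L.eq_of_add e.symm, L.eq_of_add h0⟩

theorem px_eq_cases {i j k l : Fin 6} (h : L.px i j = L.px k l) :
    i = j ∧ k = l ∨ i = k ∧ j = l ∨ i = l ∧ j = k := by
  by_cases hij : i = j
  · refine Or.inl ⟨hij, by_contra fun hkl => L.px_ne hkl ?_⟩
    rw [← h, hij, L.self]
  · exact Or.inr (L.eq_iff hij h)

/-- Membership of all flat pairs in a subgroup containing three of them. -/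
theorem flat_mem (X : AddSubgroup C.V) (h45 : L.px 4 5 ∈ X) (h01 : L.px 0 1 ∈ X) (h02 : L.px 0 2 ∈ X) {i j : Fin 6}
    (h : Flat i j) : L.px i j ∈ X := by
  have h23 : L.px 2 3 ∈ X := by
    have e : L.px 2 3 = L.px 0 1 + L.px 4 5 := by rw [← L.sum_eq, ← add_assoc, L.two, zero_add]
    rw [e]; exact add_mem h01 h45
  have h0 : ∀ k : Fin 6, (k = 0 ∨ k = 1 ∨ k = 2 ∨ k = 3) → L.px 0 k ∈ X := by
    rintro k (rfl | rfl | rfl | rfl)
    · rw [L.self]; exact zero_mem _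
    · exact h01
    · exact h02
    · rw [L.tri 0 2 3]; exact add_mem h02 h23
  rcases flat_cases i j h with ⟨hi, hj⟩ | ⟨hi, hj⟩
  · rw [L.tri i 0 j, L.symm i 0]; exact add_mem (h0 i hi) (h0 j hj)
  · rcases hi with rfl | rfl <;> rcases hj with rfl | rfl
    · rw [L.self]; exact zero_mem _
    · exact h45
    · rw [L.symm]; exact h45
    · rw [L.self]; exact zero_mem _

/-- An element mapping one pair into the `W`-part permutes the pairs. -/
theorem act_stab {m : G} (hm : m * z = z * m) {i j : Fin 6} (hij : i ≠ j) (h : C.act m (L.px i j) ∈ L.Wsub)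
    (k l : Fin 6) : C.act m (L.px k l) = L.px ((C.π m).2 k) ((C.π m).2 l) := by
  obtain ⟨s, hs, hsp⟩ := L.act_px hm
  rw [hsp] at h
  have hne := L.px_ne (fun e => hij ((C.π m).2.injective e))
  rcases hs with rfl | rfl | rfl
  · exact hsp k l
  · exact absurd (L.cd_W (L.mem _ _) h) hne
  · exfalso
    have h' := L.cd_W (t := C.aw cd (C.aw cd (L.px ((C.π m).2 i) ((C.π m).2 j)))) h
      (by rw [C.aw_cd3]; exact L.mem _ _)
    exact hne (C.aw_inj psi_cd (C.aw_inj psi_cd (by rw [h', map_zero, map_zero])))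

omit [Finite G] in
theorem act_cd_comm {m : G} (hm : m * z = z * m) (h : (C.π m).1 = 1) (x : C.V) :
    C.act m (C.aw cd x) = C.aw cd (C.act m x) := by
  rw [C.act_aw hm psi_cd, show C.π m = ((1, (C.π m).2) : W) from Prod.ext h rfl, ← cd_comm, mul_inv_cancel_right]

/-- The preimage of the `W`-part. -/
def E : Subgroup G where
  carrier := {e | e ∈ Q ∧ C.v e ∈ L.Wsub}
  one_mem' := ⟨one_mem _, by rw [C.v_one]; exact zero_mem _⟩
  mul_mem' := fun {a b} ha hb => ⟨mul_mem ha.1 hb.1, by rw [C.v_mul ha.1 hb.1]; exact add_mem ha.2 hb.2⟩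
  inv_mem' := fun {a} ha => ⟨inv_mem ha.1, by rw [C.v_inv ha.1]; exact ha.2⟩

theorem E_sq {e : G} (he : e ∈ L.E) : e * e = 1 := by
  rw [← sqf_eq_zero, ← C.qf_v he.1]; exact L.q_W he.2

theorem E_inv {e : G} (he : e ∈ L.E) : e⁻¹ = e := inv_eq_of_mul_eq_one_right (L.E_sq he)

theorem E_comm {a b : G} (ha : a ∈ L.E) (hb : b ∈ L.E) : a * b = b * a := by
  rw [← bet_eq_zero, ← C.β_v ha.1 hb.1]; exact L.β_W ha.2 hb.2

theorem E_of_v {e : G} (he : e ∈ Q) {i j : Fin 6} (h : C.v e = L.px i j) : e ∈ L.E := ⟨he, i, j, h⟩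

theorem E_conj {m : G} (hm : m * z = z * m) {r : Perm (Fin 6)}
    (h : ∀ k l, C.act m (L.px k l) = L.px (r k) (r l)) {e : G} (he : e ∈ L.E) : m * e * m⁻¹ ∈ L.E := by
  refine ⟨C.conj_q hm he.1, ?_⟩
  obtain ⟨i, j, hij⟩ := he.2
  exact ⟨r i, r j, by rw [← C.act_v hm he.1, hij, h]⟩

/-- An element over an even permutation permutes the pairs. -/
theorem act_even {m : G} (hm : m * z = z * m) {r : Perm (Fin 6)} (hr : Perm.sign r = 1) (hπ : C.π m = (1, r))
    (k l : Fin 6) : C.act m (L.px k l) = L.px (r k) (r l) := by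
  rw [C.aw_eq (psi_even hr) hm hπ, L.smul r hr]

end Lab

end CfsgSTS
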