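/-
A conjugate of `z` in `Q` lying over a pure vector: the intersection of the two extraspecial groups.
-/
import Cfsg.Agent.Lib.SymThreeAltSix.Fused
import Cfsg.Agent.Lib.SymThreeAltSix.Pairs

set_option autoImplicit false

namespace CfsgSTS

open Equiv Weights CfsgLargeExtra

variable {G : Type*} [Group G] [Finite G] {Q : Subgroup G} {z : G} {C : Cfg Q z} {g : G}

namespace Fus

variable (F : Fus C g)
include F

theorem v_ne : C.v (g * z * g⁻¹) ≠ 0 := fun e =>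
  ((C.v_eq_zero F.mem).mp e).elim F.ne_one F.ne

theorem act_x {r : G} (hr : r ∈ F.R) : C.act r (C.v (g * z * g⁻¹)) = C.v (g * z * g⁻¹) := by
  rw [C.act_v (F.R_cz hr) F.mem]
  exact congrArg C.v (mul_inv_eq_iff_eq_mul.mpr ((C.conj g).cz hr.1))

/-- The image of `D`. -/
def Dv : AddSubgroup C.V where
  carrier := {t | ∃ y ∈ F.D, C.v y = t}
  zero_mem' := ⟨1, one_mem _, C.v_one⟩
  add_mem' := by
    rintro _ _ ⟨y, hy, rfl⟩ ⟨y', hy', rfl⟩
    exact ⟨y * y', Subgroup.mul_mem _ hy hy', C.v_mul hy.1 hy'.1⟩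
  neg_mem' := by
    rintro _ ⟨y, hy, rfl⟩
    exact ⟨y, hy, (neg_eq_of_add_eq_zero_left (C.v_two _)).symm⟩

theorem Dv_mem {t : C.V} (ht : t ∈ F.Dv) {y : G} (hy : y ∈ Q) (h : C.v y = t) : y ∈ F.D := by
  obtain ⟨y', hy', rfl⟩ := ht
  rcases (C.v_eq_iff hy'.1 hy).mp h.symm with e | e <;> rw [e]
  · exact hy'
  · exact Subgroup.mul_mem _ hy' F.z_D

/-- A nontrivial even permutation in `B`. -/
theorem exists_even : ∃ σ : Perm (Fin 6), Perm.sign σ = 1 ∧ σ * σ = 1 ∧ σ ≠ 1 ∧ ((1, σ) : W) ∈ F.B := by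
  classical
  obtain ⟨b, hb, hb1, hψ⟩ : ∃ b ∈ F.B, b ≠ 1 ∧ psi b = 1 := by
    by_contra hh
    push Not at hh
    have hinj : Function.Injective (psi.comp F.B.subtype) := by
      rw [injective_iff_map_eq_one]
      intro b hb
      by_contra hne
      exact hh b b.2 (fun e => hne (Subtype.ext e)) hb
    have := Nat.card_le_card_of_injective _ hinj
    rw [Nat.card_eq_fintype_card (α := ℤˣ × ℤˣ), Fintype.card_prod, Fintype.card_units_int] at this
    have := F.B_eight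
    omega
  obtain ⟨hs1, hs2⟩ := psi_eq_one.mp hψ
  have e : b = ((1, b.2) : W) := Prod.ext (fst_of_sq (F.B_sq hb) hs1) rfl
  exact ⟨b.2, hs2, congrArg Prod.snd (F.B_sq hb), fun h => hb1 (e.trans (by rw [h]; rfl)), e ▸ hb⟩

variable (L : Lab C) (hv : C.v (g * z * g⁻¹) = L.px 4 5)
include hv

theorem four_mem : ((1, sA) : W) ∈ F.B ∧ ((1, sP) : W) ∈ F.B := by
  obtain ⟨σ, hs, hss, hne, hB⟩ := F.exists_even
  obtain ⟨r, hr, hπ⟩ := F.mem_B.mp hB
  have hst : Stab45 σ := by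
    have h := F.act_x hr
    rw [hv, L.act_even (F.R_cz hr) hs hπ] at h
    exact ⟨hs, L.eq_iff (fun e => absurd (σ.injective e) (by decide)) h⟩
  obtain ⟨h1, h2⟩ := C.lift_spec (psi_even pa_sign)
  have hB' : ((1, pa * σ * pa⁻¹) : W) ∈ F.B := by
    have := F.B_conj h1 (by
      rw [hv, L.act_even h1 pa_sign h2, show pa 4 = 4 by decide, show pa 5 = 5 by decide]) hB
    rwa [h2] at this
  have hprod := F.B.mul_mem hB hB'
  have key : ∀ σ : Perm (Fin 6), Stab45 σ → σ * σ = 1 → σ ≠ 1 →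
      σ * (pa * σ * pa⁻¹) * (σ * (pa * σ * pa⁻¹)) = 1 →
      (sA = σ ∨ sA = pa * σ * pa⁻¹ ∨ sA = σ * (pa * σ * pa⁻¹)) ∧
        (sP = σ ∨ sP = pa * σ * pa⁻¹ ∨ sP = σ * (pa * σ * pa⁻¹)) := by
    decide +kernel
  have hp : ((1, σ * (pa * σ * pa⁻¹)) : W) ∈ F.B := hprod
  obtain ⟨hA, hP⟩ := key σ hst hss hne (congrArg Prod.snd (F.B_sq hp))
  constructor
  · rcases hA with e | e | e <;> rw [e] <;> assumption
  · rcases hP with e | e | e <;> rw [e] <;> assumption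

/-- Commutators with an even element of `B`. -/
theorem com_Dv {σ : Perm (Fin 6)} (hs : Perm.sign σ = 1) (hB : ((1, σ) : W) ∈ F.B) {t : C.V}
    (ht : C.β (L.px 4 5) t = 0) : C.aw (1, σ) t + t ∈ F.Dv := by
  obtain ⟨r, hr, hπ⟩ := F.mem_B.mp hB
  obtain ⟨w, hw, rfl⟩ := C.v_surj t
  obtain ⟨u, hu, huv⟩ := F.com_D hw (by rw [hv]; exact ht) hr
  exact ⟨u, hu, by rw [huv, C.aw_eq (psi_even hs) (F.R_cz hr) hπ]⟩

theorem base : L.px 4 5 ∈ F.Dv ∧ L.px 0 1 ∈ F.Dv ∧ L.px 0 2 ∈ F.Dv ∧ C.aw cd (L.px 4 5) ∈ F.Dv := by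
  obtain ⟨hA, hP⟩ := F.four_mem L hv
  refine ⟨⟨_, F.x_D, hv⟩, ?_, ?_, ?_⟩
  · have h := F.com_Dv L hv sA_sign hA (t := L.px 0 4) (L.β_W (L.mem _ _) (L.mem _ _))
    rw [L.smul sA sA_sign, show sA 0 = 1 by decide, show sA 4 = 4 by decide, L.symm 0 4, ← L.tri, L.symm] at h
    exact h
  · have h := F.com_Dv L hv sP_sign hP (t := L.px 0 4) (L.β_W (L.mem _ _) (L.mem _ _))
    rw [L.smul sP sP_sign, show sP 0 = 2 by decide, show sP 4 = 4 by decide, L.symm 0 4, ← L.tri, L.symm] at h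
    exact h
  · have h := F.com_Dv L hv sA_sign hA (t := C.aw cd (L.px 0 2))
      (L.gam_disj (by decide) (by decide) (by decide) (by decide) (by decide) (by decide))
    rw [← C.aw_cd_even sA_sign, ← map_add, L.smul sA sA_sign, show sA 0 = 1 by decide, show sA 2 = 3 by decide,
      add_comm, L.sum_four (swap 1 2 * swap 4 5) (by decide) (i := 0) (j := 2) (k := 1) (l := 3) (m := 5) (n := 4)
        (by decide) (by decide) (by decide) (by decide) (by decide) (by decide), L.symm] at h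
    exact h

theorem flat_Dv {i j : Fin 6} (h : Flat i j) : L.px i j ∈ F.Dv :=
  L.flat_mem _ (F.base L hv).1 (F.base L hv).2.1 (F.base L hv).2.2.1 h

/-- The intersection is no larger. -/
theorem exact_D {y : G} (hy : y ∈ F.D) :
    ∃ i j b, Flat i j ∧ (b = 0 ∨ b = L.px 4 5) ∧ C.v y = L.px i j + C.aw cd b := by
  obtain ⟨a, b, ⟨i, j, rfl⟩, hb, e⟩ := L.span (C.v y)
  obtain ⟨hA, hP⟩ := F.four_mem L hv
  have hcom : ∀ σ, Perm.sign σ = 1 → ((1, σ) : W) ∈ F.B →
      ∃ c, (c = 0 ∨ c = L.px 4 5) ∧ L.px (σ i) (σ j) + L.px i j = c ∧ C.aw (1, σ) b = b := by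
    intro σ hs hB
    obtain ⟨r, hr, hπ⟩ := F.mem_B.mp hB
    obtain ⟨c, hc, hc'⟩ : ∃ c, (c = 0 ∨ c = L.px 4 5) ∧ C.act r (C.v y) + C.v y = c := by
      rcases F.D_com hy hr with h | h
      · exact ⟨_, Or.inl rfl, h⟩
      · exact ⟨_, Or.inr rfl, h.trans hv⟩
    refine ⟨c, hc, ?_⟩
    have hbσ : C.aw (1, σ) b ∈ L.Wsub := by
      obtain ⟨k, l, rfl⟩ := hb
      rw [L.smul σ hs]; exact L.mem _ _
    have hcW : c ∈ L.Wsub := by
      rcases hc with rfl | rfl
      · exact zero_mem _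
      · exact L.mem _ _
    rw [e, C.aw_eq (psi_even hs) (F.R_cz hr) hπ, map_add, L.smul σ hs, ← C.aw_cd_even hs] at hc'
    have hd := L.dec_eq (a := L.px (σ i) (σ j) + L.px i j) (b := C.aw (1, σ) b + b) (a' := c) (b' := 0)
      (add_mem (L.mem _ _) (L.mem _ _)) hcW (add_mem hbσ hb) (zero_mem _)
      (by rw [map_add, map_zero, add_zero, ← hc']; abel)
    exact ⟨hd.1, L.eq_of_add hd.2⟩
  obtain ⟨c, hc, hcA, hbA⟩ := hcom sA sA_sign hA
  obtain ⟨-, -, -, hbP⟩ := hcom sP sP_sign hP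
  have hb45 : b = 0 ∨ b = L.px 4 5 := by
    rcases L.fixed b hbA hbP with h | h | h | h
    · exact Or.inl h
    · exact Or.inr h
    · exfalso
      exact L.x0_ne (L.cd_W (L.mem 4 5) (h ▸ hb))
    · exfalso
      refine L.x0_ne (L.cd_W (L.mem 4 5) ?_)
      have h' : b + L.px 4 5 = C.aw cd (L.px 4 5) := by rw [h, add_comm, ← add_assoc, L.two, zero_add]
      exact h' ▸ add_mem hb (L.mem _ _)
  refine ⟨i, j, b, ?_, hb45, e⟩
  by_contra hnf
  have hm : ∀ a : Fin 6, (a = 0 ∨ a = 1 ∨ a = 2 ∨ a = 3) → sA a ≠ a ∧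
      ¬(sA a = 4 ∧ a = 5 ∨ sA a = 5 ∧ a = 4) := by decide
  rcases not_flat_cases i j hnf with ⟨hi, hj⟩ | ⟨hi, hj⟩
  · have hjf : sA j = j := by rcases hj with rfl | rfl <;> decide
    rw [hjf, L.symm i j, ← L.tri] at hcA
    obtain ⟨h1, h2⟩ := hm i hi
    rcases hc with rfl | rfl
    · exact L.px_ne h1 hcA
    · exact h2 (L.eq_iff h1 hcA)
  · have hif : sA i = i := by rcases hj with rfl | rfl <;> decide
    rw [hif, L.symm i (sA j), ← L.tri] at hcA
    obtain ⟨h1, h2⟩ := hm j hi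
    rcases hc with rfl | rfl
    · exact L.px_ne h1 hcA
    · exact h2 (L.eq_iff h1 hcA)

/-- Elements of `E` over the other pairs are not in `D`. -/
theorem not_D {e : G} {i j : Fin 6} (h : C.v e = L.px i j) (hf : ¬ Flat i j) : e ∉ F.D := by
  intro he
  obtain ⟨k, l, b, hkl, hb, e'⟩ := F.exact_D L hv he
  have hbW : b ∈ L.Wsub := by
    rcases hb with rfl | rfl
    · exact zero_mem _
    · exact L.mem _ _
  have h1 := (L.dec_eq (a := L.px i j) (b := 0) (a' := L.px k l) (b' := b) (L.mem _ _) (L.mem _ _) (zero_mem _) hbW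
    (by rw [map_zero, add_zero, ← h, e'])).1
  rcases L.px_eq_cases h1 with ⟨h, -⟩ | ⟨rfl, rfl⟩ | ⟨rfl, rfl⟩
  · exact hf (by rw [h])
  · exact hf hkl
  · exact hf hkl.symm

/-- `D` has order `32`. -/
theorem card_D : Nat.card F.D = 32 := by
  classical
  let l : Fin 8 → Fin 6 × Fin 6 := ![(4, 4), (4, 5), (0, 1), (2, 3), (0, 2), (1, 3), (0, 3), (1, 2)]
  have hl : ∀ p, Flat (l p).1 (l p).2 := by decide
  have hinj : ∀ p q, ((l p).1 = (l p).2 ∧ (l q).1 = (l q).2 ∨ (l p).1 = (l q).1 ∧ (l p).2 = (l q).2 ∨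
      (l p).1 = (l q).2 ∧ (l p).2 = (l q).1) → p = q := by decide
  let bb : Bool → C.V := fun e => if e then L.px 4 5 else 0
  have hbbW : ∀ e, bb e ∈ L.Wsub := fun e => by cases e <;> simp [bb, L.mem, zero_mem]
  have hmem : ∀ p : Fin 8 × Bool, L.px (l p.1).1 (l p.1).2 + C.aw cd (bb p.2) ∈ F.Dv := fun p => by
    refine add_mem (F.flat_Dv L hv (hl p.1)) ?_
    cases p.2 <;> simp [bb, (F.base L hv).2.2.2, zero_mem]
  choose Y hY hYv using hmem
  let f : (Fin 8 × Bool) × Bool → F.D := fun p => ⟨if p.2 then Y p.1 * z else Y p.1, by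
    cases p.2
    · exact hY p.1
    · exact Subgroup.mul_mem _ (hY p.1) F.z_D⟩
  have hf : Function.Injective f := by
    rintro ⟨p, e⟩ ⟨q, e'⟩ h
    have h : (if e then Y p * z else Y p) = (if e' then Y q * z else Y q) := congrArg Subtype.val h
    have hvv : C.v (Y p) = C.v (Y q) := by
      have hz : ∀ (u : G) (_ : u ∈ Q) (b : Bool), C.v (if b then u * z else u) = C.v u := fun u hu b => by
        cases b
        · rfl
        · exact C.v_mul_z hu
      rw [← hz _ (hY p).1 e, h, hz _ (hY q).1]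
    rw [hYv, hYv] at hvv
    obtain ⟨h1, h2⟩ := L.dec_eq (L.mem _ _) (L.mem _ _) (hbbW _) (hbbW _) hvv
    obtain ⟨p1, p2⟩ := p
    obtain ⟨q1, q2⟩ := q
    obtain rfl : p1 = q1 := hinj _ _ (L.px_eq_cases h1)
    obtain rfl : p2 = q2 := by
      cases p2 <;> cases q2 <;> simp_all [bb, L.x0_ne, L.x0_ne.symm]
    have hne : Y (p1, p2) * z ≠ Y (p1, p2) := fun h => C.es.ne (mul_eq_left.mp h)
    cases e <;> cases e' <;> simp_all [hne.symm]
  have h := Nat.card_le_card_of_injective f hf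
  rw [show Nat.card ((Fin 8 × Bool) × Bool) = 32 by simp] at h
  have := F.D_card
  omega

/-- An element of `R` fixing `D` modulo `z` lies in `Q`. -/
theorem faith {r : G} (hr : r ∈ F.R) (h01 : C.act r (L.px 0 1) = L.px 0 1) (h02 : C.act r (L.px 0 2) = L.px 0 2)
    (hd : C.act r (C.aw cd (L.px 4 5)) = C.aw cd (L.px 4 5)) : r ∈ Q := by
  set K := (C.act r - AddMonoidHom.id C.V).ker
  have memK : ∀ t, t ∈ K ↔ C.act r t = t := fun t => by
    rw [AddMonoidHom.mem_ker, AddMonoidHom.sub_apply, AddMonoidHom.id_apply, sub_eq_zero]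
  have h45 : C.act r (L.px 4 5) = L.px 4 5 := hv ▸ F.act_x hr
  have hfix : ∀ y ∈ F.D, r * y = y * r := by
    intro y hy
    obtain ⟨i, j, b, hf, hb, e⟩ := F.exact_D L hv hy
    have h1 : C.act r (C.v y) = C.v y := by
      rw [← memK, e]
      refine add_mem (L.flat_mem K ((memK _).mpr h45) ((memK _).mpr h01) ((memK _).mpr h02) hf) ?_
      rcases hb with rfl | rfl
      · rw [map_zero]; exact zero_mem _
      · exact (memK _).mpr hd
    rw [C.act_v (F.R_cz hr) hy.1] at h1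
    rcases (C.conj g).es.conj_cases hr.1 hy.2 with e' | e'
    · exact mul_inv_eq_iff_eq_mul.mp e'
    · exfalso
      rw [e', C.v_mul hy.1 F.mem, add_eq_left] at h1
      exact F.v_ne h1
  have hc := (C.conj g).card_cent (A := F.D) inf_le_right F.x_D
  rw [F.card_D L hv] at hc
  have hle : F.D ≤ cj g Q ⊓ Subgroup.centralizer (F.D : Set G) := le_inf inf_le_right fun y hy =>
    Subgroup.mem_centralizer_iff.mpr fun t ht => by
      have h1 := inv_eq_of_mul_eq_one_right (F.D_sq (Subgroup.mul_mem _ ht hy))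
      rw [mul_inv_rev, inv_eq_of_mul_eq_one_right (F.D_sq ht), inv_eq_of_mul_eq_one_right (F.D_sq hy)] at h1
      exact h1.symm
  have heq : F.D = cj g Q ⊓ Subgroup.centralizer (F.D : Set G) :=
    Subgroup.eq_of_le_of_card_ge hle (by rw [F.card_D L hv]; omega)
  have hmem : r ∈ F.D := by
    rw [heq]
    exact ⟨hr.1, Subgroup.mem_centralizer_iff.mpr fun y hy => (hfix y hy).symm⟩
  exact hmem.1

end Fus

end CfsgSTS
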