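/-
An element exchanging `z` with a conjugate over a pure vector.
-/
import Cfsg.Agent.Lib.SymThreeAltSix.PureBase

set_option autoImplicit false

namespace CfsgSTS

open Equiv Weights CfsgLargeExtra

variable {G : Type*} [Group G] {Q : Subgroup G} {z : G}

/-- An element exchanging `z` with a conjugate `x` in `Q`. -/
structure Swp (C : Cfg Q z) (g x : G) : Prop where
  mem : x ∈ Q
  ne : x ≠ z
  hz : g * z * g⁻¹ = x
  hx : g * x * g⁻¹ = z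

namespace Swp

variable {C : Cfg Q z} {g x : G} (S : Swp C g x)
include S

theorem fus : Fus C g := ⟨S.hz.symm ▸ S.mem, S.hz.symm ▸ S.ne⟩

theorem inv : Swp C g⁻¹ x :=
  ⟨S.mem, S.ne, by rw [← S.hx]; group, by rw [← S.hz]; group⟩

theorem transport {m : G} (hm : m * z = z * m) : Swp C (m * g * m⁻¹) (m * x * m⁻¹) := by
  have hz' : m⁻¹ * z * m = z := by rw [mul_assoc, ← hm, inv_mul_cancel_left]
  refine ⟨C.conj_q hm S.mem, fun e => S.ne ?_, ?_, ?_⟩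
  · calc x = m⁻¹ * (m * x * m⁻¹) * m := by group
      _ = z := by rw [e, hz']
  · calc m * g * m⁻¹ * z * (m * g * m⁻¹)⁻¹ = m * (g * (m⁻¹ * z * m) * g⁻¹) * m⁻¹ := by group
      _ = _ := by rw [hz', S.hz]
  · calc m * g * m⁻¹ * (m * x * m⁻¹) * (m * g * m⁻¹)⁻¹ = m * (g * x * g⁻¹) * m⁻¹ := by group
      _ = _ := by rw [S.hx, hm, mul_inv_cancel_right]

variable [Finite G]

theorem cj_inv : cj g⁻¹ Q = cj g Q := C.es.cj_congr (by rw [S.inv.hz, S.hz])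

theorem conj_D {t : G} (ht : t ∈ S.fus.D) : g * t * g⁻¹ ∈ S.fus.D := by
  refine Subgroup.mem_inf.mpr ⟨?_, conj_mem_cj ht.1⟩
  have h2 : g * g * z = z * (g * g) := by
    rw [← mul_inv_eq_iff_eq_mul]
    calc g * g * z * (g * g)⁻¹ = g * (g * z * g⁻¹) * g⁻¹ := by group
      _ = z := by rw [S.hz, S.hx]
  have h := C.conj_q h2 (mem_cj.mp ht.2)
  rwa [show g * g * (g⁻¹ * t * g) * (g * g)⁻¹ = g * t * g⁻¹ by group] at h

theorem inv_D {t : G} : t ∈ S.inv.fus.D ↔ t ∈ S.fus.D := by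
  rw [Fus.mem_D, Fus.mem_D, S.cj_inv]

theorem conj_D' {t : G} (ht : t ∈ S.fus.D) : g⁻¹ * t * g ∈ S.fus.D := by
  have := S.inv_D.mp (S.inv.conj_D (S.inv_D.mpr ht))
  rwa [inv_inv] at this

theorem x_D : x ∈ S.fus.D := S.hz ▸ S.fus.x_D

variable (L : Lab C) (hv : C.v x = L.px 4 5)
include hv

omit [Finite G] in
theorem hv' : C.v (g * z * g⁻¹) = L.px 4 5 := by rw [S.hz, hv]

theorem x_E : x ∈ L.E := L.E_of_v S.mem hv

/-- Lifting a pair to a conjugate of `x`. -/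
theorem exists_conj {h : Perm (Fin 6)} (hh : Perm.sign h = 1) {y : G} (hy : y ∈ Q)
    (hyv : C.v y = L.px (h 4) (h 5)) : ∃ m, m * z = z * m ∧ C.π m = (1, h) ∧ m * x * m⁻¹ = y := by
  obtain ⟨h1, h2⟩ := C.lift_spec (psi_even hh)
  set m := C.lift (1, h)
  have hm : C.v (m * x * m⁻¹) = C.v y := by rw [← C.act_v h1 S.mem, hv, L.act_even h1 hh h2, hyv]
  have S' := S.transport h1
  rcases (C.v_eq_iff S'.mem hy).mp hm with e | e
  · exact ⟨m, h1, h2, e.symm⟩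
  · have hne : m * x * m⁻¹ ≠ 1 := S'.hz ▸ S'.fus.ne_one
    obtain ⟨q, hq, hqz, hqx⟩ := C.es.swap S'.mem S'.ne hne
    refine ⟨q * m, cz_mul (C.cz hq) h1, by rw [C.map_q_mul h1 hq, h2], ?_⟩
    rw [e, show q * m * x * (q * m)⁻¹ = q * (m * x * m⁻¹) * q⁻¹ by group, hqx]

/-- An element of `C(z)` moving `x` within `E` normalises `E`. -/
theorem norm_E {m : G} (hm : m * z = z * m) (hmx : m * x * m⁻¹ ∈ L.E) {e : G} (he : e ∈ L.E) :
    m * e * m⁻¹ ∈ L.E := by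
  refine L.E_conj hm (L.act_stab hm (i := 4) (j := 5) (by decide) ?_) he
  rw [← hv, C.act_v hm S.mem]; exact hmx.2

theorem D_two {a b : G} (ha : a ∈ S.fus.D) (hb : b ∈ S.fus.D) (ha' : a ∉ L.E) (hb' : b ∉ L.E) : a * b ∈ L.E := by
  have key : ∀ y ∈ S.fus.D, y ∉ L.E → ∃ t ∈ L.Wsub, C.v y = t + C.aw cd (L.px 4 5) := by
    intro y hy hy'
    obtain ⟨i, j, c, -, hc, e⟩ := S.fus.exact_D L (S.hv' L hv) hy
    rcases hc with rfl | rfl
    · rw [map_zero, add_zero] at e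
      exact absurd (L.E_of_v hy.1 e) hy'
    · exact ⟨_, L.mem i j, e⟩
  obtain ⟨t, ht, e⟩ := key a ha ha'
  obtain ⟨t', ht', e'⟩ := key b hb hb'
  refine ⟨mul_mem ha.1 hb.1, ?_⟩
  rw [C.v_mul ha.1 hb.1, e, e',
    show t + C.aw cd (L.px 4 5) + (t' + C.aw cd (L.px 4 5)) = t + t' + (C.aw cd (L.px 4 5) + C.aw cd (L.px 4 5)) by abel,
    L.two, add_zero]
  exact add_mem ht ht'

/-- The swap preserves `E ∩ D`. -/
theorem swap_E {f : G} (hf : f ∈ L.E) (hfD : f ∈ S.fus.D) : g * f * g⁻¹ ∈ L.E := by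
  have hv' := S.hv' L hv
  obtain ⟨h1, h2⟩ := C.lift_spec (psi_even pa_sign)
  obtain ⟨n, hn, hnπ, hnx⟩ := S.fus.exists_fix h1 (by
    rw [hv', L.act_even h1 pa_sign h2, show pa 4 = 4 by decide, show pa 5 = 5 by decide])
  rw [h2] at hnπ
  rw [S.hz] at hnx
  have hPn : ∀ y, g * y * g⁻¹ ∈ L.E → g * (n * y * n⁻¹) * g⁻¹ ∈ L.E := by
    intro y hy
    have e1 : g * n * g⁻¹ * z = z * (g * n * g⁻¹) := by
      rw [← mul_inv_eq_iff_eq_mul]
      calc g * n * g⁻¹ * z * (g * n * g⁻¹)⁻¹ = g * (n * (g⁻¹ * z * g) * n⁻¹) * g⁻¹ := by group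
        _ = z := by rw [show g⁻¹ * z * g = x by rw [← S.inv.hz, inv_inv], hnx, S.hx]
    have e2 : g * n * g⁻¹ * x * (g * n * g⁻¹)⁻¹ = x := by
      calc g * n * g⁻¹ * x * (g * n * g⁻¹)⁻¹ = g * (n * (g⁻¹ * x * g) * n⁻¹) * g⁻¹ := by group
        _ = x := by
          rw [show g⁻¹ * x * g = z by rw [← S.inv.hx, inv_inv], hn, mul_inv_cancel_right, S.hz]
    have := S.norm_E L hv e1 (by rw [e2]; exact S.x_E L hv) hy
    rwa [show g * n * g⁻¹ * (g * y * g⁻¹) * (g * n * g⁻¹)⁻¹ = g * (n * y * n⁻¹) * g⁻¹ by group] at this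
  have hPz : g * z * g⁻¹ ∈ L.E := by rw [S.hz]; exact S.x_E L hv
  have hPx : g * x * g⁻¹ ∈ L.E := by
    rw [S.hx]; exact ⟨C.es.mem, by rw [C.v_z]; exact zero_mem _⟩
  -- the subgroup of vectors whose lifts stay in `E`
  let X : AddSubgroup C.V :=
    { carrier := {t | ∃ y ∈ S.fus.D, C.v y = t ∧ g * y * g⁻¹ ∈ L.E}
      zero_mem' := ⟨1, one_mem _, C.v_one, by rw [mul_one, mul_inv_cancel]; exact one_mem _⟩
      add_mem' := by
        rintro _ _ ⟨y, hy, rfl, hP⟩ ⟨y', hy', rfl, hP'⟩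
        refine ⟨y * y', Subgroup.mul_mem _ hy hy', C.v_mul hy.1 hy'.1, ?_⟩
        rw [show g * (y * y') * g⁻¹ = g * y * g⁻¹ * (g * y' * g⁻¹) by group]
        exact mul_mem hP hP'
      neg_mem' := by
        rintro _ ⟨y, hy, rfl, hP⟩
        exact ⟨y, hy, (neg_eq_of_add_eq_zero_left (C.v_two _)).symm, hP⟩ }
  have lifts : ∀ {t : C.V}, t ∈ X → ∀ y ∈ Q, C.v y = t → g * y * g⁻¹ ∈ L.E := by
    rintro _ ⟨y', hy', rfl, hP⟩ y hy e
    rcases (C.v_eq_iff hy'.1 hy).mp e.symm with h | h <;> rw [h]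
    · exact hP
    · rw [show g * (y' * z) * g⁻¹ = g * y' * g⁻¹ * (g * z * g⁻¹) by group]
      exact mul_mem hP hPz
  obtain ⟨f1, hf1, hf1v⟩ := C.v_surj (L.px 0 1)
  have hf1D := S.fus.Dv_mem (S.fus.flat_Dv L hv' (i := 0) (j := 1) (by decide)) hf1 hf1v
  set f2 := n * f1 * n⁻¹ with hf2
  have hf2Q : f2 ∈ Q := C.conj_q hn hf1
  have hf2v : C.v f2 = L.px 1 2 := by
    rw [hf2, ← C.act_v hn hf1, hf1v, L.act_even hn pa_sign hnπ]; rfl
  have hf2D := S.fus.Dv_mem (S.fus.flat_Dv L hv' (i := 1) (j := 2) (by decide)) hf2Q hf2v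
  have h12v : C.v (f1 * f2) = L.px 0 2 := by rw [C.v_mul hf1 hf2Q, hf1v, hf2v, ← L.tri]
  have h12D := Subgroup.mul_mem _ hf1D hf2D
  have hP1 : g * f1 * g⁻¹ ∈ L.E := by
    by_contra hno
    have hno2 : g * f2 * g⁻¹ ∉ L.E := fun h => hno (by
      have h' := hPn _ (hPn _ h)
      have hv3 : C.v (n * (n * f2 * n⁻¹) * n⁻¹) = L.px 0 1 := by
        rw [← C.act_v hn (C.conj_q hn hf2Q), ← C.act_v hn hf2Q, hf2v, L.act_even hn pa_sign hnπ,
          L.act_even hn pa_sign hnπ]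
        rfl
      refine lifts (t := L.px 0 1) ⟨_, ?_, hv3, h'⟩ f1 hf1 hf1v
      exact S.fus.Dv_mem (S.fus.flat_Dv L hv' (i := 0) (j := 1) (by decide)) (C.conj_q hn (C.conj_q hn hf2Q)) hv3)
    have hP12 := S.D_two L hv (S.conj_D hf1D) (S.conj_D hf2D) hno hno2
    rw [show g * f1 * g⁻¹ * (g * f2 * g⁻¹) = g * (f1 * f2) * g⁻¹ by group] at hP12
    have h' := hPn _ hP12
    have hv3 : C.v (n * (f1 * f2) * n⁻¹) = L.px 0 1 := by
      rw [← C.act_v hn h12D.1, h12v, L.act_even hn pa_sign hnπ,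
        show pa 0 = 1 by decide, show pa 2 = 0 by decide, L.symm]
    exact hno (lifts (t := L.px 0 1)
      ⟨_, S.fus.Dv_mem (S.fus.flat_Dv L hv' (i := 0) (j := 1) (by decide)) (C.conj_q hn h12D.1) hv3, hv3, h'⟩ f1 hf1 hf1v)
  have h01 : L.px 0 1 ∈ X := ⟨f1, hf1D, hf1v, hP1⟩
  have h02 : L.px 0 2 ∈ X := ⟨_, h12D, h12v, by
    rw [show g * (f1 * f2) * g⁻¹ = g * f1 * g⁻¹ * (g * f2 * g⁻¹) by group]
    exact mul_mem hP1 (hPn _ hP1)⟩
  obtain ⟨i, j, b, hflat, hb, e⟩ := S.fus.exact_D L hv' hfD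
  obtain ⟨k, l, hkl⟩ := hf.2
  have hbW : b ∈ L.Wsub := by
    rcases hb with rfl | rfl
    · exact zero_mem _
    · exact L.mem _ _
  have hb0 : b = 0 := ((L.dec_eq (a := L.px k l) (b := 0) (a' := L.px i j) (b' := b) (L.mem _ _) (L.mem _ _)
    (zero_mem _) hbW (by rw [map_zero, add_zero, ← hkl, e])).2).symm
  rw [hb0, map_zero, add_zero] at e
  exact lifts (L.flat_mem X ⟨x, S.x_D, hv, hPx⟩ h01 h02 hflat) f hf.1 e

theorem swap_E' {f : G} (hf : f ∈ L.E) (hfD : f ∈ S.fus.D) : g⁻¹ * f * g ∈ L.E := by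
  have := S.inv.swap_E L hv hf (S.inv_D.mpr hfD)
  rwa [inv_inv] at this

omit [Finite G] in
theorem img_cz {e : G} (he : e * x = x * e) : g * e * g⁻¹ * z = z * (g * e * g⁻¹) := by
  rw [← S.hx]
  calc g * e * g⁻¹ * (g * x * g⁻¹) = g * (e * x) * g⁻¹ := by group
    _ = g * (x * e) * g⁻¹ := by rw [he]
    _ = _ := by group

theorem img_cz' {e : G} (he : e ∈ L.E) : g * e * g⁻¹ * z = z * (g * e * g⁻¹) :=
  S.img_cz L hv (L.E_comm he (S.x_E L hv))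

theorem img_R {e : G} (he : e ∈ L.E) : g * e * g⁻¹ ∈ S.fus.R :=
  ⟨conj_mem_cj he.1, Subgroup.mem_centralizer_singleton_iff.mpr (S.img_cz' L hv he)⟩

/-- The image of `E` fixes the common part. -/
theorem img_fix {e : G} (he : e ∈ L.E) {i j : Fin 6} (h : Flat i j) :
    C.act (g * e * g⁻¹) (L.px i j) = L.px i j := by
  obtain ⟨f, hf, hfv⟩ := C.v_surj (L.px i j)
  have hfD := S.fus.Dv_mem (S.fus.flat_Dv L (S.hv' L hv) h) hf hfv
  have hfE := L.E_of_v hf hfv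
  have hc : g * e * g⁻¹ * f * (g * e * g⁻¹)⁻¹ = f := by
    calc g * e * g⁻¹ * f * (g * e * g⁻¹)⁻¹ = g * (e * (g⁻¹ * f * g) * e⁻¹) * g⁻¹ := by group
      _ = g * (g⁻¹ * f * g) * g⁻¹ := by rw [L.E_comm he (S.swap_E' L hv hfE hfD), mul_inv_cancel_right]
      _ = f := by group
  rw [← hfv, C.act_v (S.img_cz' L hv he) hf, hc]

theorem img_snd {e : G} (he : e ∈ L.E) :
    (C.π (g * e * g⁻¹)).2 = 1 ∨ (C.π (g * e * g⁻¹)).2 = swap 4 5 := by
  have hst := L.act_stab (S.img_cz' L hv he) (i := 4) (j := 5) (by decide)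
    (by rw [S.img_fix L hv he (by decide)]; exact L.mem _ _)
  have h : ∀ i j, Flat i j → i ≠ j → ((C.π (g * e * g⁻¹)).2 i = i ∧ (C.π (g * e * g⁻¹)).2 j = j ∨
      (C.π (g * e * g⁻¹)).2 i = j ∧ (C.π (g * e * g⁻¹)).2 j = i) := fun i j hf hne => by
    have := S.img_fix L hv he hf
    rw [hst] at this
    exact L.eq_iff (fun e => hne ((C.π _).2.injective e)) this
  have key : ∀ r : Perm (Fin 6), ((r 0 = 0 ∧ r 1 = 1 ∨ r 0 = 1 ∧ r 1 = 0) ∧ (r 0 = 0 ∧ r 2 = 2 ∨ r 0 = 2 ∧ r 2 = 0) ∧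
      (r 2 = 2 ∧ r 3 = 3 ∨ r 2 = 3 ∧ r 3 = 2) ∧ (r 4 = 4 ∧ r 5 = 5 ∨ r 4 = 5 ∧ r 5 = 4)) →
      (r = 1 ∨ r = swap 4 5) := by decide +kernel
  exact key _ ⟨h 0 1 (by decide) (by decide), h 0 2 (by decide) (by decide), h 2 3 (by decide) (by decide),
    h 4 5 (by decide) (by decide)⟩

theorem img_not_Q {e : G} (he : e ∈ L.E) (heD : e ∉ S.fus.D) : g * e * g⁻¹ ∉ Q := by
  intro h
  have := S.conj_D' (Subgroup.mem_inf.mpr ⟨h, conj_mem_cj he.1⟩ : g * e * g⁻¹ ∈ S.fus.D)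
  exact heD (by rwa [show g⁻¹ * (g * e * g⁻¹) * g = e by group] at this)

theorem img_fst {e : G} (he : e ∈ L.E) (heD : e ∉ S.fus.D) :
    (C.π (g * e * g⁻¹)).1 ≠ 1 := by
  intro h1
  have hm := S.img_cz' L hv he
  refine S.img_not_Q L hv he heD (S.fus.faith L (S.hv' L hv) (S.img_R L hv he)
    (S.img_fix L hv he (by decide)) (S.img_fix L hv he (by decide)) ?_)
  rw [L.act_cd_comm hm h1, S.img_fix L hv he (by decide)]

end Swp

end CfsgSTS
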