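/-
No conjugate of `z` in `Q` lies over a pure vector.
-/
import Cfsg.Agent.Lib.SymThreeAltSix.Swap

set_option autoImplicit false

namespace CfsgSTS

open Equiv Weights CfsgLargeExtra

variable {G : Type*} [Group G] [Finite G] {Q : Subgroup G} {z : G}

namespace Swp

variable {C : Cfg Q z} {g x : G} (S : Swp C g x) (L : Lab C) (hv : C.v x = L.px 4 5)
include S hv

theorem E_two {a b : G} (ha : a ∈ L.E) (hb : b ∈ L.E) (ha' : a ∉ S.fus.D) (hb' : b ∉ S.fus.D) :
    a * b ∈ S.fus.D := by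
  have hv' := S.hv' L hv
  have key : ∀ y ∈ L.E, y ∉ S.fus.D →
      ∃ i j, (i = 0 ∨ i = 1 ∨ i = 2 ∨ i = 3) ∧ (j = 4 ∨ j = 5) ∧ C.v y = L.px i j := by
    intro y hy hy'
    obtain ⟨i, j, e⟩ := hy.2
    have hnf : ¬ Flat i j := fun h => hy' (S.fus.Dv_mem (S.fus.flat_Dv L hv' h) hy.1 e)
    rcases not_flat_cases i j hnf with ⟨hi, hj⟩ | ⟨hj, hi⟩
    · exact ⟨i, j, hi, hj, e⟩
    · exact ⟨j, i, hj, hi, by rw [L.symm, e]⟩
  obtain ⟨i, j, hi, hj, e⟩ := key a ha ha'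
  obtain ⟨k, l, hk, hl, e'⟩ := key b hb hb'
  refine S.fus.Dv_mem (t := L.px i k + L.px j l) (add_mem (S.fus.flat_Dv L hv' ?_) (S.fus.flat_Dv L hv' ?_))
    (mul_mem ha.1 hb.1) ?_
  · rcases hi with rfl | rfl | rfl | rfl <;> rcases hk with rfl | rfl | rfl | rfl <;> decide
  · rcases hj with rfl | rfl <;> rcases hl with rfl | rfl <;> decide
  · rw [C.v_mul ha.1 hb.1, e, e', L.tri i k j, L.tri j k l, L.symm j k, add_assoc]

/-- The image of `E` acts trivially on the six points. -/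
theorem img_one {e : G} (he : e ∈ L.E) : (C.π (g * e * g⁻¹)).2 = 1 := by
  have hv' := S.hv' L hv
  by_cases heD : e ∈ S.fus.D
  · rw [C.map_q (S.conj_D heD).1]; rfl
  rcases S.img_snd L hv he with h | h45
  · exact h
  exfalso
  have hhs : Perm.sign (swap (0 : Fin 6) 4 * swap 1 5) = 1 := by decide
  obtain ⟨y, hy, hyv⟩ := C.v_surj (L.px 0 1)
  have hyE := L.E_of_v hy hyv
  have hyD := S.fus.Dv_mem (S.fus.flat_Dv L hv' (i := 0) (j := 1) (by decide)) hy hyv
  obtain ⟨m0, hm0, hπ0, hxy⟩ := S.exists_conj L hv hhs hy (by rw [hyv]; rfl)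
  set y0 := g⁻¹ * y * g with hy0
  have hy0E : y0 ∈ L.E := S.swap_E' L hv hyE hyD
  have hy0D : y0 ∈ S.fus.D := S.conj_D' hyD
  obtain ⟨i, j, hij⟩ := hy0E.2
  have hflat : Flat i j := by
    by_contra hnf
    exact S.fus.not_D L hv' hij hnf hy0D
  have hy0ne : C.v y0 ≠ 0 ∧ C.v y0 ≠ L.px 4 5 := by
    have hgy : y = g * y0 * g⁻¹ := by rw [hy0]; group
    constructor <;> intro h
    · rcases (C.v_eq_zero hy0E.1).mp h with e | e <;> rw [e] at hgy
      · rw [mul_one, mul_inv_cancel] at hgy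
        exact L.px_ne (show (0 : Fin 6) ≠ 1 by decide) (by rw [← hyv, hgy, C.v_one])
      · rw [S.hz] at hgy
        rcases L.eq_iff (show (0 : Fin 6) ≠ 1 by decide) (by rw [← hyv, hgy, hv] : L.px 0 1 = L.px 4 5) with h | h <;>
          exact absurd h.1 (by decide)
    · rcases (C.v_eq_iff S.mem hy0E.1).mp (by rw [hv, h]) with e | e <;> rw [e] at hgy
      · rw [S.hx] at hgy
        exact L.px_ne (show (0 : Fin 6) ≠ 1 by decide) (by rw [← hyv, hgy, C.v_z])
      · rw [show g * (x * z) * g⁻¹ = g * x * g⁻¹ * (g * z * g⁻¹) by group, S.hx, S.hz] at hgy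
        rcases L.eq_iff (show (0 : Fin 6) ≠ 1 by decide)
          (by rw [← hyv, hgy, C.v_mul C.es.mem S.mem, C.v_z, zero_add, hv] : L.px 0 1 = L.px 4 5) with h | h <;>
          exact absurd h.1 (by decide)
  obtain ⟨hi, hj, hne⟩ : (i = 0 ∨ i = 1 ∨ i = 2 ∨ i = 3) ∧ (j = 0 ∨ j = 1 ∨ j = 2 ∨ j = 3) ∧ i ≠ j := by
    rcases flat_cases i j hflat with ⟨hi, hj⟩ | ⟨hi, hj⟩
    · exact ⟨hi, hj, fun e => hy0ne.1 (by rw [hij, e, L.self])⟩
    · exfalso
      rcases hi with rfl | rfl <;> rcases hj with rfl | rfl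
      · exact hy0ne.1 (by rw [hij, L.self])
      · exact hy0ne.2 hij
      · exact hy0ne.2 (by rw [hij, L.symm])
      · exact hy0ne.1 (by rw [hij, L.self])
  obtain ⟨k, hk, hki, hkj⟩ : ∃ k : Fin 6, (k = 0 ∨ k = 1 ∨ k = 2 ∨ k = 3) ∧ k ≠ i ∧ k ≠ j := by
    rcases hi with rfl | rfl | rfl | rfl <;> rcases hj with rfl | rfl | rfl | rfl <;> decide
  obtain ⟨h', hh', h'4, h'5⟩ := exists_map_two hne
  obtain ⟨m', hm', hπ', hxy0⟩ := S.exists_conj L hv hh' hy0E.1 (by rw [h'4, h'5, hij])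
  obtain ⟨f', hf', hf'v⟩ := C.v_surj (L.px k 4)
  have hf'E := L.E_of_v hf' hf'v
  have hf'D : f' ∉ S.fus.D := S.fus.not_D L hv' hf'v (by
    rcases hk with rfl | rfl | rfl | rfl <;> decide)
  set f := m'⁻¹ * f' * m' with hf
  have hf_v : C.v f = L.px (h'⁻¹ k) (h'⁻¹ 4) := by
    have hπi : C.π m'⁻¹ = (1, h'⁻¹) := by rw [C.map_inv hm', hπ']; exact Prod.ext (by simp) rfl
    have e : f = m'⁻¹ * f' * m'⁻¹⁻¹ := by rw [hf, inv_inv]
    rw [e, ← C.act_v (cz_inv hm') hf', hf'v,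
      L.act_even (cz_inv hm') (by rw [_root_.map_inv, hh', inv_one]) hπi]
  have hfE : f ∈ L.E := L.E_of_v (C.conj_q' hm' hf') hf_v
  have hfflat : Flat (h'⁻¹ k) (h'⁻¹ 4) := by
    have e1 : ∀ a : Fin 6, h'⁻¹ a = 4 → a = i := fun a e => by rw [← h'4, ← e]; simp
    have e2 : ∀ a : Fin 6, h'⁻¹ a = 5 → a = j := fun a e => by rw [← h'5, ← e]; simp
    have h4i : (4 : Fin 6) ≠ i := by rcases hi with rfl | rfl | rfl | rfl <;> decide
    have h4j : (4 : Fin 6) ≠ j := by rcases hj with rfl | rfl | rfl | rfl <;> decide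
    exact ⟨fun h => h.elim (fun h => absurd (e1 _ h) hki) (fun h => absurd (e2 _ h) hkj),
      fun h => h.elim (fun h => absurd (e1 _ h) h4i) (fun h => absurd (e2 _ h) h4j)⟩
  have hfD := S.fus.Dv_mem (S.fus.flat_Dv L hv' hfflat) hfE.1 hf_v
  set h0 := m' * g * m'⁻¹ with hh0
  set f'' := h0⁻¹ * f' * h0 with hf''
  have hf''E : f'' ∈ L.E := by
    have := L.E_conj hm' (L.act_even hm' hh' hπ') (S.swap_E' L hv hfE hfD)
    rwa [show m' * (g⁻¹ * f * g) * m'⁻¹ = f'' by rw [hf'', hh0, hf]; group] at this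
  have S0 : Swp C h0 y0 := hxy0 ▸ S.transport hm'
  set g1 := m0 * g * m0⁻¹ with hg1
  have S1 : Swp C g1 y := hxy ▸ S.transport hm0
  set m := g1⁻¹ * g * h0 with hm
  have hmz : m * z = z * m := by
    rw [← mul_inv_eq_iff_eq_mul]
    calc m * z * m⁻¹ = g1⁻¹ * (g * (h0 * z * h0⁻¹) * g⁻¹) * g1 := by rw [hm]; group
      _ = g1⁻¹ * y * g1 := by rw [S0.hz, hy0]; group
      _ = z := by rw [← S1.hz]; group
  have hπ0i : C.π m0⁻¹ = (1, (swap (0 : Fin 6) 4 * swap 1 5)⁻¹) := by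
    rw [C.map_inv hm0, hπ0]; exact Prod.ext (by simp) rfl
  have hhsi : Perm.sign (swap (0 : Fin 6) 4 * swap 1 5)⁻¹ = 1 := by decide
  have hmy0 : m * y0 * m⁻¹ ∈ L.E := by
    have e : m * y0 * m⁻¹ = g1⁻¹ * x * g1 := by
      calc m * y0 * m⁻¹ = g1⁻¹ * (g * (h0 * y0 * h0⁻¹) * g⁻¹) * g1 := by rw [hm]; group
        _ = _ := by rw [S0.hx, S.hz]
    set f0 := m0⁻¹ * x * m0 with hf0
    have hf0v : C.v f0 = L.px 0 1 := by
      rw [show f0 = m0⁻¹ * x * m0⁻¹⁻¹ by rw [hf0, inv_inv], ← C.act_v (cz_inv hm0) S.mem, hv,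
        L.act_even (cz_inv hm0) hhsi hπ0i]
      rfl
    have hf0Q : f0 ∈ Q := C.conj_q' hm0 S.mem
    have := L.E_conj hm0 (L.act_even hm0 hhs hπ0) (S.swap_E' L hv (L.E_of_v hf0Q hf0v)
      (S.fus.Dv_mem (S.fus.flat_Dv L hv' (i := 0) (j := 1) (by decide)) hf0Q hf0v))
    rw [e, hg1]
    rwa [show m0 * (g⁻¹ * f0 * g) * m0⁻¹ = (m0 * g * m0⁻¹)⁻¹ * x * (m0 * g * m0⁻¹) by rw [hf0]; group] at this
  have hst := L.act_stab hmz hne (by rw [← hij, C.act_v hmz hy0E.1]; exact hmy0.2)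
  set e'' := m0⁻¹ * (m * f'' * m⁻¹) * m0 with he''
  have he''E : e'' ∈ L.E := by
    have := L.E_conj (cz_inv hm0) (L.act_even (cz_inv hm0) hhsi hπ0i) (L.E_conj hmz hst hf''E)
    rwa [inv_inv] at this
  have heq : g * f' * g⁻¹ = m0 * (g * e'' * g⁻¹) * m0⁻¹ := by
    rw [he'', hm, hf'', hh0, hg1]; group
  have h1 : (C.π (g * f' * g⁻¹)).2 = swap 4 5 := by
    have hD := S.conj_D (S.E_two L hv he hf'E heD hf'D)
    rw [show g * f' * g⁻¹ = g * e * g⁻¹ * (g * (e * f') * g⁻¹) by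
      rw [show g * e * g⁻¹ * (g * (e * f') * g⁻¹) = g * (e * e * f') * g⁻¹ by group, L.E_sq he, one_mul],
      C.map_mul_q (S.img_cz' L hv he) hD.1, h45]
  rw [heq, C.map_conj hm0 (S.img_cz' L hv he''E), hπ0] at h1
  rcases S.img_snd L hv he''E with h2 | h2 <;>
  · simp only [Prod.snd_mul, Prod.snd_inv, h2] at h1
    exact absurd h1 (by decide)

theorem act_img {e : G} (he : e ∈ L.E) {t : C.V} (ht : t ∈ L.Wsub) : C.act (g * e * g⁻¹) t = t := by
  obtain ⟨i, j, rfl⟩ := ht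
  rw [L.act_stab (S.img_cz' L hv he) (i := 4) (j := 5) (by decide)
    (by rw [S.img_fix L hv he (by decide)]; exact L.mem _ _), S.img_one L hv he]
  rfl

/-- The image of `E` centralizes `E`. -/
theorem img_comm {e : G} (he : e ∈ L.E) {e' : G} (he' : e' ∈ L.E) :
    g * e * g⁻¹ * e' = e' * (g * e * g⁻¹) := by
  set V := g * e * g⁻¹ with hV
  have hVz := S.img_cz' L hv he
  have h1 := S.act_img L hv he he'.2
  rw [C.act_v hVz he'.1] at h1
  rcases (C.v_eq_iff (C.conj_q hVz he'.1) he'.1).mp h1 with h | h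
  · exact mul_inv_eq_iff_eq_mul.mp h.symm
  exfalso
  set e'' := g⁻¹ * e' * g with he''
  have he''z : e'' * z = z * e'' := by
    have := S.inv.img_cz' L hv he'
    rwa [inv_inv] at this
  have h2 : C.act e'' (C.v e) = C.v e := by
    have := S.inv.act_img L hv he' he.2
    rwa [inv_inv] at this
  rw [C.act_v he''z he.1] at h2
  have h3 : V * e' * V⁻¹ = e' * z := by
    calc V * e' * V⁻¹ = V * e' * V⁻¹ * z * z := by rw [mul_assoc _ z z, C.zz, mul_one]
      _ = e' * z := by rw [← h]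
  rcases (C.v_eq_iff (C.conj_q he''z he.1) he.1).mp h2 with h4 | h4
  · have h5 : e' * V * e'⁻¹ = V := by
      rw [hV]
      conv_rhs => rw [h4, he'']
      group
    rw [← mul_inv_eq_iff_eq_mul.mp h5, mul_inv_cancel_right] at h3
    exact C.es.ne (left_eq_mul.mp h3)
  · have h5 : e' * V * e'⁻¹ = V * x := by
      have e1 : e'' * e * e''⁻¹ = e * z := by
        calc e'' * e * e''⁻¹ = e'' * e * e''⁻¹ * z * z := by rw [mul_assoc _ z z, C.zz, mul_one]
          _ = e * z := by rw [← h4]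
      calc e' * V * e'⁻¹ = g * (e'' * e * e''⁻¹) * g⁻¹ := by rw [hV, he'']; group
        _ = g * e * g⁻¹ * (g * z * g⁻¹) := by rw [e1]; group
        _ = V * x := by rw [S.hz]
    have h6 : e' * V * e'⁻¹ = z * V := by
      have e1 := mul_inv_eq_iff_eq_mul.mp h3
      calc e' * V * e'⁻¹ = z * (e' * z * V) * e'⁻¹ := by
            rw [C.cz he'.1, ← mul_assoc z (z * e') V, ← mul_assoc z z e', C.zz, one_mul]
        _ = z * (V * e') * e'⁻¹ := by rw [e1]
        _ = z * V := by group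
    rw [h6, ← hVz] at h5
    exact S.ne (mul_left_cancel h5).symm

/-- No swap exists. -/
theorem pure_false : False := by
  have hv' := S.hv' L hv
  obtain ⟨h, hh, hh4, hh5⟩ := exists_map_two (show (0 : Fin 6) ≠ 4 by decide)
  obtain ⟨e, he, hev⟩ := C.v_surj (L.px 0 4)
  have heE := L.E_of_v he hev
  have heD : e ∉ S.fus.D := S.fus.not_D L hv' hev (by decide)
  obtain ⟨m, hm, -, hxe⟩ := S.exists_conj L hv hh he (by rw [hh4, hh5, hev])
  set V := g * e * g⁻¹ with hV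
  set k := g * (m * g) with hk
  have hkV : k * z * k⁻¹ = V := by
    calc k * z * k⁻¹ = g * (m * (g * z * g⁻¹) * m⁻¹) * g⁻¹ := by rw [hk]; group
      _ = V := by rw [S.hz, hxe]
  have hVz : V * z = z * V := S.img_cz' L hv heE
  have hVV : V * V = 1 := by rw [hV, show g * e * g⁻¹ * (g * e * g⁻¹) = g * (e * e) * g⁻¹ by group, L.E_sq heE]; group
  have hVi : V⁻¹ = V := inv_eq_of_mul_eq_one_right hVV
  have hπ2 : (C.π V).2 = 1 := S.img_one L hv heE
  have hπ1 : (C.π V).1 ≠ 1 := S.img_fst L hv heE heD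
  have hππ : C.π V * C.π V = 1 := by rw [← C.map_mul _ _ hVz hVz, hVV, C.map_one]
  have hVW : ∀ t ∈ L.Wsub, C.act V t = t := fun t ht => S.act_img L hv heE ht
  have hVd : ∀ t ∈ L.Wsub, C.act V (C.aw cd t) = t + C.aw cd t := by
    intro t ht
    have key : ∀ p : Perm (Fin 3), p * p = 1 ∧ p ≠ 1 → p * finRotate 3 * p⁻¹ = finRotate 3 * finRotate 3 := by decide
    have e1 : C.π V * cd * (C.π V)⁻¹ = cd * cd :=
      Prod.ext (key _ ⟨congrArg Prod.fst hππ, hπ1⟩) (by simp [cd])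
    rw [C.act_aw hVz psi_cd, e1, hVW t ht, C.aw_mul psi_cd psi_cd]
    refine L.eq_of_add ?_
    rw [← L.ten t, P_apply]; abel
  have hVcE : ∀ u ∈ L.E, V * u = u * V := fun u hu => S.img_comm L hv heE hu
  have hfixE : ∀ {u : G}, u ∈ Q → C.act V (C.v u) = C.v u → u ∈ L.E := by
    intro u hu hfix
    obtain ⟨a, b, ha, hb, e1⟩ := L.span (C.v u)
    refine ⟨hu, ?_⟩
    rw [e1, map_add, hVW a ha, hVd b hb, ← add_assoc] at hfix
    have h0 : b = 0 := add_eq_left.mp (add_right_cancel hfix)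
    rw [e1, h0, map_zero, add_zero]; exact ha
  set QV := cj k Q with hQV
  have hzQV : z ∉ QV := by
    intro hz
    have hVQ : V ∉ Q := S.img_not_Q L hv heE heD
    have e1 : k⁻¹ * (k * z * k⁻¹) * k⁻¹⁻¹ = z := by group
    have h := (C.conj k).es.symm_mem (g := k⁻¹) (by rw [e1]; exact hz) fun _ =>
      (C.conj k).es.exists_pair (by rw [(C.conj k).card]; norm_num) (by rw [e1]; exact hz) (by rw [e1]; exact C.zz)
    rw [cj_cj, inv_mul_cancel, hkV] at h
    exact hVQ (by simpa [mem_cj] using h)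
  have hxQV : x ∈ QV := by
    have F' := S.fus.conj_m hm
    rw [hQV, hk, ← cj_cj, ← S.hz]
    exact conj_mem_cj F'.z_mem
  have hnor : ∀ {n : G}, n * z = z * n → n * V = V * n → ∀ u ∈ QV, n * u * n⁻¹ ∈ QV := fun {n} hn hnV u hu =>
    (C.conj k).es.nor n (by rw [hkV]; exact hnV) u hu
  -- commutators of lifts of `d W`
  have hcom : ∀ {q : G} {t : C.V}, q ∈ Q → t ∈ L.Wsub → C.v q = C.aw cd t → C.v (com V q) = t := by
    intro q t hq ht e1
    rw [C.v_com hVz hq]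
    have e2 : V⁻¹ * q * V = V * q * V⁻¹ := by rw [hVi]
    rw [e2, ← C.act_v hVz hq, e1, hVd t ht, add_assoc, L.two, add_zero]
  -- lifts of permutations centralizing `V`
  have hn : ∀ r : Perm (Fin 6), Perm.sign r = 1 → ∃ n, n * z = z * n ∧ n * V = V * n ∧ C.π n = (1, r) := by
    intro r hr
    refine Cfg.even_induction (p := fun r => ∃ n, n * z = z * n ∧ n * V = V * n ∧ C.π n = (1, r))
      ⟨1, by simp, by simp, C.map_one⟩ ?_ ?_ hr
    · rintro a b - - ⟨n, hn, hnV, hnπ⟩ ⟨n', hn', hnV', hnπ'⟩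
      exact ⟨n * n', cz_mul hn hn', (Commute.mul_left (show Commute n V from hnV) hnV').eq,
        by rw [C.map_mul _ _ hn hn', hnπ, hnπ']; exact Prod.ext (one_mul _) rfl⟩
    intro r hc
    have hr3 : r * r * r = 1 := by
      have := pow_orderOf_eq_one r
      rwa [hc.orderOf, pow_three, ← mul_assoc] at this
    obtain ⟨h1, h2⟩ := C.lift_spec (psi_even hc.sign)
    set m1 := C.lift (1, r)
    have hcz := cz_conj h1 hVz
    set u := V * (m1 * V * m1⁻¹) with hu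
    have hVu : V * u = m1 * V * m1⁻¹ := by rw [hu, ← mul_assoc, hVV, one_mul]
    have huQ : u ∈ Q := by
      refine (C.ker _ (cz_mul hVz hcz)).mp ?_
      rw [C.map_mul _ _ hVz hcz, C.map_conj h1 hVz, h2,
        show ((1, r) : W) * C.π V * ((1, r) : W)⁻¹ = C.π V from Prod.ext (by simp) (by simp [hπ2]), hππ]
    have huE : u ∈ L.E := hfixE huQ (by
      have hci : (m1 * V * m1⁻¹)⁻¹ = m1 * V * m1⁻¹ := by
        rw [show (m1 * V * m1⁻¹)⁻¹ = m1 * V⁻¹ * m1⁻¹ by group, hVi]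
      have e1 : V * u * V⁻¹ = u⁻¹ := by rw [hVu, hu, mul_inv_rev V (m1 * V * m1⁻¹), hci, hVi]
      rw [C.act_v hVz huQ, e1, C.v_inv huQ])
    obtain ⟨q, hq, hqv⟩ := C.v_surj (C.aw cd (C.v u))
    have hqc := hcom hq huE.2 hqv
    have hqV : q⁻¹ * V * q = V * com V q := by simp only [com, ← mul_assoc, mul_inv_cancel, one_mul]
    have hn : q * m1 * z = z * (q * m1) := cz_mul (C.cz hq) h1
    have hπn : C.π (q * m1) = (1, r) := by rw [C.map_q_mul h1 hq, h2]
    rcases (C.v_eq_iff (C.com_mem hVz hq) huQ).mp hqc with e1 | e1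
    · refine ⟨q * m1, hn, ?_, hπn⟩
      rw [← mul_inv_eq_iff_eq_mul, show q * m1 * V * (q * m1)⁻¹ = q * (m1 * V * m1⁻¹) * q⁻¹ by group, ← hVu, e1,
        ← hqV]
      group
    · exfalso
      set n := q * m1 with hndef
      have hnV : n * V * n⁻¹ = V * z := by
        rw [hndef, show q * m1 * V * (q * m1)⁻¹ = q * (m1 * V * m1⁻¹) * q⁻¹ by group, ← hVu, e1]
        calc q * (V * (com V q * z)) * q⁻¹ = q * (V * com V q) * (z * q⁻¹) := by simp only [mul_assoc]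
          _ = q * (q⁻¹ * V * q) * (q⁻¹ * z) := by rw [← hqV, C.cz (inv_mem hq)]
          _ = V * z := by group
      have hnz' : n * z * n⁻¹ = z := by rw [hn, mul_inv_cancel_right]
      have hstep : ∀ t, n * (t * z) * n⁻¹ = n * t * n⁻¹ * z := fun t => by
        calc n * (t * z) * n⁻¹ = n * t * n⁻¹ * (n * z * n⁻¹) := by group
          _ = _ := by rw [hnz']
      set n3 := n * n * n with hn3
      have hn3V : n3 * V * n3⁻¹ = V * z := by
        calc n3 * V * n3⁻¹ = n * (n * (n * V * n⁻¹) * n⁻¹) * n⁻¹ := by rw [hn3]; group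
          _ = V * z := by rw [hnV, hstep, hnV, mul_assoc V z z, C.zz, mul_one, hnV]
      have hn3z := cz_mul (cz_mul hn hn) hn
      have hn3Q : n3 ∈ Q := (C.ker _ hn3z).mp (by
        rw [C.map_mul _ _ (cz_mul hn hn) hn, C.map_mul _ _ hn hn, hπn]
        exact Prod.ext (by simp) hr3)
      have hn3E : n3 ∈ L.E := hfixE hn3Q (by
        have h' := mul_inv_eq_iff_eq_mul.mp hn3V
        have e2 : V * n3 * V⁻¹ = z * n3 := by
          rw [hVi, mul_assoc V, h']
          calc V * (V * z * n3) = V * V * (z * n3) := by simp only [mul_assoc]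
            _ = z * n3 := by rw [hVV, one_mul]
        rw [C.act_v hVz hn3Q, e2, C.v_mul C.es.mem hn3Q, C.v_z, zero_add])
      rw [← hVcE _ hn3E, mul_inv_cancel_right] at hn3V
      exact C.es.ne (left_eq_mul.mp hn3V)
  -- a lift of every pair in `Q_V`
  have hlift : ∀ i j, i ≠ j → ∀ c, c ∈ Q → C.v c = L.px i j → c ∈ QV ∨ c * z ∈ QV := by
    intro i j hij c hc hcv
    obtain ⟨r, hr, hr4, hr5⟩ := exists_map_two hij
    obtain ⟨n, hn, hnV, hnπ⟩ := hn r hr
    have hx' := hnor hn hnV x hxQV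
    have hx'v : C.v (n * x * n⁻¹) = C.v c := by rw [← C.act_v hn S.mem, hv, L.act_even hn hr hnπ, hr4, hr5, hcv]
    rcases (C.v_eq_iff (C.conj_q hn S.mem) hc).mp hx'v with e1 | e1
    · left; rw [e1]; exact hx'
    · right; rw [e1, mul_assoc, C.zz, mul_one]; exact hx'
  let A : Fin 6 → Fin 6 → Prop := fun i j => ∀ q ∈ Q, C.v q = C.aw cd (L.px i j) → com V q ∈ QV
  have hA : ∀ i j, (∃ q ∈ Q, C.v q = C.aw cd (L.px i j) ∧ com V q ∈ QV) → A i j := by
    rintro i j ⟨q, hq, hqv, hqc⟩ q' hq' hq'v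
    rcases (C.v_eq_iff hq hq').mp (hqv.trans hq'v.symm) with e1 | e1 <;> rw [e1]
    · exact hqc
    · have e2 : com V (q * z) = com V q := by
        have h1 : V⁻¹ * z * V = z := by rw [mul_assoc, ← hVz, inv_mul_cancel_left]
        calc com V (q * z) = (V⁻¹ * z * V)⁻¹⁻¹ * (V⁻¹ * q⁻¹ * V) * q * z := by
              simp only [com, mul_inv_rev, C.z_inv]; group
          _ = z * com V q * z := by rw [h1, inv_inv]; simp only [com, mul_assoc]
          _ = com V q := by rw [← C.cz (C.com_mem hVz hq), mul_assoc, C.zz, mul_one]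
      rw [e2]; exact hqc
  have hAr : ∀ i j r, Perm.sign r = 1 → A i j → A (r i) (r j) := by
    intro i j r hr hAij
    obtain ⟨n, hn, hnV, hnπ⟩ := hn r hr
    obtain ⟨q, hq, hqv⟩ := C.v_surj (C.aw cd (L.px i j))
    refine hA _ _ ⟨n * q * n⁻¹, C.conj_q hn hq, ?_, ?_⟩
    · rw [← C.act_v hn hq, hqv, L.act_cd_comm hn (by rw [hnπ]), L.act_even hn hr hnπ]
    · have e1 : com V (n * q * n⁻¹) = n * com V q * n⁻¹ := by
        have h2 : n⁻¹ * V * n = V := by rw [mul_assoc, ← hnV, inv_mul_cancel_left]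
        calc com V (n * q * n⁻¹) = n * ((n⁻¹ * V * n)⁻¹ * q⁻¹ * (n⁻¹ * V * n) * q) * n⁻¹ := by simp only [com]; group
          _ = n * com V q * n⁻¹ := by rw [h2]; rfl
      rw [e1]; exact hnor hn hnV _ (hAij q hq hqv)
  have hcomul : ∀ q1 q2, com V (q1 * q2) = com V q2 * (q2⁻¹ * com V q1 * q2) := fun q1 q2 => by
    simp only [com]; group
  obtain ⟨q1, hq1, hq1v⟩ := C.v_surj (C.aw cd (L.px 0 1))
  have hc1 := hcom hq1 (L.mem _ _) hq1v
  have hA45 : A 4 5 := by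
    by_contra hno
    obtain ⟨q2, hq2, hq2v⟩ := C.v_surj (C.aw cd (L.px 2 3))
    have hc2 := hcom hq2 (L.mem _ _) hq2v
    have hn1 : com V q1 ∉ QV := fun hh' => hno (by
      have := hAr 0 1 (swap 0 4 * swap 1 5) (by decide) (hA 0 1 ⟨q1, hq1, hq1v, hh'⟩)
      exact this)
    have hn2 : com V q2 ∉ QV := fun hh' => hno (by
      have := hAr 2 3 (swap 2 4 * swap 3 5) (by decide) (hA 2 3 ⟨q2, hq2, hq2v, hh'⟩)
      exact this)
    have h1 := (hlift 0 1 (by decide) _ (C.com_mem hVz hq1) hc1).resolve_left hn1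
    have h2 := (hlift 2 3 (by decide) _ (C.com_mem hVz hq2) hc2).resolve_left hn2
    have hcomm : q2 * com V q1 = com V q1 * q2 := by
      rw [← bet_eq_zero, ← C.β_v hq2 (C.com_mem hVz hq1), hc1, hq2v, C.β_symm]
      exact L.gam_disj (by decide) (by decide) (by decide) (by decide) (by decide) (by decide)
    refine hno (hA 4 5 ⟨q1 * q2, mul_mem hq1 hq2, ?_, ?_⟩)
    · rw [C.v_mul hq1 hq2, hq1v, hq2v, ← map_add, L.sum_eq]
    · rw [hcomul, mul_assoc q2⁻¹, ← hcomm, inv_mul_cancel_left]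
      have := QV.mul_mem h2 h1
      rwa [mul_assoc, ← mul_assoc z, ← C.cz (C.com_mem hVz hq1), mul_assoc (com V q1) z z, C.zz, mul_one] at this
  have hall : ∀ i j, i ≠ j → A i j := fun i j hij => by
    obtain ⟨r, hr, hr4, hr5⟩ := exists_map_two hij
    have := hAr 4 5 r hr hA45
    rwa [hr4, hr5] at this
  obtain ⟨q2, hq2, hq2v⟩ := C.v_surj (C.aw cd (L.px 0 2))
  have hA1 := hall 0 1 (by decide) q1 hq1 hq1v
  have hA2 := hall 0 2 (by decide) q2 hq2 hq2v
  have hA12 := hall 1 2 (by decide) (q1 * q2) (mul_mem hq1 hq2)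
    (by rw [C.v_mul hq1 hq2, hq1v, hq2v, ← map_add, L.symm 0 1, ← L.tri])
  have hnc : q2⁻¹ * com V q1 * q2 = com V q1 * z := by
    have hbet : bet q2⁻¹ (com V q1) = 1 := by
      rw [← C.β_v (inv_mem hq2) (C.com_mem hVz hq1), C.v_inv hq2, hc1, hq2v, C.β_symm]
      exact L.gam_inter (by decide) (by decide) (by decide)
    rcases C.conj_cases (inv_mem hq2) (C.com_mem hVz hq1) with e1 | e1
    · exact absurd (mul_inv_eq_iff_eq_mul.mp e1) (bet_eq_one.mp hbet)
    · rwa [inv_inv] at e1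
  rw [hcomul, hnc] at hA12
  exact hzQV (by simpa [← mul_assoc] using (QV.mul_mem_cancel_left (QV.mul_mem hA2 hA1)).mp (by rwa [← mul_assoc] at hA12))

end Swp

end CfsgSTS
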