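/-
A conjugate of `z` in `Q` when the module is `2 ⊗ 4`.
-/
import Cfsg.Agent.Lib.SymThreeAltSix.Pure

set_option autoImplicit false

namespace CfsgSTS

open Equiv Weights CfsgLargeExtra

variable {G : Type*} [Group G] [Finite G] {Q : Subgroup G} {z : G} {C : Cfg Q z} {g : G}

/-- The permutation `(0 2 4)(1 3 5)`. -/
def pc : Perm (Fin 6) := swap 0 2 * swap 2 4 * (swap 1 3 * swap 3 5)

theorem pc_sign : Perm.sign pc = 1 := by decide

theorem Lab.cd_cd (L : Lab C) (t : C.V) : C.aw cd (C.aw cd t) = t + C.aw cd t := by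
  refine L.eq_of_add ?_
  rw [← L.ten t, P_apply]; abel

namespace Fus

variable (F : Fus C g)
include F

theorem conj_v {m : G} (hm : m * z = z * m) :
    C.v (m * g * z * (m * g)⁻¹) = C.act m (C.v (g * z * g⁻¹)) := by
  rw [show m * g * z * (m * g)⁻¹ = m * (g * z * g⁻¹) * m⁻¹ by group, C.act_v hm F.mem]

/-- No conjugate over a pair. -/
theorem pair_false (L : Lab C) {i j : Fin 6} (hij : i ≠ j) (hv : C.v (g * z * g⁻¹) = L.px i j) : False := by
  obtain ⟨h, hh, h4, h5⟩ := exists_map_two hij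
  have hhi : Perm.sign h⁻¹ = 1 := by rw [_root_.map_inv, hh, inv_one]
  obtain ⟨h1, h2⟩ := C.lift_spec (psi_even hhi)
  set m := C.lift (1, h⁻¹)
  have F1 := F.conj_m h1
  have hv1 : C.v (m * g * z * (m * g)⁻¹) = L.px 4 5 := by
    rw [F.conj_v h1, hv, L.act_even h1 hhi h2, ← h4, ← h5]; simp
  obtain ⟨g0, h0z, h0x, -, -⟩ := F1.exists_swap
  exact Swp.pure_false (⟨F1.mem, F1.ne, h0z, h0x⟩ : Swp C g0 _) L hv1

/-- No conjugate over a line. -/
theorem line_false (L : Lab C) (hv : C.v (g * z * g⁻¹) = L.px 0 1 + C.aw cd (L.px 2 3)) : False := by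
  classical
  have h45 : L.px 2 3 + L.px 4 5 = L.px 0 1 := by
    rw [← L.sum_eq, add_left_comm, L.two, add_zero]
  have hd2 : psi (cd * cd) = 1 := by decide
  have haw : ∀ h : Perm (Fin 6), Perm.sign h = 1 → ∀ x, C.aw (cd * cd * (1, h)) x =
      C.aw cd (C.aw cd (C.aw (1, h) x)) := fun h hh x => by
    rw [C.aw_mul hd2 (psi_even hh), C.aw_mul psi_cd psi_cd]
  have hψ : ∀ h : Perm (Fin 6), Perm.sign h = 1 → psi (cd * cd * (1, h)) = 1 := fun h hh => by
    rw [_root_.map_mul, hd2, psi_even hh, one_mul]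
  obtain ⟨hc1, hc2⟩ := C.lift_spec (hψ pc pc_sign)
  have hfix : C.act (C.lift (cd * cd * (1, pc))) (C.v (g * z * g⁻¹)) = C.v (g * z * g⁻¹) := by
    show C.aw _ _ = _
    rw [hv, haw pc pc_sign, map_add, ← C.aw_cd_even pc_sign, L.smul pc pc_sign, L.smul pc pc_sign,
      show pc 0 = 2 by decide, show pc 1 = 3 by decide, show pc 2 = 4 by decide, show pc 3 = 5 by decide,
      map_add, map_add, C.aw_cd3, L.cd_cd, add_right_comm, h45]
  have hB1 : ∀ b ∈ F.B, b.1 = 1 := by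
    intro b hb
    have h1 := F.B_conj hc1 hfix hb
    rw [hc2] at h1
    have h2 := F.B_sq (F.B.mul_mem h1 hb)
    have h3 := congrArg Prod.fst h2
    have key : ∀ p : Perm (Fin 3), p * p = 1 ∧
        (finRotate 3 * finRotate 3 * 1 * p * (finRotate 3 * finRotate 3 * 1)⁻¹ * p) *
          (finRotate 3 * finRotate 3 * 1 * p * (finRotate 3 * finRotate 3 * 1)⁻¹ * p) = 1 → p = 1 := by decide +kernel
    exact key b.1 ⟨congrArg Prod.fst (F.B_sq hb), h3⟩
  let T := {σ : Perm (Fin 6) //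
    (σ 0 = 0 ∧ σ 1 = 1 ∨ σ 0 = 1 ∧ σ 1 = 0) ∧ (σ 2 = 2 ∧ σ 3 = 3 ∨ σ 2 = 3 ∧ σ 3 = 2)}
  have hT : Nat.card T = 8 := by
    rw [Nat.card_eq_fintype_card]; decide +kernel
  have hmem : ∀ b : F.B, ((b : W).2 0 = 0 ∧ (b : W).2 1 = 1 ∨ (b : W).2 0 = 1 ∧ (b : W).2 1 = 0) ∧
      ((b : W).2 2 = 2 ∧ (b : W).2 3 = 3 ∨ (b : W).2 2 = 3 ∧ (b : W).2 3 = 2) := by
    rintro ⟨b, hb⟩
    obtain ⟨r, hr, hπ⟩ := F.mem_B.mp hb
    have hrz := F.R_cz hr
    have hb1 : (C.π r).1 = 1 := by rw [hπ]; exact hB1 b hb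
    have hsq : C.π r * C.π r = 1 := by rw [hπ]; exact F.B_sq hb
    have e := F.act_x hr
    rw [hv, map_add, L.act_cd_comm hrz hb1, L.act_invol hrz hsq (by rw [hb1]; exact _root_.map_one _),
      L.act_invol hrz hsq (by rw [hb1]; exact _root_.map_one _), hπ] at e
    obtain ⟨e1, e2⟩ := L.dec_eq (L.mem _ _) (L.mem _ _) (L.mem _ _) (L.mem _ _) e
    exact ⟨L.eq_iff (fun h => absurd (b.2.injective h) (by decide)) e1,
      L.eq_iff (fun h => absurd (b.2.injective h) (by decide)) e2⟩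
  let f : F.B → T := fun b => ⟨(b : W).2, hmem b⟩
  have hf : Function.Injective f := fun a b h => Subtype.ext
    (Prod.ext ((hB1 a a.2).trans (hB1 b b.2).symm) (congrArg Subtype.val h :))
  have hcard : Nat.card F.B = Nat.card T := by
    have h1 := Nat.card_le_card_of_injective f hf
    have h2 := F.B_eight
    omega
  obtain ⟨⟨b, hb⟩, hbσ⟩ := ((Nat.bijective_iff_injective_and_card f).mpr ⟨hf, hcard⟩).2
    ⟨swap 2 3, by decide⟩
  have hbσ' : b.2 = swap 2 3 := congrArg Subtype.val hbσ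
  obtain ⟨r, hr, hπ⟩ := F.mem_B.mp hb
  have hrz := F.R_cz hr
  have hb1 : (C.π r).1 = 1 := by rw [hπ]; exact hB1 b hb
  have hsq : C.π r * C.π r = 1 := by rw [hπ]; exact F.B_sq hb
  obtain ⟨w, hw, hwv⟩ := C.v_surj (L.px 0 2 + C.aw cd (L.px 0 4))
  obtain ⟨t1, ht1, ht1v⟩ := F.com_D hw (by
    rw [hv, hwv, C.β_add_left, C.β_add_right, C.β_add_right, L.β_W (L.mem _ _) (L.mem _ _), C.aw_β psi_cd,
      L.β_W (L.mem _ _) (L.mem _ _), L.gam_inter (by decide) (by decide) (by decide), C.β_symm (C.aw cd (L.px 2 3)),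
      L.symm 0 2, L.gam_inter (by decide) (by decide) (by decide)]
    decide) hr
  have ht : C.v t1 = L.px 2 3 := by
    rw [ht1v, hwv, map_add, L.act_cd_comm hrz hb1, L.act_invol hrz hsq (by rw [hb1]; exact _root_.map_one _),
      L.act_invol hrz hsq (by rw [hb1]; exact _root_.map_one _), hπ, hbσ',
      show swap (2 : Fin 6) 3 0 = 0 by decide, show swap (2 : Fin 6) 3 2 = 3 by decide,
      show swap (2 : Fin 6) 3 4 = 4 by decide,
      show L.px 0 3 + C.aw cd (L.px 0 4) + (L.px 0 2 + C.aw cd (L.px 0 4)) =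
        L.px 0 2 + L.px 0 3 + (C.aw cd (L.px 0 4) + C.aw cd (L.px 0 4)) by abel,
      L.two, add_zero, L.symm 0 2, ← L.tri]
  set x := g * z * g⁻¹ with hx
  set w' := x * t1 with hw'
  have hw'D : w' ∈ F.D := Subgroup.mul_mem _ F.x_D ht1
  have hw'v : C.v w' = L.px 4 5 + C.aw cd (L.px 2 3) := by
    rw [hw', C.v_mul F.mem ht1.1, hv, ht, add_right_comm, L.sum_eq]
  obtain ⟨k, hk⟩ : ∃ k, k * z * k⁻¹ = w' := by
    obtain ⟨hm1, hm2⟩ := C.lift_spec (hψ sP sP_sign)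
    set m := C.lift (cd * cd * (1, sP))
    have F1 := F.conj_m hm1
    have hmv : C.v (m * g * z * (m * g)⁻¹) = C.v w' := by
      rw [F.conj_v hm1, C.aw_eq (hψ sP sP_sign) hm1 hm2, hw'v, ← hx, hv, haw sP sP_sign, map_add,
        ← C.aw_cd_even sP_sign, L.smul sP sP_sign, L.smul sP sP_sign, show sP 0 = 2 by decide,
        show sP 1 = 3 by decide, show sP 2 = 0 by decide, show sP 3 = 1 by decide, map_add, map_add, C.aw_cd3,
        L.cd_cd, add_right_comm, add_comm (L.px 2 3) (L.px 0 1), L.sum_eq]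
    rcases (C.v_eq_iff F1.mem hw'D.1).mp hmv with e | e
    · exact ⟨m * g, e.symm⟩
    · obtain ⟨q, hq, -, hqx⟩ := C.es.swap F1.mem F1.ne F1.ne_one
      refine ⟨q * (m * g), ?_⟩
      rw [e, show q * (m * g) * z * (q * (m * g))⁻¹ = q * (m * g * z * (m * g)⁻¹) * q⁻¹ by group, hqx]
  have hne1 : w' ≠ 1 := fun e => by
    rw [e, C.v_one] at hw'v
    exact L.x0_ne (L.dec_eq (zero_mem _) (L.mem _ _) (zero_mem _) (L.mem _ _)
      (by rw [map_zero, add_zero]; exact hw'v)).1.symm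
  have hnex : w' ≠ x := fun e => by
    rw [e, hv] at hw'v
    exact absurd (L.eq_iff (by decide) (L.dec_eq (L.mem _ _) (L.mem _ _) (L.mem _ _) (L.mem _ _) hw'v).1) (by decide)
  obtain ⟨r', hr', -, hr'w⟩ := (C.conj g).es.swap hw'D.2 hnex hne1
  have ht1' : w' * x = t1 := by
    rw [(C.conj g).cz hw'D.2, hw', ← mul_assoc, F.xx, one_mul]
  have hr'k : r' * k * z * (r' * k)⁻¹ = t1 := by
    rw [show r' * k * z * (r' * k)⁻¹ = r' * (k * z * k⁻¹) * r'⁻¹ by group, hk, hr'w, ← hx, ht1']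
  have F2 : Fus C (r' * k) := ⟨hr'k.symm ▸ ht1.1, fun e => by
    rw [hr'k] at e
    rw [e, C.v_z] at ht
    exact L.px_ne (by decide) ht.symm⟩
  exact F2.pair_false L (by decide : (2 : Fin 6) ≠ 3) (by rw [hr'k, ht])

/-- No conjugate of `z` in `Q`. -/
theorem ten_false (L : Lab C) : False := by
  obtain ⟨a, b, ⟨i, j, rfl⟩, ⟨k, l, rfl⟩, e⟩ := L.span (C.v (g * z * g⁻¹))
  by_cases hij : i = j
  · rw [hij, L.self, zero_add] at e
    by_cases hkl : k = l
    · exact F.v_ne (by rw [e, hkl, L.self, map_zero])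
    obtain ⟨h1, h2⟩ := C.lift_spec (show psi (cd * cd) = 1 by decide)
    refine (F.conj_m h1).pair_false L hkl ?_
    rw [F.conj_v h1, e, C.aw_eq (by decide) h1 h2, C.aw_mul psi_cd psi_cd, C.aw_cd3]
  by_cases hkl : k = l
  · rw [hkl, L.self, map_zero, add_zero] at e
    exact F.pair_false L hij e
  have h0 : C.β (L.px i j) (C.aw cd (L.px k l)) = 0 := by
    have hq : C.qf (C.v (g * z * g⁻¹)) = 0 := by rw [C.qf_v F.mem, sqf_eq_zero]; exact F.xx
    rwa [e, C.qf_add, C.aw_qf psi_cd, L.q_px, L.q_px, zero_add, zero_add] at hq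
  by_cases hsame : L.px i j = L.px k l
  · obtain ⟨h1, h2⟩ := C.lift_spec psi_cd
    refine (F.conj_m h1).pair_false L hij ?_
    rw [F.conj_v h1, e, ← hsame, ← L.cd_cd, C.aw_eq psi_cd h1 h2, C.aw_cd3]
  have hone : ∀ {a b c : Fin 6}, a ≠ b → a ≠ c → b ≠ c →
      C.β (L.px a b) (C.aw cd (L.px a c)) = 0 → False := fun h1 h2 h3 h => by
    rw [L.gam_inter h1 h2 h3] at h; exact absurd h (by decide)
  have hik : i ≠ k := fun h => by
    subst h
    exact hone hij hkl (fun h => hsame (by rw [h])) h0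
  have hil : i ≠ l := fun h => by
    subst h
    rw [L.symm k i] at h0 hsame
    exact hone hij (Ne.symm hkl) (fun h => hsame (by rw [h])) h0
  have hjk : j ≠ k := fun h => by
    subst h
    rw [L.symm i j] at h0 hsame
    exact hone (Ne.symm hij) hkl (fun h => hsame (by rw [h])) h0
  have hjl : j ≠ l := fun h => by
    subst h
    rw [L.symm i j, L.symm k j] at h0 hsame
    exact hone (Ne.symm hij) (Ne.symm hkl) (fun h => hsame (by rw [h])) h0
  obtain ⟨p, hp, p0, p1, p2, p3⟩ := exists_map_four hij hik hil hjk hjl hkl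
  have hpi : Perm.sign p⁻¹ = 1 := by rw [_root_.map_inv, hp, inv_one]
  obtain ⟨h1, h2⟩ := C.lift_spec (psi_even hpi)
  refine (F.conj_m h1).line_false L ?_
  rw [F.conj_v h1, e, map_add, C.aw_eq (psi_even hpi) h1 h2, C.aw_eq (psi_even hpi) h1 h2, ← C.aw_cd_even hpi,
    L.smul _ hpi, L.smul _ hpi, ← p0, ← p1, ← p2, ← p3]
  simp

end Fus

end CfsgSTS
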