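/-
If `z` is weakly closed in `Q`, no other conjugate of `z` centralises `z`.
-/
import Cfsg.Agent.Lib.SymThreeAltSix.Dichotomy

set_option autoImplicit false

namespace CfsgSTS

open CfsgLargeExtra Weights

variable {G : Type*} [Group G] [Finite G]

/-- A subgroup in which any two elements outside `S` differ by an element of `S`. -/
theorem card_le_two_mul {H S : Subgroup G} (h : ∀ a ∈ H, ∀ b ∈ H, a ∉ S → b ∉ S → a⁻¹ * b ∈ S) :
    Nat.card H ≤ 2 * Nat.card S := by
  classical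
  by_cases hall : ∀ a ∈ H, a ∈ S
  · have := Nat.card_le_card_of_injective _ (Subgroup.inclusion_injective (show H ≤ S from hall))
    omega
  push Not at hall
  obtain ⟨a0, ha0, ha0'⟩ := hall
  let f : H → S × Bool := fun q => if hq : (q : G) ∈ S then (⟨q, hq⟩, false)
    else (⟨a0⁻¹ * q, h a0 ha0 q q.2 ha0' hq⟩, true)
  have hf : Function.Injective f := by
    intro p q hpq
    simp only [f] at hpq
    split_ifs at hpq with h1 h2 h2 <;> simp only [Prod.mk.injEq, Subtype.mk.injEq, and_true, Bool.false_eq_true,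
      Bool.true_eq_false, and_false] at hpq
    · exact Subtype.ext hpq
    · exact Subtype.ext (mul_left_cancel hpq)
  have := Nat.card_le_card_of_injective f hf
  rw [Nat.card_prod, Nat.card_eq_fintype_card (α := Bool), Fintype.card_bool] at this
  omega

/-- A map of order three with one fixed point. -/
theorem card_mod_three {F : Type*} [Finite F] (σ : Function.End F) (h3 : ∀ x, σ (σ (σ x)) = x) (x0 : F)
    (h0 : ∀ x, σ x = x ↔ x = x0) : Nat.card F % 3 = 1 := by
  classical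
  have := Fintype.ofFinite F
  have := Fact.mk Nat.prime_three
  have hσ : σ ^ 3 ^ 1 = 1 := by funext x; exact h3 x
  have h := Equiv.Perm.card_fixedPoints_modEq (p := 3) hσ
  rw [← Nat.card_eq_fintype_card, ← Nat.card_eq_fintype_card] at h
  have h1 : Nat.card (Function.fixedPoints σ) = 1 :=
    Nat.card_eq_one_iff_unique.mpr ⟨⟨fun a b => Subtype.ext (((h0 a.1).mp a.2).trans ((h0 b.1).mp b.2).symm)⟩,
      ⟨⟨x0, (h0 x0).mpr rfl⟩⟩⟩
  rw [h1] at h
  exact h

variable {Q Q' : Subgroup G} {z v : G}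

/-- Two conjugates of `z` with the weakly closed condition, centralising each other. -/
structure Opp (C : Cfg Q z) (C' : Cfg Q' v) : Prop where
  comm : v * z = z * v
  vQ : v ∉ Q
  zQ : z ∉ Q'
  wc : ∀ g, g * z * g⁻¹ ∈ Q → g * z * g⁻¹ = z
  wc' : ∀ g, g * v * g⁻¹ ∈ Q' → g * v * g⁻¹ = v

namespace Opp

variable {C : Cfg Q z} {C' : Cfg Q' v} (o : Opp C C')
include o

theorem symm : Opp C' C := ⟨o.comm.symm, o.zQ, o.vQ, o.wc', o.wc⟩

omit [Finite G] in
theorem v_inv : v⁻¹ = v := C'.z_inv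

theorem com_conj (q : G) : v * com v q = q⁻¹ * v * q := by
  simp only [com, mul_assoc, mul_inv_cancel_left]

theorem com_not_mem {q : G} (hq : com v q ∈ Q') : com v q = 1 := by
  have h := o.wc' q⁻¹ (by rw [inv_inv, ← o.com_conj]; exact mul_mem C'.es.mem hq)
  rw [inv_inv, ← o.com_conj] at h
  exact mul_eq_left.mp h

theorem com_comm {q : G} : com v q * v = v * com v q ↔ com v q * com v q = 1 := by
  have e : v * com v q * v = (com v q)⁻¹ := by
    simp only [com, mul_inv_rev, o.v_inv, inv_inv, mul_assoc]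
    rw [← mul_assoc v v, C'.zz, one_mul]
  constructor
  · intro h
    rw [← h, mul_assoc, C'.zz, mul_one] at e
    nth_rewrite 2 [e]
    exact mul_inv_cancel _
  · intro h
    rw [inv_eq_of_mul_eq_one_right h] at e
    have := congrArg (fun t => t * v) e
    simp only [mul_assoc, C'.zz, mul_one] at this
    exact this.symm

theorem com_mul (a b : G) : com v (a * b) = com v b * (b⁻¹ * com v a * b) := by
  simp only [com]; group

theorem act_v_com {q : G} (hq : q ∈ Q) : C.v (com v q) = C.act v (C.v q) + C.v q := by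
  rw [C.v_com o.comm hq, C.act_v o.comm hq, o.v_inv]

theorem mem_Wm_iff {q : G} (hq : q ∈ Q) : q ∈ C.Wm o.comm ↔ C.act v (C.v q) = C.v q := by
  rw [C.mem_Wm o.comm, and_iff_right hq, ← C.v_eq_zero (C.com_mem o.comm hq), o.act_v_com hq]
  constructor
  · intro h
    calc C.act v (C.v q) = C.act v (C.v q) + (C.v q + C.v q) := by rw [C.v_two, add_zero]
      _ = C.v q := by rw [← add_assoc, h, zero_add]
  · intro h; rw [h, C.v_two]

theorem Pm_le : C.Pm o.comm ≤ C.Wm o.comm := C.Pm_le_Wm o.comm (by rw [C'.zz]; exact one_mem _)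

theorem π_sq : C.π v * C.π v = 1 := by rw [← C.map_mul _ _ o.comm o.comm, C'.zz, C.map_one]

theorem π_ne : C.π v ≠ 1 := fun h => o.vQ ((C.ker v o.comm).mp h)

theorem π_eq (hs : Equiv.Perm.sign (C.π v).1 = 1) : C.π v = (1, (C.π v).2) := Prod.ext (fst_of_sq o.π_sq hs) rfl

theorem mem_cen {q : G} (hq : q ∈ Q) (h : com v q = 1) : q * v = v * q := by
  have h' := o.com_conj q
  rw [h, mul_one] at h'
  calc q * v = q * (q⁻¹ * v * q) := by rw [← h']
    _ = v * q := by group

theorem com_of_cen {q : G} (h : q * v = v * q) : com v q = 1 := by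
  have h' := o.com_conj q
  rw [show q⁻¹ * v * q = q⁻¹ * (v * q) by group, ← h, inv_mul_cancel_left] at h'
  exact mul_eq_left.mp h'

theorem cen_Wm {q : G} (hq : q ∈ Q) (h : q * v = v * q) : q ∈ C.Wm o.comm :=
  (C.mem_Wm o.comm).mpr ⟨hq, Or.inl (o.com_of_cen h)⟩

theorem card_Wm_le : Nat.card (C.Wm o.comm) ≤ 2 * Nat.card ↥(Q ⊓ Subgroup.centralizer ({v} : Set G)) := by
  refine card_le_two_mul fun a ha b hb ha' hb' => ?_
  obtain ⟨haQ, hac⟩ := (C.mem_Wm o.comm).mp ha
  obtain ⟨hbQ, hbc⟩ := (C.mem_Wm o.comm).mp hb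
  have hab : a⁻¹ * b ∈ Q := mul_mem (inv_mem haQ) hbQ
  have hza : com v a = z := hac.resolve_left fun e =>
    ha' ⟨haQ, Subgroup.mem_centralizer_singleton_iff.mpr (o.mem_cen haQ e)⟩
  have hzb : com v b = z := hbc.resolve_left fun e =>
    hb' ⟨hbQ, Subgroup.mem_centralizer_singleton_iff.mpr (o.mem_cen hbQ e)⟩
  refine ⟨hab, Subgroup.mem_centralizer_singleton_iff.mpr (o.mem_cen hab ?_)⟩
  have h := o.com_mul a (a⁻¹ * b)
  rw [mul_inv_cancel_left, hza, hzb, mul_assoc _ z, ← C.cz hab, inv_mul_cancel_left] at h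
  exact mul_eq_right.mp h.symm

/-- A conjugate of `v` by `Q` commuting with it. -/
theorem exists_pair {q : G} (hq : q ∈ Q) (hs : com v q * com v q = 1) (hne : com v q ≠ 1) :
    Opp C' (C'.conj q⁻¹) ∧ C'.π (q⁻¹ * v * q⁻¹⁻¹) = C'.π (com v q) ∧
      (C'.conj q⁻¹).π v = C'.π (com v q) := by
  have hsv := o.com_comm.mpr hs
  have e1 : q⁻¹ * v * q⁻¹⁻¹ = v * com v q := by rw [inv_inv, o.com_conj]
  have hcz : com v q * v = v * com v q := hsv
  have hπ : C'.π (v * com v q) = C'.π (com v q) := by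
    rw [C'.map_mul _ _ rfl hcz, C'.map_q C'.es.mem, one_mul]
  have hqq : q * v * q⁻¹ = q⁻¹ * v * q := by
    have h2 : q * q * v = v * (q * q) := by
      rcases C.es.sq q hq with e | e <;> rw [e]
      · simp
      · exact o.comm.symm
    calc q * v * q⁻¹ = q⁻¹ * (q * q * v) * q⁻¹ := by group
      _ = q⁻¹ * (v * (q * q)) * q⁻¹ := by rw [h2]
      _ = _ := by group
  refine ⟨⟨?_, ?_, ?_, o.wc', ?_⟩, by rw [e1, hπ], ?_⟩
  · rw [e1, mul_assoc, hcz]
  · intro h
    rw [e1] at h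
    refine hne (o.com_not_mem ?_)
    have := mul_mem (inv_mem C'.es.mem) h
    rwa [inv_mul_cancel_left] at this
  · intro h
    rw [mem_cj, inv_inv] at h
    exact hne (o.com_of_cen (mul_inv_eq_iff_eq_mul.mp (o.wc' q h)))
  · intro g hg
    rw [mem_cj, inv_inv] at hg
    have := o.wc' (q * g * q⁻¹) (by
      convert hg using 1
      group)
    calc g * (q⁻¹ * v * q⁻¹⁻¹) * g⁻¹ = q⁻¹ * (q * g * q⁻¹ * v * (q * g * q⁻¹)⁻¹) * q⁻¹⁻¹ := by group
      _ = _ := by rw [this]
  · rw [Cfg.conj_π, inv_inv, hqq, ← o.com_conj, hπ]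

/-- Producing a conjugate whose image lies in the kernel of a character. -/
theorem exists_swap {M : Type*} [CommGroup M] (φ : W →* M) (hφ : ∀ w, φ w * φ w = 1) (H : Subgroup G)
    (hH : H ≤ C.Pm o.comm) (hz : z ∈ H) (hv : ∀ h ∈ H, h * v = v * h)
    (hval : ∀ h ∈ H, φ (C'.π h) = 1 ∨ φ (C'.π h) = φ (C'.π z)) (h16 : 16 ≤ Nat.card H) :
    ∃ q ∈ Q, com v q * com v q = 1 ∧ com v q ≠ 1 ∧ φ (C'.π (com v q)) = 1 := by
  classical
  by_contra hh
  push Not at hh
  have hcom : ∀ h ∈ H, ∃ q ∈ Q, com v q ∈ H ∧ (com v q = h ∨ com v q = h * z) := by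
    intro h hh'
    obtain ⟨q, hq, e⟩ := (C.mem_Pm o.comm).mp (hH hh')
    refine ⟨q, hq, ?_⟩
    rcases e with e | e
    · exact ⟨e ▸ hh', Or.inl e.symm⟩
    · have : com v q = h * z := by rw [e, mul_assoc, C.zz, mul_one]
      exact ⟨this ▸ mul_mem hh' hz, Or.inr this⟩
  have hbad : ∀ q ∈ Q, com v q ∈ H → com v q ≠ 1 → φ (C'.π (com v q)) = φ (C'.π z) := fun q hq hm hne =>
    (hval _ hm).resolve_left (hh q hq (o.com_comm.mp (hv _ hm)) hne)
  obtain ⟨j, hj, hj1, hjz⟩ : ∃ j ∈ H, j ≠ 1 ∧ j ≠ z := by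
    by_contra hh'
    push Not at hh'
    have hle := card_le_two_mul (H := H) (S := (⊥ : Subgroup G)) (fun a ha b hb ha' hb' => by
      rw [Subgroup.mem_bot] at ha' hb'
      rw [hh' a ha ha', hh' b hb hb']; simp)
    rw [Subgroup.card_bot] at hle; omega
  obtain ⟨qj, hqj, hsjH, hsj⟩ := hcom j hj
  have hsjne : com v qj ≠ 1 := by
    rcases hsj with e | e <;> rw [e]
    · exact hj1
    · exact fun h => hjz (by rw [← mul_one j, ← C.zz, ← mul_assoc, h, one_mul])
  have key : ∀ i ∈ H, i * qj = qj * i → i = 1 ∨ i = z ∨ i = j ∨ i = j * z := by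
    intro i hi hic
    by_contra hcon
    push Not at hcon
    obtain ⟨hi1, hiz, hij, hijz⟩ := hcon
    obtain ⟨qi, hqi, hsiH, hsi⟩ := hcom i hi
    have hsine : com v qi ≠ 1 := by
      rcases hsi with e | e <;> rw [e]
      · exact hi1
      · exact fun h => hiz (by rw [← mul_one i, ← C.zz, ← mul_assoc, h, one_mul])
    have hsic : qj⁻¹ * com v qi * qj = com v qi := by
      have hc : com v qi * qj = qj * com v qi := by
        rcases hsi with e | e <;> rw [e]
        · exact hic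
        · rw [mul_assoc, ← C.cz hqj, ← mul_assoc, hic, mul_assoc]
      rw [mul_assoc, hc, inv_mul_cancel_left]
    have hprod := o.com_mul qi qj
    rw [hsic] at hprod
    have hm : com v (qi * qj) ∈ H := hprod ▸ mul_mem hsjH hsiH
    have hφ1 : φ (C'.π (com v (qi * qj))) = 1 := by
      rw [hprod, C'.map_mul _ _ (hv _ hsjH) (hv _ hsiH), map_mul, hbad qj hqj hsjH hsjne, hbad qi hqi hsiH hsine, hφ]
    have h1 : com v (qi * qj) = 1 := by
      by_contra hne
      exact hh _ (mul_mem hqi hqj) (o.com_comm.mp (hv _ hm)) hne hφ1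
    rw [hprod] at h1
    have hsq : com v qi * com v qi = 1 := o.com_comm.mp (hv _ hsiH)
    have e2 : com v qj = com v qi := by
      calc com v qj = com v qj * com v qi * com v qi := by rw [mul_assoc, hsq, mul_one]
        _ = com v qi := by rw [h1, one_mul]
    rcases hsi with e | e <;> rcases hsj with e' | e' <;> rw [e, e'] at e2
    · exact hij e2.symm
    · exact hijz e2.symm
    · exact hijz (by rw [e2, mul_assoc, C.zz, mul_one])
    · exact hij (mul_right_cancel e2).symm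
  have h4 : Nat.card ↥(H ⊓ Subgroup.centralizer ({qj} : Set G)) ≤ 4 := by
    let e : Fin 4 → G := ![1, z, j, j * z]
    refine le_trans (Nat.card_le_card_of_injective
      (fun i : ↥(H ⊓ Subgroup.centralizer ({qj} : Set G)) => (⟨i, by
        rcases key i i.2.1 (Subgroup.mem_centralizer_singleton_iff.mp i.2.2) with h | h | h | h
        exacts [⟨0, h.symm⟩, ⟨1, h.symm⟩, ⟨2, h.symm⟩, ⟨3, h.symm⟩]⟩ : Set.range e))
      fun a b hab => Subtype.ext (congrArg (fun s : Set.range e => (s : G)) hab)) ?_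
    exact le_trans (Nat.card_le_card_of_surjective (Set.rangeFactorization e) Set.rangeFactorization_surjective)
      (by rw [Nat.card_eq_fintype_card, Fintype.card_fin])
  have h8 := card_le_two_mul (H := H) (S := H ⊓ Subgroup.centralizer ({qj} : Set G)) fun a ha b hb ha' hb' => by
    refine Subgroup.mem_inf.mpr ⟨H.mul_mem (H.inv_mem ha) hb, Subgroup.mem_centralizer_singleton_iff.mpr ?_⟩
    have cj : ∀ t ∈ H, t ∉ H ⊓ Subgroup.centralizer ({qj} : Set G) → t * qj = qj * t * z := fun t ht ht' =>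
      (C.comm_cases' (C.Pm_le o.comm (hH ht)) hqj).resolve_left fun e =>
        ht' ⟨ht, Subgroup.mem_centralizer_singleton_iff.mpr e⟩
    have ea := cj a ha ha'
    have eb := cj b hb hb'
    have hbz := C.cz (C.Pm_le o.comm (hH hb))
    have haz := cz_inv (C.cz (C.Pm_le o.comm (hH ha)))
    calc a⁻¹ * b * qj = a⁻¹ * (qj * b * z) := by rw [mul_assoc, eb]
      _ = a⁻¹ * (qj * a * z) * a⁻¹ * b := by
        have : qj * b * z = qj * a * z * a⁻¹ * b := by
          rw [mul_assoc (qj * a) z, ← haz, ← mul_assoc (qj * a) a⁻¹ z, mul_inv_cancel_right, mul_assoc qj z b, ← hbz,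
            ← mul_assoc]
        rw [this]; group
      _ = a⁻¹ * (a * qj) * a⁻¹ * b := by rw [ea]
      _ = qj * (a⁻¹ * b) := by group
  omega

theorem card_I {H : Subgroup G} (hH : H ≤ C.Pm o.comm) (hz : z ∈ H) (hQ' : ∀ h ∈ H, h ∈ Q' ∨ h * z ∈ Q') :
    Nat.card H ≤ 8 := by
  classical
  by_cases hall : ∀ h ∈ H, h = 1 ∨ h = z
  · have hle := card_le_two_mul (H := H) (S := (⊥ : Subgroup G)) (fun a ha b hb ha' hb' => by
      rw [Subgroup.mem_bot] at ha' hb'
      rw [(hall a ha).resolve_left ha', (hall b hb).resolve_left hb']; simp)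
    rw [Subgroup.card_bot] at hle; omega
  push Not at hall
  obtain ⟨j, hj, hj1, hjz⟩ := hall
  have hcom : ∀ h ∈ H, h ≠ 1 → h ≠ z → ∃ q ∈ Q, (com v q = h ∨ com v q = h * z) ∧ com v q * z ∈ Q' := by
    intro h hh' h1 h2
    obtain ⟨q, hq, e⟩ := (C.mem_Pm o.comm).mp (hH hh')
    have hcases : com v q = h ∨ com v q = h * z := by
      rcases e with e | e
      · exact Or.inl e.symm
      · right; rw [e, mul_assoc, C.zz, mul_one]
    have hm : com v q ∈ H := by rcases hcases with e | e <;> rw [e] <;> [exact hh'; exact mul_mem hh' hz]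
    refine ⟨q, hq, hcases, (hQ' _ hm).resolve_left fun h' => ?_⟩
    have h0 := o.com_not_mem h'
    rcases hcases with e | e
    · exact h1 (e ▸ h0)
    · rw [e] at h0
      exact h2 (by rw [← mul_one h, ← C.zz, ← mul_assoc, h0, one_mul])
  obtain ⟨qj, hqj, hsj, hsjQ⟩ := hcom j hj hj1 hjz
  have key : ∀ i ∈ H, i * qj = qj * i → i = 1 ∨ i = z ∨ i = j ∨ i = j * z := by
    intro i hi hic
    by_contra hcon
    push Not at hcon
    obtain ⟨hi1, hiz, hij, hijz⟩ := hcon
    obtain ⟨qi, hqi, hsi, hsiQ⟩ := hcom i hi hi1 hiz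
    have hsim : com v qi ∈ Q := C.com_mem o.comm hqi
    have hsjm : com v qj ∈ Q := C.com_mem o.comm hqj
    have hc : com v qi * qj = qj * com v qi := by
      rcases hsi with e | e <;> rw [e]
      · exact hic
      · rw [mul_assoc, ← C.cz hqj, ← mul_assoc, hic, mul_assoc]
    have hprod := o.com_mul qi qj
    rw [mul_assoc qj⁻¹ (com v qi) qj, hc, inv_mul_cancel_left] at hprod
    have hm : com v (qi * qj) ∈ Q' := by
      rw [hprod]
      have := mul_mem hsjQ hsiQ
      rwa [mul_assoc (com v qj), ← mul_assoc z, ← C.cz hsim, mul_assoc (com v qi) z z, C.zz, mul_one] at this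
    have h1 := o.com_not_mem hm
    rw [hprod] at h1
    have e2 : com v qj = (com v qi)⁻¹ := eq_inv_of_mul_eq_one_left h1
    have hinv : (com v qi)⁻¹ = com v qi ∨ (com v qi)⁻¹ = com v qi * z := C.es.inv_cases hsim
    have hcase : j = i ∨ j = i * z := by
      have : com v qj = i ∨ com v qj = i * z := by
        rcases hinv with e | e <;> rw [e] at e2 <;> rcases hsi with e' | e' <;> rw [e'] at e2
        · exact Or.inl e2
        · exact Or.inr e2
        · exact Or.inr e2
        · left; rw [e2, mul_assoc, C.zz, mul_one]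
      rcases hsj with e | e <;> rw [e] at this
      · exact this
      · rcases this with t | t
        · right; rw [← t, mul_assoc, C.zz, mul_one]
        · exact Or.inl (mul_right_cancel t)
    rcases hcase with e | e
    · exact hij e.symm
    · exact hijz (by rw [e, mul_assoc, C.zz, mul_one])
  have h4 : Nat.card ↥(H ⊓ Subgroup.centralizer ({qj} : Set G)) ≤ 4 := by
    let e : Fin 4 → G := ![1, z, j, j * z]
    refine le_trans (Nat.card_le_card_of_injective
      (fun i : ↥(H ⊓ Subgroup.centralizer ({qj} : Set G)) => (⟨i, by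
        rcases key i i.2.1 (Subgroup.mem_centralizer_singleton_iff.mp i.2.2) with h | h | h | h
        exacts [⟨0, h.symm⟩, ⟨1, h.symm⟩, ⟨2, h.symm⟩, ⟨3, h.symm⟩]⟩ : Set.range e))
      fun a b hab => Subtype.ext (congrArg (fun s : Set.range e => (s : G)) hab)) ?_
    exact le_trans (Nat.card_le_card_of_surjective (Set.rangeFactorization e) Set.rangeFactorization_surjective)
      (by rw [Nat.card_eq_fintype_card, Fintype.card_fin])
  have h8 := card_le_two_mul (H := H) (S := H ⊓ Subgroup.centralizer ({qj} : Set G)) fun a ha b hb ha' hb' => by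
    refine Subgroup.mem_inf.mpr ⟨H.mul_mem (H.inv_mem ha) hb, Subgroup.mem_centralizer_singleton_iff.mpr ?_⟩
    have cj : ∀ t ∈ H, t ∉ H ⊓ Subgroup.centralizer ({qj} : Set G) → t * qj = qj * t * z := fun t ht ht' =>
      (C.comm_cases' (C.Pm_le o.comm (hH ht)) hqj).resolve_left fun e =>
        ht' ⟨ht, Subgroup.mem_centralizer_singleton_iff.mpr e⟩
    have ea := cj a ha ha'
    have eb := cj b hb hb'
    have hbz := C.cz (C.Pm_le o.comm (hH hb))
    have haz := cz_inv (C.cz (C.Pm_le o.comm (hH ha)))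
    calc a⁻¹ * b * qj = a⁻¹ * (qj * b * z) := by rw [mul_assoc, eb]
      _ = a⁻¹ * (qj * a * z) * a⁻¹ * b := by
        have : qj * b * z = qj * a * z * a⁻¹ * b := by
          rw [mul_assoc (qj * a) z, ← haz, ← mul_assoc (qj * a) a⁻¹ z, mul_inv_cancel_right, mul_assoc qj z b, ← hbz,
            ← mul_assoc]
        rw [this]; group
      _ = a⁻¹ * (a * qj) * a⁻¹ * b := by rw [ea]
      _ = qj * (a⁻¹ * b) := by group
  omega

theorem psi_of_sq {r : G} (hr : r * v = v * r) (h : r * r = z) : psi (C'.π z) = 1 := by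
  rw [← h, C'.map_mul _ _ hr hr, map_mul, psi_sq]

theorem P_act_v (hs : Equiv.Perm.sign (C.π v).1 = 1) (x : C.V) :
    C.act v (C.aw cd x) = C.aw cd (C.act v x) := by
  rw [C.act_aw o.comm psi_cd, o.π_eq hs, ← cd_comm, mul_inv_cancel_right]

/-- In `2 + 6` a centralising element fixes the plane: elements of order four centralise it. -/
theorem sum_plane (hS : ¬ C.Ten) (hs : Equiv.Perm.sign (C.π v).1 = 1) :
    ∃ a c, a ∈ Q ∧ c ∈ Q ∧ a * v = v * a ∧ a * a = z ∧ c * c = z ∧ a * c ≠ c * a ∧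
      c ∈ C.Wm o.comm ∧ P (C.aw cd) (C.v a) = 0 ∧ P (C.aw cd) (C.v c) = 0 := by
  obtain ⟨⟨x0, hx0, hx00, hq, hb, hpl⟩, -⟩ := C.sum_core hS
  have hd3 := C.aw_cd3
  have hfix : C.act v x0 = x0 := by
    have hmem : P (C.aw cd) (C.act v x0) = 0 := by rw [P_comm (fun t => (o.P_act_v hs t).symm), hx0, map_zero]
    have htwice : C.act v (C.act v x0) = x0 := by
      rw [← C.act_mul o.comm o.comm, C'.zz, C.act_trivial (by simp) C.map_one]
    have hdx : C.aw cd x0 ≠ x0 := fun e => hx00 (by rw [← P_of_fix C.v_two e, hx0])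
    have hee : C.aw cd (C.aw cd x0) = x0 + C.aw cd x0 := by
      rw [P_apply] at hx0
      calc C.aw cd (C.aw cd x0) = C.aw cd (C.aw cd x0) + (x0 + C.aw cd x0 + C.aw cd (C.aw cd x0)) := by
            rw [hx0, add_zero]
        _ = x0 + C.aw cd x0 + (C.aw cd (C.aw cd x0) + C.aw cd (C.aw cd x0)) := by abel
        _ = x0 + C.aw cd x0 := by rw [C.v_two, add_zero]
    rcases hpl _ hmem with e | e | e | e
    · exact absurd (C.act_inj o.comm (by rw [e, map_zero])) hx00
    · exact e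
    · exfalso
      rw [e, o.P_act_v hs, e, hee] at htwice
      exact hx00 (C.aw_inj psi_cd (by rw [left_eq_add.mp htwice.symm, map_zero]))
    · exfalso
      rw [← hee] at e
      rw [e, o.P_act_v hs, o.P_act_v hs, e, hd3] at htwice
      exact hdx htwice
  obtain ⟨x, hxQ, rfl⟩ := C.v_surj x0
  obtain ⟨y, hyQ, hy⟩ := C.v_surj (C.aw cd (C.v x))
  have hsqx : x * x = z := by
    rw [C.qf_v hxQ, sqf_eq_one] at hq; exact (C.es.sq x hxQ).resolve_left hq
  have hsqy : y * y = z := by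
    have : C.qf (C.v y) = 1 := by rw [hy, C.aw_qf psi_cd, hq]
    rw [C.qf_v hyQ, sqf_eq_one] at this; exact (C.es.sq y hyQ).resolve_left this
  have hxy : x * y ≠ y * x := by rw [← hy, C.β_v hxQ hyQ, bet_eq_one] at hb; exact hb
  have hxW : x ∈ C.Wm o.comm := (o.mem_Wm_iff hxQ).mpr hfix
  have hyW : y ∈ C.Wm o.comm := (o.mem_Wm_iff hyQ).mpr (by rw [hy, o.P_act_v hs, hfix])
  have hPy : P (C.aw cd) (C.v y) = 0 := by rw [hy, P_comm (fun _ => rfl), hx0, map_zero]
  by_cases hxv : x * v = v * x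
  · exact ⟨x, y, hxQ, hyQ, hxv, hsqx, hsqy, hxy, hyW, hx0, hPy⟩
  by_cases hyv : y * v = v * y
  · exact ⟨y, x, hyQ, hxQ, hyv, hsqy, hsqx, Ne.symm hxy, hxW, hPy, hx0⟩
  have hcx : com v x = z := ((C.mem_Wm o.comm).mp hxW).2.resolve_left fun e => hxv (o.mem_cen hxQ e)
  have hcy : com v y = z := ((C.mem_Wm o.comm).mp hyW).2.resolve_left fun e => hyv (o.mem_cen hyQ e)
  have hxyQ : x * y ∈ Q := mul_mem hxQ hyQ
  refine ⟨x * y, x, hxyQ, hxQ, o.mem_cen hxyQ ?_, ?_, hsqx, fun e => ?_, hxW, ?_, hx0⟩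
  · rw [o.com_mul, hcx, hcy, mul_assoc y⁻¹, ← C.cz hyQ, inv_mul_cancel_left, C.zz]
  · refine (C.es.sq _ hxyQ).resolve_left (sqf_eq_one.mp ?_)
    rw [← C.qf_v hxyQ, C.v_mul hxQ hyQ, C.qf_add, C.qf_v hxQ, C.qf_v hyQ, C.β_v hxQ hyQ,
      sqf_eq_one.mpr (hsqx ▸ C.es.ne), sqf_eq_one.mpr (hsqy ▸ C.es.ne), bet_eq_one.mpr hxy]
    rfl
  · rw [mul_assoc] at e
    exact hxy (mul_left_cancel e).symm
  · rw [C.v_mul hxQ hyQ, map_add, hx0, hPy, add_zero]

/-- No quaternion group of order eight centralises `v`. -/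
theorem no_Q8 {a b : G} (ha : a ∈ Q) (hb : b ∈ Q) (hav : a * v = v * a) (hbv : b * v = v * b) (ha2 : a * a = z)
    (hb2 : b * b = z) (hab : a * b ≠ b * a) : False := by
  have hinv : a⁻¹ = a * z := inv_eq_of_mul_eq_one_right (by rw [← mul_assoc, ha2, C.zz])
  have hba : b * a = a⁻¹ * b := by
    rcases C.comm_cases' hb ha with e | e
    · exact absurd e.symm hab
    · rw [e, hinv, mul_assoc, mul_assoc, C.cz hb]
  have h := no_quat (a := C'.π a) (b := C'.π b) (by rw [← C'.map_mul _ _ hav hav, ← C'.map_mul _ _ hbv hbv, ha2, hb2])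
    (by rw [← C'.map_inv hav, ← C'.map_mul _ _ hbv hav, ← C'.map_mul _ _ (cz_inv hav) hbv, hba])
  rw [← C'.map_mul _ _ hav hav, ha2] at h
  exact o.zQ ((C'.ker z o.comm.symm).mp h)

theorem sum_psi (hS : ¬ C.Ten) (hψ : psi (C.π v) = 1) : False := by
  have hs := (psi_eq_one.mp hψ).1
  have hr := (psi_eq_one.mp hψ).2
  obtain ⟨a, c, haQ, hcQ, hav, ha2, hc2, hac, hcW, hPa, hPc⟩ := o.sum_plane hS hs
  by_cases hcv : c * v = v * c
  · exact o.no_Q8 haQ hcQ hav hcv ha2 hc2 hac
  set r := (C.π v).2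
  have hπ : C.π v = (1, r) := o.π_eq hs
  have hrr : r * r = 1 := congrArg Prod.snd o.π_sq
  have hr1 : r ≠ 1 := fun e => o.π_ne (by rw [hπ, e]; rfl)
  have hact : ∀ x, C.act v x = C.aw (1, r) x := C.aw_eq (psi_even hr) o.comm hπ
  obtain ⟨y, hyd, hyq, hyb⟩ := C.sum_wit hS hr hrr hr1
  obtain ⟨y', hy'Q, rfl⟩ := C.v_surj y
  set e1 := com v y' with he1
  have he1Q : e1 ∈ Q := C.com_mem o.comm hy'Q
  have he1P : e1 ∈ C.Pm o.comm := C.com_Pm o.comm hy'Q
  have he12 : e1 * e1 = z := by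
    refine (C.es.sq _ he1Q).resolve_left (sqf_eq_one.mp ?_)
    rw [← C.qf_v he1Q, he1, o.act_v_com hy'Q, hact, C.qf_add, C.aw_qf (psi_even hr), hyq, C.β_symm, hyb]
    rfl
  have he1v : ¬ e1 * v = v * e1 := fun e => C.es.ne (by rw [← he12]; exact o.com_comm.mp e)
  obtain ⟨f, g, hfd, hgd, hfr, hgr, hfg⟩ := C.sum_pair hS hr hrr hr1
  obtain ⟨f', hf'Q, rfl⟩ := C.v_surj f
  obtain ⟨g', hg'Q, rfl⟩ := C.v_surj g
  have hf'W : f' ∈ C.Wm o.comm := (o.mem_Wm_iff hf'Q).mpr (by rw [hact, hfr])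
  have hg'W : g' ∈ C.Wm o.comm := (o.mem_Wm_iff hg'Q).mpr (by rw [hact, hgr])
  have key : ∃ h, h ∈ C.Wm o.comm ∧ C.aw cd (C.v h) = C.v h ∧
      ((h * h = 1 ∧ ¬ h * v = v * h) ∨ (h * h = z ∧ h * v = v * h)) := by
    by_contra hh
    push Not at hh
    have bad : ∀ h, h ∈ C.Wm o.comm → C.aw cd (C.v h) = C.v h → sqf h = bet v h := by
      intro h hW hd
      obtain ⟨hhQ, -⟩ := (C.mem_Wm o.comm).mp hW
      obtain ⟨h1, h2⟩ := hh h hW hd
      rcases C.es.sq h hhQ with e | e
      · rw [sqf_eq_zero.mpr e, bet_eq_zero.mpr (h1 e).symm]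
      · rw [sqf_eq_one.mpr (e ▸ C.es.ne), bet_eq_one.mpr fun t => h2 e t.symm]
    have lam : bet v (f' * g') = bet v f' + bet v g' := by
      obtain ⟨-, hfc⟩ := (C.mem_Wm o.comm).mp hf'W
      obtain ⟨-, hgc⟩ := (C.mem_Wm o.comm).mp hg'W
      have val : ∀ t ∈ Q, com v t = z → bet v t = 1 := fun t ht e => bet_eq_one.mpr fun c =>
        C.es.ne (by rw [← e]; exact o.com_of_cen c.symm)
      have val0 : ∀ t ∈ Q, com v t = 1 → bet v t = 0 := fun t ht e => bet_eq_zero.mpr (o.mem_cen ht e).symm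
      have hm := o.com_mul f' g'
      have hzc : g'⁻¹ * z * g' = z := by rw [mul_assoc, ← C.cz hg'Q, inv_mul_cancel_left]
      rcases hfc with e | e <;> rcases hgc with e' | e' <;> rw [e, e'] at hm
      · rw [mul_one, inv_mul_cancel, one_mul] at hm
        rw [val0 _ hf'Q e, val0 _ hg'Q e', val0 _ (mul_mem hf'Q hg'Q) hm, add_zero]
      · rw [mul_one, inv_mul_cancel, mul_one] at hm
        rw [val0 _ hf'Q e, val _ hg'Q e', val _ (mul_mem hf'Q hg'Q) hm, zero_add]
      · rw [hzc, one_mul] at hm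
        rw [val _ hf'Q e, val0 _ hg'Q e', val _ (mul_mem hf'Q hg'Q) hm, add_zero]
      · rw [hzc, C.zz] at hm
        rw [val _ hf'Q e, val _ hg'Q e', val0 _ (mul_mem hf'Q hg'Q) hm]; rfl
    have hfgd : C.aw cd (C.v (f' * g')) = C.v (f' * g') := by rw [C.v_mul hf'Q hg'Q, map_add, hfd, hgd]
    have b3 := bad _ (mul_mem hf'W hg'W) hfgd
    rw [← C.qf_v (mul_mem hf'Q hg'Q), C.v_mul hf'Q hg'Q, C.qf_add, C.qf_v hf'Q, C.qf_v hg'Q, hfg, lam,
      bad f' hf'W hfd, bad g' hg'W hgd] at b3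
    exact absurd (add_left_cancel (b3.trans (add_zero _).symm)) (by decide)
  obtain ⟨h, hhW, hhd, hh⟩ := key
  have hhQ : h ∈ Q := ((C.mem_Wm o.comm).mp hhW).1
  have commA : ∀ t ∈ Q, P (C.aw cd) (C.v t) = 0 → h * t = t * h := fun t ht hPt => by
    rw [← bet_eq_zero, ← C.β_v hhQ ht]; exact C.orth (C.aw_β psi_cd) hhd hPt
  have ha_e : a * e1 = e1 * a := C.comm_WP o.comm (o.cen_Wm haQ hav) he1P
  have hc_e : c * e1 = e1 * c := C.comm_WP o.comm hcW he1P
  have hh_e : h * e1 = e1 * h := C.comm_WP o.comm hhW he1P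
  have hcc : com v c = z := ((C.mem_Wm o.comm).mp hcW).2.resolve_left fun e => hcv (o.mem_cen hcQ e)
  have he1c : com v e1 = z :=
    ((C.mem_Wm o.comm).mp (o.Pm_le he1P)).2.resolve_left fun e => he1v (o.mem_cen he1Q e)
  have zconj : ∀ t ∈ Q, t⁻¹ * z * t = z := fun t ht => by rw [mul_assoc, ← C.cz ht, inv_mul_cancel_left]
  rcases hh with ⟨hh2, hhv⟩ | ⟨hh2, hhv⟩
  · have hhc : com v h = z := ((C.mem_Wm o.comm).mp hhW).2.resolve_left fun e => hhv (o.mem_cen hhQ e)
    refine o.no_Q8 (b := c * h) haQ (mul_mem hcQ hhQ) hav (o.mem_cen (mul_mem hcQ hhQ) ?_) ha2 ?_ ?_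
    · rw [o.com_mul, hcc, hhc, zconj h hhQ, C.zz]
    · rw [mul_assoc, ← mul_assoc h c h, commA c hcQ hPc, mul_assoc c h h, hh2, mul_one, hc2]
    · intro e
      apply hac
      rw [← mul_assoc, mul_assoc c h a, commA a haQ hPa, ← mul_assoc] at e
      exact mul_right_cancel e
  · have hhc : com v h = 1 := o.com_of_cen hhv
    refine o.no_Q8 (b := c * (e1 * h)) haQ (mul_mem hcQ (mul_mem he1Q hhQ)) hav
      (o.mem_cen (mul_mem hcQ (mul_mem he1Q hhQ)) ?_) ha2 ?_ ?_
    · rw [o.com_mul, o.com_mul, hcc, hhc, he1c, one_mul, zconj h hhQ, zconj _ (mul_mem he1Q hhQ), C.zz]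
    · have k1 : Commute c (e1 * h) := Commute.mul_right hc_e (commA c hcQ hPc).symm
      have k2 : (e1 * h) * (e1 * h) = 1 := by
        rw [mul_assoc, ← mul_assoc h e1 h, hh_e, mul_assoc e1 h h, hh2, ← mul_assoc, he12, C.zz]
      rw [mul_assoc, ← mul_assoc (e1 * h) c, ← k1.eq, mul_assoc c (e1 * h), k2, mul_one, hc2]
    · intro e
      apply hac
      have k : Commute a (e1 * h) := Commute.mul_right ha_e (commA a haQ hPa).symm
      rw [← mul_assoc a c (e1 * h), mul_assoc c (e1 * h) a, ← k.eq, ← mul_assoc c a] at e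
      exact mul_right_cancel e

/-- Facts about a centralising conjugate in `2 ⊗ 4` with `Pm = Wm`. -/
theorem ten_W (hT : C.Ten) (hs : Equiv.Perm.sign (C.π v).1 = 1) (hWP : C.Wm o.comm = C.Pm o.comm) :
    Nat.card (C.Wm o.comm) = 32 ∧ ∀ w ∈ C.Wm o.comm, w * w = 1 ∧ w * v = v * w := by
  have hcard := C.card_WP o.comm
  rw [← hWP] at hcard
  have hW32 : Nat.card (C.Wm o.comm) = 32 := Nat.mul_self_inj.mp (hcard.trans (by norm_num))
  have hsq : ∀ w ∈ C.Wm o.comm, w * w = 1 := by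
    intro w hw
    have hwQ := ((C.mem_Wm o.comm).mp hw).1
    obtain ⟨y, hyQ, hy⟩ := C.v_surj (C.aw cd (C.v w))
    have hyW : y ∈ C.Wm o.comm := (o.mem_Wm_iff hyQ).mpr (by rw [hy, o.P_act_v hs, (o.mem_Wm_iff hwQ).mp hw])
    have hb : C.β (C.v w) (C.aw cd (C.v w)) = 0 := by
      rw [← hy, C.β_v hwQ hyQ, bet_eq_zero]; exact C.comm_WP o.comm hw (hWP ▸ hyW)
    have h3 := hT (C.v w)
    rw [P_apply] at h3
    have e : C.aw cd (C.aw cd (C.v w)) = C.v w + C.aw cd (C.v w) := by
      calc C.aw cd (C.aw cd (C.v w)) = C.aw cd (C.aw cd (C.v w)) + (C.v w + C.aw cd (C.v w) + C.aw cd (C.aw cd (C.v w))) := by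
            rw [h3, add_zero]
        _ = C.v w + C.aw cd (C.v w) + (C.aw cd (C.aw cd (C.v w)) + C.aw cd (C.aw cd (C.v w))) := by abel
        _ = _ := by rw [C.v_two, add_zero]
    have := congrArg C.qf e
    rw [C.aw_qf psi_cd, C.aw_qf psi_cd, C.qf_add, C.aw_qf psi_cd, hb, add_zero, zmod_two_self, C.qf_v hwQ,
      sqf_eq_zero] at this
    exact this
  refine ⟨hW32, fun w hw => ⟨hsq w hw, ?_⟩⟩
  obtain ⟨q, hq, e⟩ := (C.mem_Pm o.comm).mp (hWP ▸ hw)
  have hcq : com v q * v = v * com v q :=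
    o.com_comm.mpr (hsq _ (o.Pm_le (C.com_Pm o.comm hq)))
  rcases e with rfl | rfl
  · exact hcq
  · exact cz_mul hcq o.comm.symm

/-- The signs of elements of `C_Q(v)` in the frame of `v`. -/
theorem ten_psi (hT : C.Ten) (hs : Equiv.Perm.sign (C.π v).1 = 1) (hWP : C.Wm o.comm = C.Pm o.comm)
    {w : G} (hw : w ∈ C.Wm o.comm) : psi (C'.π w) = 1 ∨ psi (C'.π w) = psi (C'.π z) := by
  obtain ⟨-, hW⟩ := o.ten_W hT hs hWP
  obtain ⟨d, hdz, hdπ, -⟩ := C.exists_d
  -- `d` can be chosen to centralise `v`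
  have hwm : d * v * d⁻¹ * z = z * (d * v * d⁻¹) := cz_conj hdz o.comm
  set u := v⁻¹ * (d * v * d⁻¹) with hu
  have huQ : u ∈ Q := (C.ker u (cz_mul (cz_inv o.comm) hwm)).mp (by
    rw [C.map_mul _ _ (cz_inv o.comm) hwm, C.map_conj hdz o.comm, C.map_inv o.comm, hdπ, o.π_eq hs,
      show ((finRotate 3, 1) : W) = cd from rfl, cd_comm, mul_inv_cancel_right, inv_mul_cancel])
  have hvu : v * u = d * v * d⁻¹ := mul_inv_cancel_left _ _
  have hvuvu : v * u * (v * u) = 1 := by
    rw [hvu, show d * v * d⁻¹ * (d * v * d⁻¹) = d * (v * v) * d⁻¹ by group, C'.zz, mul_one, mul_inv_cancel]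
  have huW : u ∈ C.Wm o.comm := by
    refine (o.mem_Wm_iff huQ).mpr ?_
    have e : v * u * v⁻¹ = u⁻¹ := by
      rw [o.v_inv]; exact eq_inv_of_mul_eq_one_left (by rw [mul_assoc]; exact hvuvu)
    rw [C.act_v o.comm huQ, e, C.v_inv huQ]
  obtain ⟨q, hq, hqu⟩ := (C.mem_Pm o.comm).mp (hWP ▸ huW)
  obtain ⟨q, hq, hqu⟩ : ∃ q ∈ Q, u = com v q := by
    rcases hqu with e | e
    · exact ⟨q, hq, e⟩
    exfalso
    -- conjugation by `d` cannot exchange the two orbits of `Q`
    have hd1 : d * v * d⁻¹ = q⁻¹ * v * q * z := by rw [← hvu, e, ← mul_assoc, o.com_conj]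
    set d1 := q * d with hd1def
    have hd1z : d1 * z = z * d1 := cz_mul (C.cz hq) hdz
    have h1 : d1 * v * d1⁻¹ = v * z := by
      calc d1 * v * d1⁻¹ = q * (d * v * d⁻¹) * q⁻¹ := by rw [hd1def]; group
        _ = q * (q⁻¹ * v * q * z) * q⁻¹ := by rw [hd1]
        _ = v * (q * z) * q⁻¹ := by group
        _ = v * z := by rw [C.cz hq, mul_assoc, mul_inv_cancel_right]
    have hz' : d1 * z * d1⁻¹ = z := by rw [hd1z, mul_inv_cancel_right]
    have h3 : d1 * d1 * d1 * v * (d1 * d1 * d1)⁻¹ = v * z := by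
      calc _ = d1 * (d1 * (d1 * v * d1⁻¹) * d1⁻¹) * d1⁻¹ := by group
        _ = d1 * (d1 * (v * z) * d1⁻¹) * d1⁻¹ := by rw [h1]
        _ = d1 * (d1 * v * d1⁻¹ * (d1 * z * d1⁻¹)) * d1⁻¹ := by group
        _ = d1 * v * d1⁻¹ := by rw [h1, hz', mul_assoc v z z, C.zz, mul_one, h1]
        _ = v * z := h1
    set k := d1 * d1 * d1
    have hkz : k * z = z * k := cz_mul (cz_mul hd1z hd1z) hd1z
    have hk : k ∈ Q := (C.ker k hkz).mp (by
      rw [C.map_mul _ _ (cz_mul hd1z hd1z) hd1z, C.map_mul _ _ hd1z hd1z, hd1def, C.map_q_mul hdz hq, hdπ,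
        show ((finRotate 3, 1) : W) = cd from rfl, mul_assoc, cd_cube])
    have hkW : k ∈ C.Wm o.comm := by
      refine (o.mem_Wm_iff hk).mpr ?_
      rw [C.act_v o.comm hk, o.v_inv, C.v_eq_iff (C.conj_q o.comm hk |> fun t => by rwa [o.v_inv] at t) hk]
      have hkv : k * v = v * z * k := mul_inv_eq_iff_eq_mul.mp h3
      right
      calc k = v * (v * k) := by rw [← mul_assoc, C'.zz, one_mul]
        _ = v * (v * z * k * z) := by rw [mul_assoc (v * z), hkz, ← mul_assoc (v * z), mul_assoc v z z, C.zz, mul_one]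
        _ = v * (k * v * z) := by rw [hkv]
        _ = v * k * v * z := by group
    rw [(hW k hkW).2, mul_inv_cancel_right] at h3
    exact C.es.ne (mul_eq_left.mp h3.symm)
  set d1 := q * d with hd1def
  have hd1z : d1 * z = z * d1 := cz_mul (C.cz hq) hdz
  have hd1v : d1 * v = v * d1 := by
    refine mul_inv_eq_iff_eq_mul.mp ?_
    calc d1 * v * d1⁻¹ = q * (d * v * d⁻¹) * q⁻¹ := by rw [hd1def]; group
      _ = q * (q⁻¹ * v * q) * q⁻¹ := by rw [← hvu, hqu, o.com_conj]
      _ = v := by group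
  have hd1π : C.π d1 = cd := by rw [hd1def, C.map_q_mul hdz hq, hdπ]; rfl
  have hinv : ∀ t, t * v = v * t → psi (C'.π (d1 * t * d1⁻¹)) = psi (C'.π t) := fun t ht => by
    rw [C'.map_conj hd1v ht, map_mul, map_mul, map_inv, mul_comm (psi (C'.π d1)), mul_inv_cancel_right]
  have hwQ := ((C.mem_Wm o.comm).mp hw).1
  have hwv := (hW w hw).2
  set w1 := d1 * w * d1⁻¹
  set w2 := d1 * w1 * d1⁻¹
  have hw1Q : w1 ∈ Q := C.conj_q hd1z hwQ
  have hw2Q : w2 ∈ Q := C.conj_q hd1z hw1Q
  have hw1v : w1 * v = v * w1 := cz_conj hd1v hwv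
  have hw2v : w2 * v = v * w2 := cz_conj hd1v hw1v
  have hsum : C.v (w * w1 * w2) = 0 := by
    rw [C.v_mul (mul_mem hwQ hw1Q) hw2Q, C.v_mul hwQ hw1Q]
    have e1 : C.v w1 = C.aw cd (C.v w) := by rw [← C.act_v hd1z hwQ, C.aw_eq psi_cd hd1z hd1π]
    have e2 : C.v w2 = C.aw cd (C.v w1) := by rw [← C.act_v hd1z hw1Q, C.aw_eq psi_cd hd1z hd1π]
    rw [e2, e1]; exact hT _
  have hψ : psi (C'.π (w * w1 * w2)) = psi (C'.π w) := by
    rw [C'.map_mul _ _ (cz_mul hwv hw1v) hw2v, C'.map_mul _ _ hwv hw1v, map_mul, map_mul, hinv w1 hw1v, hinv w hwv,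
      psi_sq, one_mul]
  rcases (C.v_eq_zero (mul_mem (mul_mem hwQ hw1Q) hw2Q)).mp hsum with e | e <;> rw [e] at hψ
  · left; rw [← hψ, C'.map_one, map_one]
  · exact Or.inr hψ.symm

/-- No centralising conjugate in `2 ⊗ 4` with `z` in the kernel of both signs. -/
theorem dead_zero (hT : C.Ten) (hs : Equiv.Perm.sign (C.π v).1 = 1) (hWP : C.Wm o.comm = C.Pm o.comm)
    (hz : psi (C'.π z) = 1) : False := by
  classical
  obtain ⟨h32, hW⟩ := o.ten_W hT hs hWP
  let f : ↥(C.Wm o.comm) →* Equiv.Perm (Fin 6) :=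
    { toFun := fun w => (C'.π w).2
      map_one' := by show (C'.π ((1 : ↥(C.Wm o.comm)) : G)).2 = 1; rw [Subgroup.coe_one, C'.map_one]; rfl
      map_mul' := fun a b => by
        show (C'.π ((a * b : ↥(C.Wm o.comm)) : G)).2 = _
        rw [Subgroup.coe_mul, C'.map_mul _ _ (hW a a.2).2 (hW b b.2).2]; rfl }
  have hψ : ∀ w ∈ C.Wm o.comm, psi (C'.π w) = 1 := fun w hw => by
    rcases o.ten_psi hT hs hWP hw with e | e
    · exact e
    · rw [e, hz]
  have hπ : ∀ w ∈ C.Wm o.comm, C'.π w * C'.π w = 1 := fun w hw => by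
    rw [← C'.map_mul _ _ (hW w hw).2 (hW w hw).2, (hW w hw).1, C'.map_one]
  have hlt : Nat.card f.range < 8 := by
    refine even_elementary_lt (fun e he => ?_) (fun e he => ?_) <;> obtain ⟨w, rfl⟩ := he
    · exact congrArg Prod.snd (hπ w w.2)
    · exact (psi_eq_one.mp (hψ w w.2)).2
  have hker : ∀ w : ↥(C.Wm o.comm), w ∈ f.ker → (w : G) ∈ Q' := fun w hw => by
    refine (C'.ker _ (hW w w.2).2).mp (Prod.ext ?_ hw)
    exact fst_of_sq (hπ w w.2) (psi_eq_one.mp (hψ w w.2)).1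
  let H : Subgroup G :=
    { carrier := {h | h ∈ C.Wm o.comm ∧ (h ∈ Q' ∨ h * z ∈ Q')}
      one_mem' := ⟨one_mem _, Or.inl (one_mem _)⟩
      mul_mem' := fun {a b} ha hb => ⟨mul_mem ha.1 hb.1, by
        have hbz := C.cz (C.Wm_le o.comm hb.1)
        rcases ha.2 with e | e <;> rcases hb.2 with e' | e'
        · exact Or.inl (mul_mem e e')
        · right; rw [mul_assoc]; exact mul_mem e e'
        · right; have := mul_mem e e'; rwa [mul_assoc, ← hbz, ← mul_assoc] at this
        · left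
          have := mul_mem e e'
          rwa [mul_assoc, ← mul_assoc z b z, ← hbz, mul_assoc b z z, C.zz, mul_one] at this⟩
      inv_mem' := fun {a} ha => by
        have h2 : a⁻¹ = a := inv_eq_of_mul_eq_one_right (hW a ha.1).1
        show a⁻¹ ∈ C.Wm o.comm ∧ (a⁻¹ ∈ Q' ∨ a⁻¹ * z ∈ Q')
        rw [h2]; exact ha }
  have hzH : z ∈ H := ⟨C.z_Wm o.comm, Or.inr (by rw [C.zz]; exact one_mem _)⟩
  have h8 := o.card_I (H := H) (fun h hh => hWP ▸ hh.1) hzH fun h hh => hh.2
  have h2k : Nat.card f.ker * 2 ≤ Nat.card H := by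
    let g : f.ker × Bool → H := fun p => if p.2 then ⟨(p.1 : ↥(C.Wm o.comm)) * z,
        mul_mem (p.1 : ↥(C.Wm o.comm)).2 (C.z_Wm o.comm),
        Or.inr (by rw [mul_assoc, C.zz, mul_one]; exact hker _ p.1.2)⟩
      else ⟨(p.1 : ↥(C.Wm o.comm)), (p.1 : ↥(C.Wm o.comm)).2, Or.inl (hker _ p.1.2)⟩
    have hg : Function.Injective g := by
      rintro ⟨a, s⟩ ⟨b, t⟩ hab
      have := congrArg (fun h : H => (h : G)) hab
      cases s <;> cases t <;> simp only [g, if_true, if_false, Bool.false_eq_true] at this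
      · exact Prod.ext (Subtype.ext (Subtype.ext this)) rfl
      · exact absurd (by
          have := mul_mem (inv_mem (hker _ b.2)) (this ▸ hker _ a.2)
          rwa [inv_mul_cancel_left] at this) o.zQ
      · exact absurd (by
          have := mul_mem (inv_mem (hker _ a.2)) (this.symm ▸ hker _ b.2)
          rwa [inv_mul_cancel_left] at this) o.zQ
      · exact Prod.ext (Subtype.ext (Subtype.ext (mul_right_cancel this))) rfl
    have := Nat.card_le_card_of_injective g hg
    rwa [Nat.card_prod, Nat.card_eq_fintype_card (α := Bool), Fintype.card_bool] at this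
  have := Subgroup.card_mul_index f.ker
  rw [Subgroup.index_ker, h32] at this
  have h4 : Nat.card f.ker ≤ 4 := by omega
  obtain ⟨k, hk, hk'⟩ := (Nat.dvd_prime_pow Nat.prime_two).mp
    (show Nat.card f.range ∣ 2 ^ 5 from Dvd.intro_left _ this)
  rw [hk'] at this hlt
  have : k < 3 := (Nat.pow_lt_pow_iff_right (by norm_num : 1 < 2)).mp (show 2 ^ k < 2 ^ 3 from hlt)
  interval_cases k <;> omega

theorem ten_free (hT : C.Ten) (hψ : psi (C.π v) = 1) : C.Wm o.comm = C.Pm o.comm := by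
  refine le_antisymm (fun w hw => ?_) o.Pm_le
  have hs := (psi_eq_one.mp hψ).1
  have hr := (psi_eq_one.mp hψ).2
  have hπ := o.π_eq hs
  have hact : ∀ x, C.act v x = C.aw (1, (C.π v).2) x := C.aw_eq (psi_even hr) o.comm hπ
  have hwQ := ((C.mem_Wm o.comm).mp hw).1
  obtain ⟨y, hy⟩ := C.ten_free hT hr (congrArg Prod.snd o.π_sq) (fun e => o.π_ne (by rw [hπ, e]; rfl))
    (x := C.v w) (by rw [← hact]; exact (o.mem_Wm_iff hwQ).mp hw)
  obtain ⟨q, hq, rfl⟩ := C.v_surj y
  refine (C.mem_Pm o.comm).mpr ⟨q, hq, (C.v_eq_iff (C.com_mem o.comm hq) hwQ).mp ?_⟩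
  rw [o.act_v_com hq, hact, ← hy, add_comm]

theorem dead_psi_both (h1 : psi (C.π v) = 1) (h2 : psi (C'.π z) = 1) : False := by
  by_cases hT : C.Ten
  · exact o.dead_zero hT (psi_eq_one.mp h1).1 (o.ten_free hT h1) h2
  · exact o.sum_psi hT h1

theorem ten_swap (hT : C.Ten) (hs : Equiv.Perm.sign (C.π v).1 = 1) (hWP : C.Wm o.comm = C.Pm o.comm) : False := by
  obtain ⟨h32, hW⟩ := o.ten_W hT hs hWP
  obtain ⟨q, hq, hs2, hne, hφ⟩ := o.exists_swap psi psi_sq (C.Wm o.comm) hWP.le (C.z_Wm o.comm)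
    (fun h hh => (hW h hh).2) (fun h hh => o.ten_psi hT hs hWP hh) (by rw [h32]; norm_num)
  obtain ⟨o', h1, h2⟩ := o.exists_pair hq hs2 hne
  exact o'.dead_psi_both (by rw [h1, hφ]) (by rw [h2, hφ])

theorem dead_psi (hψ : psi (C.π v) = 1) : False := by
  by_cases hT : C.Ten
  · exact o.ten_swap hT (psi_eq_one.mp hψ).1 (o.ten_free hT hψ)
  · exact o.sum_psi hT hψ

/-- No centralising conjugate. -/
theorem dead_sign (hs : Equiv.Perm.sign (C.π v).1 = 1) : False := by
  classical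
  by_cases hR : ∃ r ∈ Q, r * v = v * r ∧ r * r = z
  · obtain ⟨r, -, hrv, hr2⟩ := hR
    exact o.symm.dead_psi (o.psi_of_sq hrv hr2)
  by_cases hT : C.Ten
  swap
  · obtain ⟨a, -, haQ, -, hav, ha2, -⟩ := o.sum_plane hT hs
    exact hR ⟨a, haQ, hav, ha2⟩
  refine o.ten_swap hT hs ?_
  push Not at hR
  set R := Q ⊓ Subgroup.centralizer ({v} : Set G)
  have hR32 : Nat.card R ≤ 32 := C.elem_le inf_le_left fun r hr =>
    (C.es.sq r hr.1).resolve_right (hR r hr.1 (Subgroup.mem_centralizer_singleton_iff.mp hr.2))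
  have hW64 : Nat.card (C.Wm o.comm) ≤ 2 * Nat.card R := o.card_Wm_le
  have hWP := C.card_WP o.comm
  have hPle : Nat.card (C.Pm o.comm) ≤ Nat.card (C.Wm o.comm) :=
    Nat.card_le_card_of_injective _ (Subgroup.inclusion_injective o.Pm_le)
  refine (Subgroup.eq_of_le_of_card_ge o.Pm_le ?_).symm
  by_contra hlt
  push Not at hlt
  -- then the fixed points form a set of 32 elements permuted by an element of order three
  have hW : Nat.card (C.Wm o.comm) = 64 := by
    obtain ⟨k, hk, hk'⟩ := (Nat.dvd_prime_pow Nat.prime_two).mp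
      (show Nat.card (C.Wm o.comm) ∣ 2 ^ 10 from Dvd.intro _ hWP)
    have hk6 : k ≤ 6 := by
      have : 2 ^ k ≤ 2 ^ 6 := by omega
      exact (Nat.pow_le_pow_iff_right (by norm_num : 1 < 2)).mp this
    rw [hk'] at hWP hlt ⊢
    interval_cases k <;> omega
  let F := {x : C.V // C.act v x = x}
  have hF : Nat.card F = 32 := by
    let g : F × Bool → C.Wm o.comm := fun p => ⟨if p.2 then C.rep p.1.1 * z else C.rep p.1.1, by
      have hm : C.rep p.1.1 ∈ C.Wm o.comm := (o.mem_Wm_iff (C.rep_mem _)).mpr (by rw [C.v_rep]; exact p.1.2)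
      split_ifs
      · exact mul_mem hm (C.z_Wm o.comm)
      · exact hm⟩
    have hg : Function.Bijective g := by
      refine ⟨?_, ?_⟩
      · rintro ⟨⟨a, ha⟩, s⟩ ⟨⟨b, hb⟩, t⟩ hab
        have he := congrArg (fun w : C.Wm o.comm => C.v (w : G)) hab
        have hab := congrArg (fun w : C.Wm o.comm => (w : G)) hab
        cases s <;> cases t <;>
          simp only [g, if_true, if_false, Bool.false_eq_true, C.v_mul_z (C.rep_mem _), C.v_rep] at he hab <;>
          subst he <;> first | rfl | exact absurd (left_eq_mul.mp hab) C.es.ne | exact absurd (mul_eq_left.mp hab) C.es.ne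
      · intro w
        have hwQ := ((C.mem_Wm o.comm).mp w.2).1
        rcases C.rep_cases hwQ with e | e
        · exact ⟨(⟨C.v w, (o.mem_Wm_iff hwQ).mp w.2⟩, false), Subtype.ext e⟩
        · refine ⟨(⟨C.v w, (o.mem_Wm_iff hwQ).mp w.2⟩, true), Subtype.ext ?_⟩
          show C.rep (C.v w) * z = w
          rw [e, mul_assoc, C.zz, mul_one]
    have := Nat.card_congr (Equiv.ofBijective g hg)
    rw [Nat.card_prod, Nat.card_eq_fintype_card (α := Bool), Fintype.card_bool, hW] at this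
    omega
  have hmod := card_mod_three (F := F) (fun x => ⟨C.aw cd x.1, by rw [o.P_act_v hs, x.2]⟩)
    (fun x => Subtype.ext (C.aw_cd3 x.1)) ⟨0, map_zero _⟩ fun x => ⟨fun e => Subtype.ext (by
      rw [← P_of_fix C.v_two (congrArg Subtype.val e)]; exact hT _),
      fun e => Subtype.ext (by rw [e]; exact map_zero (C.aw cd))⟩
  rw [hF] at hmod
  exact absurd hmod (by decide)

theorem no_opp : False := by
  classical
  by_cases hs : Equiv.Perm.sign (C.π v).1 = 1
  · exact o.dead_sign hs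
  by_cases hsz : Equiv.Perm.sign (C'.π z).1 = 1
  · exact o.symm.dead_sign hsz
  have hR : ∀ r ∈ Q, r * v = v * r → r * r = 1 := fun r hr hrv =>
    (C.es.sq r hr).resolve_right fun e => hsz (psi_eq_one.mp (o.psi_of_sq hrv e)).1
  set R := Q ⊓ Subgroup.centralizer ({v} : Set G)
  have hR32 : Nat.card R ≤ 32 := C.elem_le inf_le_left fun r hr =>
    hR r hr.1 (Subgroup.mem_centralizer_singleton_iff.mp hr.2)
  have hW64 : Nat.card (C.Wm o.comm) ≤ 2 * Nat.card R := o.card_Wm_le
  have hWP := C.card_WP o.comm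
  have hinv : ∀ x, C.act v (C.aw cd x) = C.aw cd (C.aw cd (C.act v x)) := fun x => by
    rw [C.act_aw o.comm psi_cd, ← C.aw_mul psi_cd psi_cd]
    congr 2
    refine Prod.ext ?_ (by simp [cd])
    have h : ∀ p : Equiv.Perm (Fin 3), Equiv.Perm.sign p ≠ 1 →
        p * finRotate 3 * p⁻¹ = finRotate 3 * finRotate 3 := by decide
    exact h _ hs
  have hinv2 : ∀ x, C.act v (C.act v x) = x := fun x => by
    rw [← C.act_mul o.comm o.comm, C'.zz, C.act_trivial (by simp) C.map_one]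
  have hW32 : Nat.card (C.Wm o.comm) ≤ 32 := by
    by_cases hT : C.Ten
    · -- the fixed space meets its image under `d` trivially
      set F := (C.act v - AddMonoidHom.id C.V).ker
      have memF : ∀ x, x ∈ F ↔ C.act v x = x := fun x => by
        rw [AddMonoidHom.mem_ker, AddMonoidHom.sub_apply, AddMonoidHom.id_apply, sub_eq_zero]
      set F' := F.map (C.aw cd)
      have hd : ∀ x ∈ F, x ∈ F' → x = 0 := by
        rintro _ hx ⟨y, hy, rfl⟩
        rw [memF, hinv, (memF y).mp hy] at hx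
        have e : C.aw cd y = y := C.aw_inj psi_cd hx
        rw [e, ← P_of_fix C.v_two e]; exact hT _
      have e := card_inf_sup hd
      have hle : Nat.card ↥(F ⊔ F') ≤ 256 := by
        rw [← C.card_V]; exact Nat.card_le_card_of_injective _ Subtype.val_injective
      have hF' : Nat.card F' = Nat.card F :=
        (Nat.card_congr (AddSubgroup.equivMapOfInjective F _ (C.aw_inj psi_cd)).toEquiv).symm
      rw [hF'] at e
      have h16 : Nat.card F ≤ 16 := Nat.mul_self_le_mul_self_iff.mp (by omega)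
      let g : C.Wm o.comm → F × Bool := fun w =>
        (⟨C.v w, (memF _).mpr ((o.mem_Wm_iff ((C.mem_Wm o.comm).mp w.2).1).mp w.2)⟩,
          decide (C.rep (C.v w) = w))
      have hg : Function.Injective g := by
        intro a b hab
        have h1 : C.v (a : G) = C.v b := congrArg (fun p : F × Bool => (p.1 : C.V)) hab
        have h2 : decide (C.rep (C.v a) = a) = decide (C.rep (C.v b) = b) := congrArg Prod.snd hab
        rw [decide_eq_decide, h1] at h2
        apply Subtype.ext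
        rcases C.rep_cases ((C.mem_Wm o.comm).mp b.2).1 with e' | e'
        · exact (h2.mpr e').symm.trans e'
        · have ha' : C.rep (C.v b) ≠ (a : G) := fun t => C.es.ne (mul_eq_left.mp ((h2.mp t).symm.trans e').symm)
          rcases C.rep_cases ((C.mem_Wm o.comm).mp a.2).1 with e'' | e'' <;> rw [h1] at e''
          · exact absurd e'' ha'
          · exact mul_right_cancel (e''.symm.trans e')
      have := Nat.card_le_card_of_injective g hg
      rw [Nat.card_prod, Nat.card_eq_fintype_card (α := Bool), Fintype.card_bool] at this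
      omega
    · obtain ⟨⟨x0, hx0, hx00, hq, -, hpl⟩, -⟩ := C.sum_core hT
      by_contra hlt
      push Not at hlt
      have hR' : Nat.card R = 32 := by
        obtain ⟨k, hk, hk'⟩ := (Nat.dvd_prime_pow Nat.prime_two).mp
          (show Nat.card R ∣ 2 ^ 9 by rw [show (2 : ℕ) ^ 9 = 512 from rfl, ← C.card]; exact Subgroup.card_dvd_of_le inf_le_left)
        rw [hk'] at hR32 hW64 ⊢
        have : k ≤ 5 := (Nat.pow_le_pow_iff_right (by norm_num : 1 < 2)).mp (show 2 ^ k ≤ 2 ^ 5 from hR32)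
        interval_cases k <;> omega
      have hRc : Q ⊓ Subgroup.centralizer (R : Set G) = R := by
        refine (Subgroup.eq_of_le_of_card_ge (le_inf inf_le_left fun r hr => Subgroup.mem_centralizer_iff.mpr
          fun t ht => ?_) ?_).symm
        · have h1 := hR _ (mul_mem ht.1 hr.1) (cz_mul (Subgroup.mem_centralizer_singleton_iff.mp ht.2)
            (Subgroup.mem_centralizer_singleton_iff.mp hr.2))
          have hti := inv_eq_of_mul_eq_one_right (hR t ht.1 (Subgroup.mem_centralizer_singleton_iff.mp ht.2))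
          have hri := inv_eq_of_mul_eq_one_right (hR r hr.1 (Subgroup.mem_centralizer_singleton_iff.mp hr.2))
          have := inv_eq_of_mul_eq_one_right h1
          rw [mul_inv_rev, hti, hri] at this
          exact this.symm
        · have := C.card_cent (A := R) inf_le_left ⟨C.es.mem, Subgroup.mem_centralizer_singleton_iff.mpr o.comm.symm⟩
          rw [hR'] at this ⊢; omega
      obtain ⟨x, hx, hxK⟩ : ∃ x, C.act v x ≠ x ∧ (x = x0 ∨ x = C.aw cd x0) := by
        by_contra hh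
        push Not at hh
        have e1 : C.act v x0 = x0 := by by_contra t; exact (hh x0 t).1 rfl
        have e2 : C.act v (C.aw cd x0) = C.aw cd x0 := by by_contra t; exact (hh _ t).2 rfl
        rw [hinv, e1] at e2
        exact hx00 (by rw [← P_of_fix C.v_two (C.aw_inj psi_cd e2), hx0])
      have hKx : P (C.aw cd) x = 0 := by
        rcases hxK with rfl | rfl
        · exact hx0
        · rw [P_comm (fun _ => rfl), hx0, map_zero]
      have hy : C.act v x + x ≠ 0 := fun e => hx (by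
        calc C.act v x = C.act v x + (x + x) := by rw [C.v_two, add_zero]
          _ = x := by rw [← add_assoc, e, zero_add])
      have hyK : P (C.aw cd) (C.act v x + x) = 0 := by rw [map_add, ← C.act_P o.comm, hKx, map_zero, add_zero]
      have hyq : C.qf (C.act v x + x) = 1 := by
        have qd : C.qf (C.aw cd x0) = 1 := by rw [C.aw_qf psi_cd, hq]
        rcases hpl _ hyK with e | e | e | e
        · exact absurd e hy
        all_goals rw [e]
        · exact hq
        · exact qd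
        · have h3 : C.aw cd (C.aw cd x0) = x0 + C.aw cd x0 := by
            have hh := hx0
            rw [P_apply] at hh
            calc C.aw cd (C.aw cd x0) = C.aw cd (C.aw cd x0) + (x0 + C.aw cd x0 + C.aw cd (C.aw cd x0)) := by
                  rw [hh, add_zero]
              _ = x0 + C.aw cd x0 + (C.aw cd (C.aw cd x0) + C.aw cd (C.aw cd x0)) := by abel
              _ = x0 + C.aw cd x0 := by rw [C.v_two, add_zero]
          rw [← h3, C.aw_qf psi_cd, qd]
      obtain ⟨x', hx'Q, rfl⟩ := C.v_surj x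
      rw [← o.act_v_com hx'Q, C.qf_v (C.com_mem o.comm hx'Q), sqf_eq_one] at hyq
      have hp : com v x' ∈ R := hRc ▸ ⟨C.com_mem o.comm hx'Q, Subgroup.mem_centralizer_iff.mpr fun r hr =>
        C.comm_WP o.comm (o.cen_Wm hr.1 (Subgroup.mem_centralizer_singleton_iff.mp hr.2)) (C.com_Pm o.comm hx'Q)⟩
      exact hyq (hR _ hp.1 (Subgroup.mem_centralizer_singleton_iff.mp hp.2))
  have hP32 : Nat.card (C.Pm o.comm) ≤ Nat.card (C.Wm o.comm) :=
    Nat.card_le_card_of_injective _ (Subgroup.inclusion_injective o.Pm_le)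
  have hWeq : Nat.card (C.Wm o.comm) = 32 := by
    have : 1024 ≤ Nat.card (C.Wm o.comm) * Nat.card (C.Wm o.comm) := hWP ▸ Nat.mul_le_mul_left _ hP32
    have : 32 ≤ Nat.card (C.Wm o.comm) := Nat.mul_self_le_mul_self_iff.mp this
    omega
  have hWPeq : C.Pm o.comm = C.Wm o.comm := by
    refine Subgroup.eq_of_le_of_card_ge o.Pm_le ?_
    rw [hWeq] at hWP ⊢; omega
  let φ : W →* ℤˣ := Equiv.Perm.sign.comp (MonoidHom.fst _ _)
  obtain ⟨q, hq, hs2, hne, hφ⟩ := o.exists_swap φ (fun w => Int.units_mul_self _) R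
    (fun r hr => hWPeq ▸ o.cen_Wm hr.1 (Subgroup.mem_centralizer_singleton_iff.mp hr.2))
    ⟨C.es.mem, Subgroup.mem_centralizer_singleton_iff.mpr o.comm.symm⟩
    (fun r hr => Subgroup.mem_centralizer_singleton_iff.mp hr.2)
    (fun r hr => by
      show Equiv.Perm.sign (C'.π r).1 = 1 ∨ Equiv.Perm.sign (C'.π r).1 = Equiv.Perm.sign (C'.π z).1
      rw [(Int.units_eq_one_or (Equiv.Perm.sign (C'.π z).1)).resolve_left hsz]
      exact Int.units_eq_one_or _)
    (by omega)
  obtain ⟨o', h1, -⟩ := o.exists_pair hq hs2 hne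
  exact o'.dead_sign (by rw [h1]; exact hφ)

end Opp

end CfsgSTS
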