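/-
The involution `z` commutes with no other conjugate of itself.
-/
import Cfsg.Agent.Lib.SymThreeAltSix.Weak
import Cfsg.Agent.Lib.SymThreeAltSix.FusedTen

set_option autoImplicit false

namespace CfsgSTS

open CfsgLargeExtra

variable {G : Type*} [Group G] [Finite G] {Q : Subgroup G} {z : G}

/-- `z` is weakly closed in `Q`. -/
theorem Cfg.weakly_closed (C : Cfg Q z) (g : G) (h : g * z * g⁻¹ ∈ Q) : g * z * g⁻¹ = z := by
  by_contra hne
  have F : Fus C g := ⟨h, hne⟩
  by_cases hT : C.Ten
  · rcases C.exists_small hT with hS | ⟨C', hT', hS'⟩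
    · exact F.ten_false (C.exists_lab hT hS).some
    · exact (⟨h, hne⟩ : Fus C' g).ten_false (C'.exists_lab hT' hS').some
  · exact F.sum_false hT

/-- No other conjugate of `z` commutes with `z`. -/
theorem Cfg.no_comm (C : Cfg Q z) (k : G) (h : k * z * k⁻¹ * z = z * (k * z * k⁻¹)) : k * z * k⁻¹ = z := by
  by_contra hne
  refine Opp.no_opp (C := C) (C' := C.conj k)
    ⟨h, fun hv => hne (C.weakly_closed k hv), fun hz => hne ?_, C.weakly_closed, (C.conj k).weakly_closed⟩
  have e : k⁻¹ * z * k⁻¹⁻¹ = z := C.weakly_closed k⁻¹ (by rw [inv_inv]; exact mem_cj.mp hz)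
  conv_lhs => rw [← e]
  group

end CfsgSTS
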