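/-
Groups with such an involution are not simple.
-/
import Cfsg.Agent.Lib.SymThreeAltSix.Main
import Cfsg.Agent.Lib.LargeExtra.Sections
import Cfsg.Agent.Lib.ZStar.Main

set_option autoImplicit false

namespace CfsgSTS

open Cfsg CfsgLargeExtra

/-- Being extraspecial passes along isomorphisms. -/
theorem extraspecial_congr {X Y : Type*} [Group X] [Group Y] {p : ℕ} (e : X ≃* Y) (h : IsExtraspecial p X) :
    IsExtraspecial p Y := by
  obtain ⟨⟨hp, hf, hd⟩, hc⟩ := h
  have hcen : (Subgroup.center X).map e.toMonoidHom = Subgroup.center Y := by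
    ext y
    rw [Subgroup.mem_map_equiv, Subgroup.mem_center_iff, Subgroup.mem_center_iff]
    constructor
    · intro hh t
      apply e.symm.injective
      rw [_root_.map_mul, _root_.map_mul]
      exact hh _
    · intro hh t
      apply e.injective
      simp only [_root_.map_mul, MulEquiv.apply_symm_apply]
      exact hh _
  have hfr : (frattini X).map e.toMonoidHom = frattini Y := by
    refine le_antisymm ?_ ?_
    · exact Subgroup.map_le_iff_le_comap.mpr (frattini_le_comap_frattini_of_surjective e.surjective)
    · intro y hy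
      rw [Subgroup.mem_map_equiv]
      exact frattini_le_comap_frattini_of_surjective (φ := e.symm.toMonoidHom) e.symm.surjective hy
  refine ⟨⟨hp.of_equiv e, ?_, ?_⟩, ?_⟩
  · rw [← hfr, hf, hcen]
  · rw [← hcen, ← hd, _root_.commutator_def, _root_.commutator_def, Subgroup.map_commutator,
      Subgroup.map_top_of_surjective e.toMonoidHom e.surjective]
  · rw [← hcen, Subgroup.card_map_of_injective (f := e.toMonoidHom) e.injective, hc]

variable {G : Type*} [Group G]

/-- The setting from a map on the centralizer. -/
noncomputable def Cfg.ofHom {Q : Subgroup G} {z : G} (es : ES Q z) (card : Nat.card Q = 512)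
    (N : Subgroup ↥(Subgroup.centralizer ({z} : Set G)))
    (hN : N.map (Subgroup.centralizer ({z} : Set G)).subtype = Q)
    (φ : ↥(Subgroup.centralizer ({z} : Set G)) →* W) (hker : φ.ker = N)
    (hbig : ∀ w, psi w = 1 → w ∈ φ.range) : Cfg Q z where
  es := es
  card := card
  π a := open scoped Classical in if h : a ∈ Subgroup.centralizer ({z} : Set G) then φ ⟨a, h⟩ else 1
  map_mul a b ha hb := by
    rw [dif_pos (Subgroup.mem_centralizer_singleton_iff.mpr ha), dif_pos (Subgroup.mem_centralizer_singleton_iff.mpr hb),
      dif_pos (Subgroup.mem_centralizer_singleton_iff.mpr (cz_mul ha hb)), ← _root_.map_mul]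
    rfl
  ker a ha := by
    rw [dif_pos (Subgroup.mem_centralizer_singleton_iff.mpr ha), ← MonoidHom.mem_ker, hker, ← hN]
    exact (Subgroup.mem_map_iff_mem (Subgroup.subtype_injective _)
      (x := ⟨a, Subgroup.mem_centralizer_singleton_iff.mpr ha⟩)).symm
  big w hw := by
    obtain ⟨⟨a, ha⟩, rfl⟩ := hbig w hw
    exact ⟨a, Subgroup.mem_centralizer_singleton_iff.mp ha, dif_pos ha⟩

variable [Finite G]

/-- Such a group is not simple. -/
theorem Cfg.not_simple {Q : Subgroup G} {z : G} (C : Cfg Q z) : ¬ IsSimpleGroup G := by
  intro hS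
  have := Fact.mk Nat.prime_two
  have hz : orderOf z = 2 := orderOf_eq_prime (by rw [pow_two]; exact C.zz) C.es.ne
  have hiso : IsIsolated z := fun g hg => C.no_comm g hg.symm.eq
  rcases IsSimpleGroup.eq_bot_or_eq_top_of_normal (pPrimeCore 2 G) inferInstance with h | h
  · have hcz : z ∈ Subgroup.center G := Subgroup.mem_center_iff.mpr fun g => by
      have e := CfsgLib.ZStar.commutator_mem hz hiso g
      rw [h, Subgroup.mem_bot, mul_inv_eq_one, mul_inv_eq_iff_eq_mul] at e
      exact e.symm
    rcases IsSimpleGroup.eq_bot_or_eq_top_of_normal (Subgroup.center G) inferInstance with h' | h'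
    · rw [h', Subgroup.mem_bot] at hcz
      exact C.es.ne hcz
    · have hle : Q ≤ (Subgroup.zpowers z) := fun q hq => by
        rcases C.es.cen q fun r _ => (Subgroup.mem_center_iff.mp (h' ▸ Subgroup.mem_top q : q ∈ Subgroup.center G) r).symm
          with e | e <;> rw [e]
        · exact one_mem _
        · exact Subgroup.mem_zpowers z
      have := Nat.card_le_card_of_injective _ (Subgroup.inclusion_injective hle)
      rw [C.card, Nat.card_zpowers, hz] at this
      omega
  · have h1 : Nat.Coprime (Nat.card (pPrimeCore 2 G)) 2 := CfsgLib.card_pPrimeCore_coprime 2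
    have h2 : 2 ∣ Nat.card (pPrimeCore 2 G) := by
      rw [h, Subgroup.card_top, ← hz]
      exact orderOf_dvd_natCard z
    exact absurd (Nat.coprime_two_right.mp h1) (by
      rw [Nat.not_odd_iff_even, even_iff_two_dvd]; exact h2)

end CfsgSTS
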